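import Mathlib.Algebra.Group.Subgroup.Finite
import Mathlib.GroupTheory.Coset.Card
import Mathlib.GroupTheory.QuotientGroup.Basic
import Mathlib.Algebra.Group.Hom.Instances
import Mathlib.SetTheory.Cardinal.Finite
import Mathlib.Data.FunLike.Fintype

/-!
# The counting lemma

* `card_le_of_lines` : `Φ` a group of homomorphisms `M → Λ`, `lam j` subgroups of `M` of order `≥ |Λ|`, every `φ ∈ Φ` is 0
  or injective on every `lam j`, and `φ ∈ Φ` is 0 if it kills all `lam j`; then `|Φ| |C_M(Φ)| ≤ |M|`;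
* `exact_sup` : the sum of two exact subgroups of a group in which `|Φ| |C_M(Φ)| ≤ |M|` is exact.
-/

set_option autoImplicit false

namespace Cfsg.Agent.Omega.NO3S.MidB.No

section

variable {M Λ ι : Type*} [AddCommGroup M] [AddCommGroup Λ]

theorem card_mul_le {C D E : AddSubgroup M} [Finite M] (hC : C ≤ E) (hD : D ≤ E) (h : ∀ x ∈ C, x ∈ D → x = 0) :
    Nat.card C * Nat.card D ≤ Nat.card E := by
  rw [← Nat.card_prod]
  refine Nat.card_le_card_of_injective (fun p : C × D => (⟨p.1.1 + p.2.1, add_mem (hC p.1.2) (hD p.2.2)⟩ : E)) ?_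
  rintro ⟨⟨a, ha⟩, ⟨b, hb⟩⟩ ⟨⟨c, hc⟩, ⟨d, hd⟩⟩ e
  have e1 : a + b = c + d := congrArg Subtype.val e
  have e2 : a - c = d - b := by
    rw [sub_eq_sub_iff_add_eq_add]
    rw [e1, add_comm]
  have h1 : a - c = 0 := h _ (sub_mem ha hc) (by rw [e2]; exact sub_mem hd hb)
  have h2 : a = c := sub_eq_zero.1 h1
  have h3 : b = d := by
    rw [h1] at e2
    exact (sub_eq_zero.1 e2.symm).symm
  subst h2 h3
  rfl

theorem card_ev_le [Finite M] [Finite Λ] (Φ Φ' : AddSubgroup (M →+ Λ)) (b : M)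
    (h : ∀ φ ∈ Φ, φ b = 0 → φ ∈ Φ') : Nat.card Φ ≤ Nat.card Φ' * Nat.card Λ := by
  have : Finite (M →+ Λ) := DFunLike.finite _
  let ev : Φ →+ Λ := ((AddMonoidHom.eval : M →+ (M →+ Λ) →+ Λ) b).comp Φ.subtype
  have h1 : Nat.card Φ = Nat.card (Φ ⧸ ev.ker) * Nat.card ev.ker :=
    AddSubgroup.card_eq_card_quotient_mul_card_addSubgroup ev.ker
  have h2 : Nat.card (Φ ⧸ ev.ker) ≤ Nat.card Λ := by
    rw [Nat.card_congr (QuotientAddGroup.quotientKerEquivRange ev).toEquiv]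
    exact Nat.card_le_card_of_injective (fun x : ev.range => (x : Λ)) Subtype.val_injective
  have h3 : Nat.card ev.ker ≤ Nat.card Φ' := by
    refine Nat.card_le_card_of_injective (fun x : ev.ker => (⟨x.1.1, h _ x.1.2 x.2⟩ : Φ')) ?_
    intro x y e
    exact Subtype.ext (Subtype.ext (congrArg (fun t : Φ' => (t : M →+ Λ)) e))
  rw [h1, mul_comm]
  exact Nat.mul_le_mul h3 h2

/-- **the counting lemma** -/
theorem card_le_of_lines [Finite M] [Finite Λ] (lam : ι → AddSubgroup M) (hcard : ∀ j, Nat.card Λ ≤ Nat.card (lam j))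
    (Φ : AddSubgroup (M →+ Λ)) (hgen : ∀ φ ∈ Φ, (∀ j, ∀ b ∈ lam j, φ b = 0) → φ = 0)
    (hti : ∀ φ ∈ Φ, ∀ j, ∀ b ∈ lam j, b ≠ 0 → φ b = 0 → ∀ c ∈ lam j, φ c = 0)
    (C : AddSubgroup M) (hC : ∀ m ∈ C, ∀ φ ∈ Φ, φ m = 0) : Nat.card Φ * Nat.card C ≤ Nat.card M := by
  have hf : Finite (M →+ Λ) := DFunLike.finite _
  obtain ⟨n, hn⟩ : ∃ n, Nat.card Φ = n := ⟨_, rfl⟩
  induction n using Nat.strong_induction_on generalizing Φ C with
  | _ n ih =>
    by_cases h0 : ∀ φ ∈ Φ, φ = 0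
    · have h1 : Nat.card Φ = 1 := by
        rw [(AddSubgroup.eq_bot_iff_forall _).2 h0, AddSubgroup.card_bot]
      rw [h1, one_mul]
      exact Nat.card_le_card_of_injective (fun x : C => (x : M)) Subtype.val_injective
    · push Not at h0
      obtain ⟨φ₀, hφ₀, hφ0⟩ := h0
      obtain ⟨j, b, hb, hb0⟩ : ∃ j, ∃ b ∈ lam j, φ₀ b ≠ 0 := by
        by_contra hcon
        push Not at hcon
        exact hφ0 (hgen φ₀ hφ₀ hcon)
      have hbne : b ≠ 0 := fun e => hb0 (by rw [e, map_zero])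
      let Φ' : AddSubgroup (M →+ Λ) := Φ ⊓ ((AddMonoidHom.eval : M →+ (M →+ Λ) →+ Λ) b).ker
      have hmem : ∀ φ, φ ∈ Φ' ↔ φ ∈ Φ ∧ φ b = 0 := fun φ => Iff.rfl
      let C' : AddSubgroup M :=
        { carrier := {m | ∀ φ ∈ Φ', φ m = 0}
          zero_mem' := fun φ _ => map_zero φ
          add_mem' := fun {x y} hx hy φ hφ => by rw [map_add, hx φ hφ, hy φ hφ, add_zero]
          neg_mem' := fun {x} hx φ hφ => by rw [map_neg, hx φ hφ, neg_zero] }
      have hCC' : C ≤ C' := fun m hm φ hφ => hC m hm φ ((hmem φ).1 hφ).1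
      have hlC' : lam j ≤ C' := fun m hm φ hφ =>
        hti φ ((hmem φ).1 hφ).1 j b hb hbne ((hmem φ).1 hφ).2 m hm
      have hdis : ∀ x ∈ C, x ∈ lam j → x = 0 := by
        intro x hx hx'
        by_contra hx0
        exact hb0 (hti φ₀ hφ₀ j x hx' hx0 (hC x hx φ₀ hφ₀) b hb)
      have h1 := card_mul_le hCC' hlC' hdis
      have h2 := card_ev_le Φ Φ' b (fun φ hφ e => (hmem φ).2 ⟨hφ, e⟩)
      have hlt : Nat.card Φ' < n := by
        rw [← hn]
        apply lt_of_le_of_ne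
        · exact Nat.card_le_card_of_injective (fun x : Φ' => (⟨x.1, ((hmem _).1 x.2).1⟩ : Φ)) fun x y e =>
            Subtype.ext (congrArg (fun t : Φ => (t : M →+ Λ)) e)
        · intro e
          have hle : Φ' ≤ Φ := inf_le_left
          have h3 : Φ' = Φ := AddSubgroup.eq_of_le_of_card_ge hle (by rw [e, hn])
          exact hb0 ((hmem φ₀).1 (h3 ▸ hφ₀)).2
      have h3 := ih _ hlt Φ' (fun φ hφ => hgen φ ((hmem φ).1 hφ).1) (fun φ hφ => hti φ ((hmem φ).1 hφ).1) C'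
        (fun m hm φ hφ => hm φ hφ) rfl
      calc Nat.card Φ * Nat.card C ≤ Nat.card Φ' * Nat.card Λ * Nat.card C := Nat.mul_le_mul_right _ h2
        _ = Nat.card Φ' * (Nat.card C * Nat.card Λ) := by rw [Nat.mul_assoc, Nat.mul_comm (Nat.card Λ)]
        _ ≤ Nat.card Φ' * (Nat.card C * Nat.card (lam j)) :=
          Nat.mul_le_mul_left _ (Nat.mul_le_mul_left _ (hcard j))
        _ ≤ Nat.card Φ' * Nat.card C' := Nat.mul_le_mul_left _ h1
        _ ≤ Nat.card M := h3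

end

end Cfsg.Agent.Omega.NO3S.MidB.No
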