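import Cfsg.Agent.Omega.NO3S.MidQ.McL
import Mathlib.Tactic.Abel

/-!
# Groups generated by transvections: a 2-group normalised by the stabiliser of a point

`McL lam Φ` with `Big`, `Dist`.  `ActTf lam Φ o f` : `f` is an involution of `M`, fixes the point `lam o` elementwise,
permutes the points and the `Φ j`; for `s = (1 + ψ) (1 + ψ')`, `ψ`, `ψ'` killing `lam o`, `s⁻¹ f s f` is a 2-element;
`(1 + φ) f`, `φ ∈ Φ o`, is trivial on every point which it fixes.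

* `McL.not_two` : `(1 + ψ') (1 + ψ)` is not a 2-element on `lam i + lam j` if `ψ ∈ Φ i` moves `lam j`, `ψ' ∈ Φ j` moves
  `lam i`;
* `McL.disp` : `f b + b ∈ lam o` for every `b ∈ lam j`.
-/

set_option autoImplicit false

namespace Cfsg.Agent.Omega.NO3S.MidQ

variable {M ι : Type*} [AddCommGroup M] {lam : ι → AddSubgroup M} {Φ : ι → AddSubgroup (AddMonoid.End M)}

/-- see the header -/
structure ActTf (lam : ι → AddSubgroup M) (Φ : ι → AddSubgroup (AddMonoid.End M)) (o : ι) (f : AddMonoid.End M) :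
    Prop where
  sq : f * f = 1
  fix : ∀ a ∈ lam o, f a = a
  mv : ∀ j, ∃ k, (∀ m ∈ lam j, f m ∈ lam k) ∧ ∀ ψ ∈ Φ j, f * ψ * f ∈ Φ k
  two : ∀ j, ∀ ψ ∈ Φ j, ∀ j', ∀ ψ' ∈ Φ j', Kl lam ψ o → Kl lam ψ' o →
    ∃ n : ℕ, ((1 + ψ') * (1 + ψ) * f * ((1 + ψ) * (1 + ψ')) * f) ^ (2 ^ n) = 1
  triv : ∀ φ ∈ Φ o, ∀ j, ∀ a ∈ lam j, a ≠ 0 → f a + φ (f a) ∈ lam j → f a + φ (f a) = a

namespace McL

variable (h : McL lam Φ)
include h

theorem phi_eq {i j : ι} (e : lam i = lam j) : Φ i = Φ j := by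
  obtain ⟨a, ha, ha0⟩ := h.lne i
  exact (h.same i j a ha (e ▸ ha) ha0).2

theorem jj_ne {i j : ι} (hj : JJ lam Φ i j) : lam i ≠ lam j := by
  intro e
  obtain ⟨φ, hφ, b, hb, hne⟩ := hj
  exact hne (h.ker i φ hφ b (e ▸ hb))

omit h in
theorem jj_right {i j k : ι} (hj : JJ lam Φ i j) (e : lam j = lam k) : JJ lam Φ i k := by
  obtain ⟨φ, hφ, b, hb, hne⟩ := hj
  exact ⟨φ, hφ, b, e ▸ hb, hne⟩

theorem jj_left {i j k : ι} (hj : JJ lam Φ i j) (e : lam i = lam k) : JJ lam Φ k j := by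
  obtain ⟨φ, hφ, b, hb, hne⟩ := hj
  exact ⟨φ, h.phi_eq e ▸ hφ, b, hb, hne⟩

theorem one_add_eq_zero {i : ι} {φ : AddMonoid.End M} (hφ : φ ∈ Φ i) {m : M} (e : m + φ m = 0) : m = 0 := by
  have h10 : ((1 + φ) * (1 + φ)) m = 0 := by
    show (1 + φ) (m + φ m) = 0
    rw [e, map_zero]
  rw [h.sq_end hφ] at h10
  exact h10

/-- the elements of `lam i + lam j` lie in points, if `i`, `j` are joined -/
theorem exists_add {i j : ι} (hj : JJ lam Φ i j) {a b : M} (ha : a ∈ lam i) (hb : b ∈ lam j) :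
    ∃ k, a + b ∈ lam k ∧ (lam k = lam i ∨ JJ lam Φ i k) := by
  by_cases hb0 : b = 0
  · exact ⟨i, by rw [hb0, add_zero]; exact ha, Or.inl rfl⟩
  obtain ⟨φ, hφ, e⟩ := h.surj i j b hb (h.moves hj hb hb0) a ha
  obtain ⟨k, h1, h2⟩ := h.mv i j φ hφ
  refine ⟨k, by have := h1 b hb; rwa [e, add_comm] at this, Or.inr ?_⟩
  obtain ⟨χ, hχ, c, hc, hne⟩ := h.symm hj
  refine h.symm ⟨_, h2 χ hχ, c, hc, fun e1 => hne ?_⟩
  have e2 : χ c + φ (χ c) = 0 := by
    have e3 : (1 + φ) (χ (c + φ c)) = 0 := e1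
    rw [h.ker i φ hφ c hc, add_zero] at e3
    exact e3
  exact h.one_add_eq_zero hφ e2

theorem pow_two_pow (N : AddMonoid.End M) (n : ℕ) : (1 + N) ^ (2 ^ n) = 1 + N ^ (2 ^ n) := by
  induction n with
  | zero => rw [pow_zero, pow_one, pow_one]
  | succ n ih =>
    rw [pow_succ, pow_mul, ih, pow_mul, pow_two, pow_two, add_mul, mul_add, mul_add, one_mul, mul_one, one_mul]
    have h1 := h.two_end (N ^ 2 ^ n)
    calc 1 + N ^ 2 ^ n + (N ^ 2 ^ n + N ^ 2 ^ n * N ^ 2 ^ n)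
        = 1 + (N ^ 2 ^ n + N ^ 2 ^ n) + N ^ 2 ^ n * N ^ 2 ^ n := by abel
      _ = _ := by rw [h1, add_zero]

/-- **two transvections moving each other's centres do not generate a 2-group** -/
theorem not_two {i j : ι} {ψ ψ' : AddMonoid.End M} (hψ : ψ ∈ Φ i) (hψ' : ψ' ∈ Φ j) (h1 : ¬ Kl lam ψ j)
    (h2 : ¬ Kl lam ψ' i) (n : ℕ) : ∃ e ∈ lam i ⊔ lam j, (((1 + ψ') * (1 + ψ)) ^ (2 ^ n) : AddMonoid.End M) e ≠ e := by
  have hne : ∀ c ∈ lam i, c ∈ lam j → c = 0 := by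
    intro c hc hc'
    by_contra hc0
    have h3 := (h.same i j c hc hc' hc0).1
    exact h1 fun b hb => h.ker i ψ hψ b (h3 ▸ hb)
  set N : AddMonoid.End M := ψ' + ψ + ψ' * ψ with hN
  have e1 : (1 + ψ') * (1 + ψ) = 1 + N := by
    rw [hN, add_mul, one_mul, mul_add, mul_one]
    abel
  have hNE : ∀ m, N m ∈ lam i ⊔ lam j := by
    intro m
    show ψ' m + ψ m + ψ' (ψ m) ∈ _
    exact add_mem (add_mem ((le_sup_right : lam j ≤ _) (h.val j ψ' hψ' m)) ((le_sup_left : lam i ≤ _) (h.val i ψ hψ m)))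
      ((le_sup_right : lam j ≤ _) (h.val j ψ' hψ' _))
  have hinj : ∀ v ∈ lam i ⊔ lam j, N v = 0 → v = 0 := by
    intro v hv hv0
    obtain ⟨a, ha, b, hb, rfl⟩ := AddSubgroup.mem_sup.1 hv
    have e2 : ψ' (a + b) + ψ (a + b) + ψ' (ψ (a + b)) = 0 := hv0
    have e3 : ψ (a + b) ∈ lam j := by
      have e4 : ψ (a + b) = -(ψ' (a + b) + ψ' (ψ (a + b))) := by
        rw [eq_neg_iff_add_eq_zero, ← e2]
        abel
      rw [e4]
      exact neg_mem (add_mem (h.val j ψ' hψ' _) (h.val j ψ' hψ' _))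
    have e5 := hne _ (h.val i ψ hψ _) e3
    rw [e5, map_zero, add_zero, add_zero] at e2
    rw [map_add, h.ker i ψ hψ a ha, zero_add] at e5
    rw [map_add, h.ker j ψ' hψ' b hb, add_zero] at e2
    have hb0 : b = 0 := by
      by_contra hb0
      exact h.ne_zero hψ h1 hb hb0 e5
    have ha0 : a = 0 := by
      by_contra ha0
      exact h.ne_zero hψ' h2 ha ha0 e2
    rw [ha0, hb0, add_zero]
  obtain ⟨a, ha, ha0⟩ := h.lne i
  have hpow : ∀ k : ℕ, (N ^ k) a ∈ lam i ⊔ lam j ∧ (N ^ k) a ≠ 0 := by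
    intro k
    induction k with
    | zero => exact ⟨by rw [pow_zero]; exact (le_sup_left : lam i ≤ _) ha, by rw [pow_zero]; exact ha0⟩
    | succ k ih =>
      have e2 : (N ^ (k + 1)) a = N ((N ^ k) a) := by rw [pow_succ']; rfl
      rw [e2]
      exact ⟨hNE _, fun e => ih.2 (hinj _ ih.1 e)⟩
  refine ⟨a, (le_sup_left : lam i ≤ _) ha, fun e => (hpow (2 ^ n)).2 ?_⟩
  rw [e1, h.pow_two_pow] at e
  have e2 : a + (N ^ 2 ^ n) a = a := e
  exact add_eq_left.1 e2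

/-- `f b + b ∈ lam o` -/
theorem disp (hB : Big lam Φ) (hD : Dist lam Φ) {o : ι} {f : AddMonoid.End M} (A : ActTf lam Φ o f) (j : ι) {b : M}
    (hb : b ∈ lam j) : f b + b ∈ lam o := by
  have hff : ∀ m, f (f m) = m := fun m => DFunLike.congr_fun A.sq m
  have hf0 : ∀ {m}, f m = 0 → m = 0 := fun {m} e => by rw [← hff m, e, map_zero]
  -- `ψ` kills `f lam_j`
  have key : ∀ j k : ι, (∀ m ∈ lam j, f m ∈ lam k) → (∀ ψ ∈ Φ j, f * ψ * f ∈ Φ k) → ∀ ψ ∈ Φ j, Kl lam ψ o →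
      Kl lam ψ k := by
    intro j k h1 h2 ψ hψ hk
    by_contra hno
    obtain ⟨w, hw, hw0⟩ := h.lne j
    have h3 : ¬ Kl lam (f * ψ * f) j := by
      intro e
      refine h.ne_zero hψ hno (h1 w hw) (fun e => hw0 (hf0 e)) ?_
      have e1 : f (ψ (f w)) = 0 := e w hw
      exact hf0 e1
    obtain ⟨n, hn⟩ := A.two j ψ hψ j 0 (zero_mem _) hk (fun _ _ => rfl)
    obtain ⟨e, -, he⟩ := h.not_two (h2 ψ hψ) hψ h3 hno n
    apply he
    have e1 : (1 + (0 : AddMonoid.End M)) * (1 + ψ) * f * ((1 + ψ) * (1 + 0)) * f = (1 + ψ) * (1 + f * ψ * f) := by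
      rw [add_zero, one_mul, mul_one]
      have e2 : f * (1 + ψ) * f = 1 + f * ψ * f := by rw [mul_add, add_mul, mul_one, A.sq]
      rw [← e2]
      simp only [mul_assoc]
    rw [e1] at hn
    rw [hn]
    rfl
  -- transport of `JJ`
  have tr : ∀ {j k : ι}, (∀ m ∈ lam j, f m ∈ lam k) → (∀ ψ ∈ Φ j, f * ψ * f ∈ Φ k) → ∀ {j' k' : ι},
      (∀ m ∈ lam j', f m ∈ lam k') → JJ lam Φ j j' → JJ lam Φ k k' := by
    rintro j k h1 h2 j' k' h3 ⟨ψ, hψ, c, hc, hne⟩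
    refine ⟨_, h2 ψ hψ, f c, h3 c hc, fun e => hne ?_⟩
    have e1 : f (ψ (f (f c))) = 0 := e
    rw [hff] at e1
    exact hf0 e1
  have hoo : ∀ m ∈ lam o, f m ∈ lam o := fun m hm => by rw [A.fix m hm]; exact hm
  by_cases hb0 : b = 0
  · rw [hb0, map_zero, add_zero]; exact zero_mem _
  obtain ⟨k, hk1, hk2⟩ := A.mv j
  by_cases hoj : lam o = lam j
  · rw [A.fix b (hoj ▸ hb), h.two]
    exact zero_mem _
  by_cases hJ : JJ lam Φ o j
  · -- the class of `o`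
    have hjo := h.symm hJ
    have hko : JJ lam Φ k o := tr hk1 hk2 hoo hjo
    -- `f b = v + α`
    obtain ⟨v, hv, α, hα, hfb⟩ : ∃ v ∈ lam j, ∃ α ∈ lam o, f b = v + α := by
      by_cases hjk : lam j = lam k
      · exact ⟨f b, hjk ▸ hk1 b hb, 0, zero_mem _, by rw [add_zero]⟩
      have hjk' : JJ lam Φ j k := h.trans hB hD hjo (h.symm hko) hjk
      obtain ⟨φ₀, hφ₀, hφ₀k⟩ : ∃ φ₀ ∈ Φ j, ¬ Kl lam φ₀ k := by
        obtain ⟨φ, hφ, c, hc, hne⟩ := hjk'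
        exact ⟨φ, hφ, fun e => hne (e c hc)⟩
      have hφ₀o : ¬ Kl lam φ₀ o := fun e => hφ₀k (key j k hk1 hk2 φ₀ hφ₀ e)
      obtain ⟨α, hα, hαe⟩ := h.exists_pre hφ₀ hφ₀o (h.val j φ₀ hφ₀ (f b))
      obtain ⟨γ, hγ, hγe⟩ := h.exists_E hB (key j k hk1 hk2) hjk' hα
      have hγb : γ = f b := by
        by_contra hne
        refine h.ne_zero hφ₀ hφ₀k (sub_mem hγ (hk1 b hb)) (sub_ne_zero.2 hne) ?_
        have e1 := hγe φ₀ hφ₀
        rw [map_add, h.add_eq_zero] at e1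
        rw [map_sub, ← e1, hαe, sub_self]
      rw [hγb] at hγ hγe
      obtain ⟨e, he, he'⟩ := h.exists_add (h.symm hko) hα hγ
      refine ⟨α + f b, ?_, α, hα, ?_⟩
      · by_cases hv0 : α + f b = 0
        · rw [hv0]; exact zero_mem _
        have hje : ¬ JJ lam Φ j e := by
          intro hJe
          obtain ⟨φ, hφ, hne⟩ := h.moves hJe he hv0
          exact hne (hγe φ hφ)
        rcases he' with he' | he'
        · exact absurd (McL.jj_right hjo he'.symm) hje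
        · by_contra hno
          refine hje (h.trans hB hD hjo he' fun e1 => hno ?_)
          rw [e1]
          exact he
      · rw [add_comm α, add_assoc, h.two, add_zero]
    have hv0 : v ≠ 0 := by
      rintro rfl
      rw [zero_add] at hfb
      have e1 : b = α := by rw [← hff b, hfb, A.fix α hα]
      rw [← e1] at hα
      exact hoj (h.same o j b hα hb hb0).1
    obtain ⟨φ, hφ, hφe⟩ := h.surj o j v hv (h.moves hJ hv hv0) α hα
    have e1 : f b + φ (f b) = v := by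
      rw [hfb, map_add, hφe, h.ker o φ hφ α hα, add_zero, add_assoc, h.two, add_zero]
    have e2 := A.triv φ hφ j b hb hb0 (by rw [e1]; exact hv)
    rw [e1] at e2
    rw [hfb, e2, add_comm b, add_assoc, h.two, add_zero]
    exact hα
  · -- another class
    have hkl : ∀ ψ ∈ Φ j, Kl lam ψ o := by
      intro ψ hψ
      by_contra hno
      exact hJ (h.symm (h.jj hψ hno))
    have hjk : ¬ JJ lam Φ j k := by
      rintro ⟨ψ, hψ, c, hc, hne⟩
      exact hne (key j k hk1 hk2 ψ hψ (hkl ψ hψ) c hc)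
    by_cases hjk' : lam j = lam k
    · have e1 := A.triv 0 (zero_mem _) j b hb hb0 (by
        show f b + 0 ∈ lam j
        rw [add_zero, hjk']
        exact hk1 b hb)
      have e2 : f b + 0 = b := e1
      rw [add_zero] at e2
      rw [e2, h.two]
      exact zero_mem _
    exfalso
    obtain ⟨φ₀, hφ₀, hφ₀0⟩ := h.ne j
    obtain ⟨ν, hν⟩ := h.exists_not_kl hφ₀ hφ₀0
    have hjν : JJ lam Φ j ν := h.jj hφ₀ hν
    obtain ⟨χ, hχ, c, hc, hχc⟩ := h.symm hjν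
    have hχj : ¬ Kl lam χ j := fun e => hχc (e c hc)
    have hνj : JJ lam Φ ν j := ⟨χ, hχ, c, hc, hχc⟩
    obtain ⟨k', hk1', hk2'⟩ := A.mv ν
    have hkk' : JJ lam Φ k k' := tr hk1 hk2 hk1' hjν
    have hklν : ∀ ψ ∈ Φ ν, Kl lam ψ o := by
      intro ψ hψ
      by_contra hno
      have h1 : JJ lam Φ o ν := h.symm (h.jj hψ hno)
      exact hJ (h.trans hB hD h1 hνj hoj)
    -- nothing of the class of `j` is joined to `k`, `k'`
    have hkj : ¬ JJ lam Φ k j := fun e => hjk (h.symm e)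
    have hk'j : ¬ JJ lam Φ k' j := fun e => hkj (h.trans hB hD hkk' e fun e1 => hjk' e1.symm)
    have hkν : ¬ JJ lam Φ k ν := fun e => hkj (h.trans hB hD e hνj fun e1 => hjk' e1.symm)
    have hk'ν : ¬ JJ lam Φ k' ν := fun e => hkν (h.trans hB hD hkk' e fun e1 =>
      hkj (h.jj_left hνj e1.symm))
    obtain ⟨n, hn⟩ := A.two j φ₀ hφ₀ ν χ hχ (hkl φ₀ hφ₀) (hklν χ hχ)
    obtain ⟨e, he, hee⟩ := h.not_two hφ₀ hχ hν hχj n
    apply hee
    -- `f s f` is trivial on `E`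
    have hz : ∀ x ∈ lam j ⊔ lam ν, ∀ φ ∈ Φ k, φ x = 0 := by
      intro x hx φ hφ
      obtain ⟨a, ha, c, hc, rfl⟩ := AddSubgroup.mem_sup.1 hx
      have e1 : φ a = 0 := by
        by_contra hne
        exact hkj ⟨φ, hφ, a, ha, hne⟩
      have e2 : φ c = 0 := by
        by_contra hne
        exact hkν ⟨φ, hφ, c, hc, hne⟩
      rw [map_add, e1, e2, add_zero]
    have hz' : ∀ x ∈ lam j ⊔ lam ν, ∀ φ ∈ Φ k', φ x = 0 := by
      intro x hx φ hφ
      obtain ⟨a, ha, c, hc, rfl⟩ := AddSubgroup.mem_sup.1 hx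
      have e1 : φ a = 0 := by
        by_contra hne
        exact hk'j ⟨φ, hφ, a, ha, hne⟩
      have e2 : φ c = 0 := by
        by_contra hne
        exact hk'ν ⟨φ, hφ, c, hc, hne⟩
      rw [map_add, e1, e2, add_zero]
    have hE : ∀ x ∈ lam j ⊔ lam ν, ((1 + χ) * (1 + φ₀)) x ∈ lam j ⊔ lam ν := by
      intro x hx
      show (x + φ₀ x) + χ (x + φ₀ x) ∈ _
      exact add_mem (add_mem hx ((le_sup_left : lam j ≤ _) (h.val j φ₀ hφ₀ x)))
        ((le_sup_right : lam ν ≤ _) (h.val ν χ hχ _))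
    have hT : ∀ x ∈ lam j ⊔ lam ν,
        ((1 + χ) * (1 + φ₀) * f * ((1 + φ₀) * (1 + χ)) * f) x = ((1 + χ) * (1 + φ₀)) x := by
      intro x hx
      have e1 : (1 + χ) * (1 + φ₀) * f * ((1 + φ₀) * (1 + χ)) * f =
          (1 + χ) * (1 + φ₀) * ((1 + f * φ₀ * f) * (1 + f * χ * f)) := by
        have e2 : f * (1 + φ₀) * f = 1 + f * φ₀ * f := by rw [mul_add, add_mul, mul_one, A.sq]
        have e3 : f * (1 + χ) * f = 1 + f * χ * f := by rw [mul_add, add_mul, mul_one, A.sq]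
        rw [← e2, ← e3]
        calc (1 + χ) * (1 + φ₀) * f * ((1 + φ₀) * (1 + χ)) * f
            = (1 + χ) * (1 + φ₀) * (f * (1 + φ₀)) * (1 * ((1 + χ) * f)) := by
              rw [one_mul]; simp only [mul_assoc]
          _ = (1 + χ) * (1 + φ₀) * (f * (1 + φ₀) * f * (f * (1 + χ) * f)) := by
              rw [← A.sq]; simp only [mul_assoc]
      rw [e1]
      show ((1 + χ) * (1 + φ₀)) ((x + (f * χ * f) x) + (f * φ₀ * f) (x + (f * χ * f) x)) = _
      rw [hz' x hx _ (hk2' χ hχ), add_zero, hz x hx _ (hk2 φ₀ hφ₀), add_zero]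
    have hpow : ∀ m : ℕ, ∀ x ∈ lam j ⊔ lam ν, (((1 + χ) * (1 + φ₀)) ^ m) x ∈ lam j ⊔ lam ν ∧
        (((1 + χ) * (1 + φ₀) * f * ((1 + φ₀) * (1 + χ)) * f) ^ m) x = (((1 + χ) * (1 + φ₀)) ^ m) x := by
      intro m x hx
      induction m with
      | zero => exact ⟨by rw [pow_zero]; exact hx, by rw [pow_zero, pow_zero]⟩
      | succ m ih =>
        have e1 : (((1 + χ) * (1 + φ₀)) ^ (m + 1)) x = ((1 + χ) * (1 + φ₀)) ((((1 + χ) * (1 + φ₀)) ^ m) x) := by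
          rw [pow_succ']; rfl
        refine ⟨by rw [e1]; exact hE _ ih.1, ?_⟩
        rw [e1, ← hT _ ih.1, ← ih.2, pow_succ']
        rfl
    rw [← (hpow (2 ^ n) e he).2, hn]
    rfl

end McL

end Cfsg.Agent.Omega.NO3S.MidQ
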