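import Cfsg.Agent.Omega.NO3S.MidB.TypeN
import Cfsg.Agent.Omega.NO3S.MidQ.TypeN

/-!
# NO-3S, natural lines, critical distance 2: `Mid` + (NO) gives `TypN` (bb OMEGA #19438): the definitions

* `Inn V Z X R Y` : the critical pair `(X, Y)` with middle point `R` is INNER: `[W_X, W_Y] ≤ W_R`;
* `InnN V Z` : THEOREM INN (#19761, #19787, #19900): `[W_X, W_Y] ≤ R` for every inner pair;
* `NFree V Z` : `N = X` for every `C_G(X)`-invariant `N`, `X ≤ N ≤ W_X`, `N ∩ L = X` (#19454, #19931);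
* `NOg V Z` : (NO): `|D̂| |C_{W_X}(D mod X)| ≤ |W_X|` for every `D` inducing an elementary abelian subgroup of
  `O₂(C_{G_X/K_X}(L/X))`;
* `Mv V Z A R B f k` : `f ∈ W_B` moves `W_A`, `f` inverts `k ∈ C_G(A)` of odd order, `k ^ i ≠ 1` moves the line `AR`.
-/

set_option autoImplicit false

namespace Cfsg.Agent.Omega.NO3S.MidB.No

open Subgroup Cfsg.Agent.Omega.NO3S.PT Cfsg.Agent.Omega.NoFF.Basic Cfsg.Agent.ZN
open Cfsg.Agent.Omega.NO3S.MidQ (Adj Com Cr UU)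
open scoped Pointwise

variable {G : Type*} [Group G]

/-- the critical pair `(X, Y)` with middle point `R` is inner -/
structure Inn (V Z X R Y : Subgroup G) : Prop where
  cr : Cr V Z X R Y
  le : ∀ a ∈ ws V X, ∀ b ∈ ws V Y, a * b * a⁻¹ * b⁻¹ ∈ ws V R

/-- **THEOREM INN** -/
def InnN (V Z : Subgroup G) : Prop :=
  ∀ X R Y, Inn V Z X R Y → ∀ a ∈ ws V X, ∀ b ∈ ws V Y, a * b * a⁻¹ * b⁻¹ ∈ R

/-- a `C_G(X)`-invariant subgroup of `W_X` which meets the lines on `X` in `X` is `X` -/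
def NFree (V Z : Subgroup G) : Prop :=
  ∀ X L N : Subgroup G, IsCj Z X → IsCj V L → X ≤ L → X ≤ N → N ≤ ws V X →
    centralizer (X : Set G) ≤ normalizer (N : Set G) → N ⊓ L = X → N = X

/-- **(NO)** -/
def NOg (V Z : Subgroup G) : Prop :=
  ∀ X L N D C : Subgroup G, IsCj Z X → IsCj V L → X ≤ L → N ≤ centralizer (L : Set G) →
    centralizer (L : Set G) ≤ normalizer (N : Set G) → (∀ g ∈ N, ∃ k : ℕ, g ^ 2 ^ k ∈ kx V X) → D ≤ N →
    (∀ d ∈ D, d * d ∈ kx V X) → (∀ u, u ∈ C ↔ u ∈ ws V X ∧ ∀ d ∈ D, d * u * d⁻¹ * u⁻¹ ∈ X) →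
    (kx V X).relIndex D * Nat.card C ≤ Nat.card (ws V X)

/-- a mover -/
structure Mv (V Z A R B : Subgroup G) (f k : G) : Prop where
  cr : Cr V Z A R B
  mem : f ∈ ws V B
  ncent : ¬ ∀ x ∈ ws V A, f * x = x * f
  cent : ∀ x ∈ A, k * x = x * k
  odd : Odd (orderOf k)
  ne : k ≠ 1
  inv : f * k * f⁻¹ = k⁻¹
  mv : ∀ i : ℕ, k ^ i ≠ 1 → ∀ L, IsCj V L → A ≤ L → R ≤ L → cj (k ^ i) L ≠ L

/-- the point `R ^ (k ^ i)` -/
abbrev pw (R : Subgroup G) (k : G) (i : ℕ) : Subgroup G := cj (k ^ i) R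

/-- **(D)** for the pair `R ^ (k ^ i)`, `R ^ (k ^ -i)` -/
def DD (V A R : Subgroup G) (k : G) (i : ℕ) : Prop := ws V (pw R k i) ⊓ ws V (pw R k⁻¹ i) ≤ ws V A

end Cfsg.Agent.Omega.NO3S.MidB.No
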