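import Cfsg.Agent.Omega.NO3S.FarB.FlagK
import Cfsg.Agent.Omega.NO3S.FarQ.NoOvOf
import Cfsg.Agent.Omega.NO3S.MidB.No.Defs

/-!
# NO-3S, natural lines, critical distance 2, the `(R, B)`-frame: (NO) in `G`

* `NoOvS lam` : (NO) for `(H, M)` without the quadratic condition; `KNOS` the K-input, `knos_of_mlk` : from (ML);
* `nog_wide` : (NO) in `G` at the base flag `(Z, V)`: `D ≤ C_G(Z)` is a 2-group modulo `K_Z`, normalised by `C_G(V)`,
  centralises `V` modulo `Z`; `A ≤ D` is elementary abelian modulo `K_Z`; then `|A : A ∩ K_Z| ≤ |W_Z : C|`,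
  `C = {u ∈ W_Z : [u, A] ≤ Z}`;
* `nog_of` : `Mid S P V Z`, `|Z| ≥ 4` and the K-input give `NOg V Z`; `nog_of_mlk` : from (ML) and `IsKProper G`.
-/

set_option autoImplicit false
set_option linter.unusedSectionVars false

namespace Cfsg.Agent.Omega.NO3S.MidB.No

open Subgroup Cfsg Cfsg.Agent.ZN Cfsg.Agent.MinSimple.VModule
open Cfsg.Agent.Omega.NO3S.FarQ (FlagK Img Real fixer zm)
open Cfsg.Agent.Omega.NO3S.PT
open Cfsg.Agent.Omega.ML.Final (MLK)
open Cfsg.Agent.Omega.NOThree.Pts (conj_mem_of_le_normalizer)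
open Cfsg.Agent.ClassTwoFusion.Quad (cv mem_cv cv_anti)
open scoped Pointwise

universe u

section defs

open Cfsg.Agent.Omega.NOThree.NoOver Cfsg.Agent.Omega.ML.MinFrame Cfsg.Agent.Omega.ML.Final

variable {H M : Type*} [Group H] [CommGroup M] [MulDistribMulAction H M]

/-- **(NO)**, full strength: no over-offender in `O₂(C_H(lam))`. -/
def NoOvS (lam : Subgroup M) : Prop :=
  ∀ A : Subgroup H, A ≤ o2 (fixer lam) → (∀ a ∈ A, ∀ b ∈ A, a * b = b * a) → (∀ a ∈ A, a * a = 1) →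
    Nat.card A ≤ (zm M A).index

theorem noOvS_of_mls {T : Subgroup H} {lam : Subgroup M} (F : FlagK T lam) (hML : MLS False H M) :
    NoOvS (H := H) lam := by
  have := F.finH
  have := F.finM
  intro A hA hcomm hsq
  by_contra hcon
  push Not at hcon
  have hov : Nat.card M < fo M A := by
    have h1 := Subgroup.card_mul_index (cv M (A : Set H))
    have h2 : 0 < Nat.card (cv M (A : Set H)) := Nat.card_pos
    unfold fo
    rw [← h1, mul_comm]
    exact Nat.mul_lt_mul_of_pos_right hcon h2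
  obtain ⟨B, hB⟩ := exists_min hcomm le_rfl hov
  have hBQ : B ≤ o2 (fixer lam) := hB.le.trans hA
  -- `B` centralises the orbit of every `a ∈ lam`
  have key : ∀ a ∈ lam, B ≤ fxr H (orb (⊤ : Subgroup H) a) := by
    intro a ha
    by_cases ha1 : a = 1
    · intro b _
      rw [mem_fxr_orb]
      intro g _
      rw [ha1, smul_one, smul_one]
    have h1 := hML T (o2 (fixer lam)) B a (mem_top _) F.two le_top (by rw [relIndex_top_right]; exact F.ndvd)
      (fun t ht => F.fix t ht a ha) (o2_isPGroup _) le_top (fun q hq => MinSimple.VModule.o2_le _ hq a ha)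
      (fun g _ hg q hq => conj_mem_of_le_normalizer (MinSimple.VModule.le_normalizer_o2 _) (F.lin a ha ha1 g hg) hq) hBQ
      (fun b hb => hsq b (hB.le hb)) False.elim
    by_contra hne
    set D : Subgroup H := B ⊓ fxr H (orb (⊤ : Subgroup H) a) with hD
    have hDB : D < B := by
      refine lt_of_le_of_ne inf_le_left fun e => hne ?_
      rw [← e]
      exact inf_le_right
    have h2 := hB.lt hDB
    have h3 : orb (⊤ : Subgroup H) a ≤ cv M (D : Set H) := by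
      intro m hm d hd
      exact hd.2 m hm
    have h4 : (cv M (B : Set H)).relIndex (orb (⊤ : Subgroup H) a) ≤
        (cv M (B : Set H)).relIndex (cv M (D : Set H)) :=
      relIndex_le_of_le_right h3 (index_ne_zero_of_finite)
    have h5 : D.relIndex B = (fxr H (orb (⊤ : Subgroup H) a)).relIndex B := by
      rw [hD, inf_relIndex_left]
    rw [h5] at h2
    exact absurd (h1.trans h4) (not_le.2 h2)
  apply hB.ne_bot
  rw [eq_bot_iff]
  intro b hb
  rw [mem_bot]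
  apply F.faith
  have h1 : cv M ({b} : Set H) = ⊤ := F.gen _ fun h a ha => by
    intro x hx
    rw [Set.mem_singleton_iff.1 hx]
    exact (mem_fxr_orb.1 (key a ha hb)) h (mem_top h)
  intro m
  have h2 : m ∈ cv M ({b} : Set H) := by rw [h1]; exact mem_top m
  exact h2 b rfl

end defs

/-- **The K-input (NO), full strength**, for the groups `H` with `Kg H`. -/
def KNOS (Kg : ∀ (H : Type u) [Group H], Prop) : Prop :=
  ∀ (H M : Type u) [Group H] [CommGroup M] [MulDistribMulAction H M] (T : Subgroup H) (lam : Subgroup M),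
    Kg H → FlagK T lam → NoOvS (H := H) lam

/-- **`KNOS` for K-groups from (ML).** -/
theorem knos_of_mlk (h : MLK.{u, u}) : KNOS.{u} (fun H _ => IsKGroup H) := by
  intro H M _ _ _ T lam hK F
  have := F.finH
  have := F.finM
  exact noOvS_of_mls F (h H M hK F.sq)

theorem KNOS.mono {K₁ K₂ : ∀ (H : Type u) [Group H], Prop} (h : KNOS.{u} K₂)
    (hle : ∀ (H : Type u) [Group H], K₁ H → K₂ H) : KNOS.{u} K₁ :=
  fun H M _ _ _ T lam hK F => h H M T lam (hle H hK) F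

section

variable {G : Type u} [Group G] [Finite G] {S : Sylow 2 G} {B P V Z : Subgroup G}

/-- **(NO) in `G`, wide form, at the base flag.** -/
theorem nog_wide (h : PB S B P V Z) (hf : ¬ kx V Z ≤ centralizer (V : Set G)) (hq : 4 ≤ Nat.card Z)
    (hNO : KNOS.{u} (fun H _ => Img (centralizer (Z : Set G)) H)) {D A C : Subgroup G}
    (hDZ : D ≤ centralizer (Z : Set G)) (hDn : centralizer (V : Set G) ≤ normalizer (D : Set G))
    (hDV : ∀ d ∈ D, ∀ v ∈ V, d * v * d⁻¹ * v⁻¹ ∈ Z) (hD2 : ∀ d ∈ D, ∃ k : ℕ, d ^ 2 ^ k ∈ kx V Z)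
    (hAD : A ≤ D) (hAc : ∀ a ∈ A, ∀ b ∈ A, a * b * a⁻¹ * b⁻¹ ∈ kx V Z) (hA2 : ∀ a ∈ A, a * a ∈ kx V Z)
    (hC : ∀ u, u ∈ C ↔ u ∈ ws V Z ∧ ∀ a ∈ A, a * u * a⁻¹ * u⁻¹ ∈ Z) :
    (kx V Z).relIndex A ≤ C.relIndex (ws V Z) := by
  obtain ⟨H, M, iH, iM, iA, ρ, π, r⟩ := FarB.exists_real h
  have hVW : V ≤ ws V Z := h.V_le_ws h.ZV
  have hBZ : B ≤ centralizer (Z : Set G) := h.B_le
  have hcm : ∀ {g w : G}, g ∈ centralizer (Z : Set G) → w ∈ ws V Z →
      (g * w * g⁻¹ * w⁻¹ ∈ Z ↔ ρ g • π w = π w) := fun hg hw => FarB.real_comm h r hg hw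
  -- the homomorphisms
  let f : centralizer (Z : Set G) →* H := MonoidHom.mk' (fun a => ρ a) (fun a b => r.mulρ a a.2 b b.2)
  have hfs : Function.Surjective f := fun x => by
    obtain ⟨g, hg, rfl⟩ := r.surjρ x
    exact ⟨⟨g, hg⟩, rfl⟩
  have hfk : f.ker = (kx V Z).subgroupOf (centralizer (Z : Set G)) := by
    ext x
    rw [MonoidHom.mem_ker, mem_subgroupOf]
    exact r.kerρ x x.2
  let p : ws V Z →* M := MonoidHom.mk' (fun a => π a) (fun a b => r.mulπ a a.2 b b.2)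
  have hps : Function.Surjective p := fun x => by
    obtain ⟨g, hg, rfl⟩ := r.surjπ x
    exact ⟨⟨g, hg⟩, rfl⟩
  let T : Subgroup H := (B.subgroupOf (centralizer (Z : Set G))).map f
  have hT : ∀ x, x ∈ T ↔ ∃ s ∈ B, ρ s = x := by
    intro x
    constructor
    · rintro ⟨s, hs, rfl⟩
      exact ⟨s, mem_subgroupOf.1 hs, rfl⟩
    · rintro ⟨s, hs, rfl⟩
      exact ⟨⟨s, hBZ hs⟩, mem_subgroupOf.2 hs, rfl⟩
  let lam : Subgroup M := (V.subgroupOf (ws V Z)).map p
  have hlam : ∀ m, m ∈ lam ↔ ∃ v ∈ V, π v = m := by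
    intro x
    constructor
    · rintro ⟨s, hs, rfl⟩
      exact ⟨s, mem_subgroupOf.1 hs, rfl⟩
    · rintro ⟨s, hs, rfl⟩
      exact ⟨⟨s, hVW hs⟩, mem_subgroupOf.2 hs, rfl⟩
  have F := FarB.flagK_of h r hq hT hlam
  have hfinH := F.finH
  have hfinM := F.finM
  have hNO' : NoOvS (H := H) lam := hNO H M T lam (FarQ.img_of_real r) F
  -- the image of `C_G(V)` is the centraliser of `lam`
  have hcov : ∀ c ∈ fixer (H := H) lam, ∃ g ∈ centralizer (V : Set G), ρ g = c := by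
    intro c hc
    obtain ⟨g, hg, rfl⟩ := r.surjρ c
    obtain ⟨v, hv, hvZ⟩ := h.exists_out
    have h1 : g * v * g⁻¹ * v⁻¹ ∈ Z := (hcm hg (hVW hv)).2 (hc _ ((hlam _).2 ⟨v, hv, rfl⟩))
    obtain ⟨k, hk, -, hkv⟩ := h.K_act hf hv hvZ (Z.inv_mem h1)
    have hkC := kx_le_cent hk
    have hcen : ∀ {k}, k ∈ centralizer (Z : Set G) → ∀ z ∈ Z, k * z = z * k := fun hk z hz =>
      (mem_centralizer_iff.1 hk z hz).symm
    have h2 : k * g * v = v * (k * g) := by
      have e1 : g * v * g⁻¹ = (g * v * g⁻¹ * v⁻¹) * v := by group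
      have e2 : k * v * k⁻¹ = (g * v * g⁻¹ * v⁻¹)⁻¹ * v := by rw [← hkv]; group
      have e3 := hcen hkC _ h1
      rw [← mul_inv_eq_iff_eq_mul]
      calc k * g * v * (k * g)⁻¹ = k * (g * v * g⁻¹) * k⁻¹ := by group
        _ = k * (g * v * g⁻¹ * v⁻¹) * v * k⁻¹ := by rw [e1]; group
        _ = (g * v * g⁻¹ * v⁻¹) * (k * v * k⁻¹) := by rw [e3]; group
        _ = v := by rw [e2]; group
    refine ⟨k * g, h.mem_centralizer_of_fix (hcen (mul_mem hkC hg)) hv hvZ h2, ?_⟩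
    rw [r.mulρ k hkC g hg, (r.kerρ k hkC).2 hk, one_mul]
  -- `D` maps into `O₂(C_H(lam))`
  let DH : Subgroup H := (D.subgroupOf (centralizer (Z : Set G))).map f
  have hDH : ∀ x, x ∈ DH ↔ ∃ s ∈ D, ρ s = x := by
    intro x
    constructor
    · rintro ⟨s, hs, rfl⟩
      exact ⟨s, mem_subgroupOf.1 hs, rfl⟩
    · rintro ⟨s, hs, rfl⟩
      exact ⟨⟨s, hDZ hs⟩, mem_subgroupOf.2 hs, rfl⟩
  have hρpow : ∀ {s : G}, s ∈ centralizer (Z : Set G) → ∀ j : ℕ, ρ (s ^ j) = ρ s ^ j := fun {s} hs j =>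
    map_pow f ⟨s, hs⟩ j
  have hD1 : DH ≤ fixer (H := H) lam := by
    intro x hx m hm
    obtain ⟨d, hd, rfl⟩ := (hDH x).1 hx
    obtain ⟨v, hv, rfl⟩ := (hlam m).1 hm
    exact (hcm (hDZ hd) (hVW hv)).1 (hDV d hd v hv)
  have hDp : IsPGroup 2 DH := by
    rintro ⟨x, hx⟩
    obtain ⟨d, hd, rfl⟩ := (hDH x).1 hx
    obtain ⟨k, hk⟩ := hD2 d hd
    refine ⟨k, Subtype.ext ?_⟩
    show ρ d ^ 2 ^ k = 1
    rw [← hρpow (hDZ hd)]
    exact (r.kerρ _ (pow_mem (hDZ hd) _)).2 hk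
  have hDm : fixer (H := H) lam ≤ normalizer (DH : Set H) := by
    intro c hc
    obtain ⟨g, hg, rfl⟩ := hcov c hc
    have hgZ : g ∈ centralizer (Z : Set G) := centralizer_le h.ZV hg
    rw [mem_normalizer_iff]
    have key : ∀ {g : G}, g ∈ centralizer (V : Set G) → ∀ x ∈ DH, ρ g * x * (ρ g)⁻¹ ∈ DH := by
      intro g hg x hx
      have hgZ : g ∈ centralizer (Z : Set G) := centralizer_le h.ZV hg
      obtain ⟨d, hd, rfl⟩ := (hDH x).1 hx
      refine (hDH _).2 ⟨g * d * g⁻¹, (mem_normalizer_iff.1 (hDn hg) d).1 hd, ?_⟩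
      rw [r.mulρ _ (mul_mem hgZ (hDZ hd)) _ (inv_mem hgZ), r.mulρ _ hgZ _ (hDZ hd), FarB.real_ρinv h r hgZ]
    intro x
    refine ⟨fun hx => key hg x hx, fun hx => ?_⟩
    have h1 := key (inv_mem hg) _ hx
    rw [FarB.real_ρinv h r hgZ] at h1
    have e : (ρ g)⁻¹ * (ρ g * x * (ρ g)⁻¹) * (ρ g)⁻¹⁻¹ = x := by group
    rwa [e] at h1
  have hDo : DH ≤ o2 (fixer (H := H) lam) := MinSimple.VModule.le_o2 hD1 hDp hDm
  -- the image of `A`
  let AH : Subgroup H := (A.subgroupOf (centralizer (Z : Set G))).map f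
  have hAZ : A ≤ centralizer (Z : Set G) := hAD.trans hDZ
  have hAH : ∀ x, x ∈ AH ↔ ∃ s ∈ A, ρ s = x := by
    intro x
    constructor
    · rintro ⟨s, hs, rfl⟩
      exact ⟨s, mem_subgroupOf.1 hs, rfl⟩
    · rintro ⟨s, hs, rfl⟩
      exact ⟨⟨s, hAZ hs⟩, mem_subgroupOf.2 hs, rfl⟩
  have hAc' : ∀ x ∈ AH, ∀ y ∈ AH, x * y = y * x := by
    intro x hx y hy
    obtain ⟨a, ha, rfl⟩ := (hAH x).1 hx
    obtain ⟨b, hb, rfl⟩ := (hAH y).1 hy
    have h1 := hAc a ha b hb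
    have h2 : ρ (a * b * a⁻¹ * b⁻¹) = 1 := (r.kerρ _ (kx_le_cent h1)).2 h1
    have h3 : f (⟨a, hAZ ha⟩ * ⟨b, hAZ hb⟩ * ⟨a, hAZ ha⟩⁻¹ * ⟨b, hAZ hb⟩⁻¹) = 1 := h2
    rw [map_mul, map_mul, map_mul, map_inv, map_inv, mul_inv_eq_one, mul_inv_eq_iff_eq_mul] at h3
    exact h3
  have hA2' : ∀ x ∈ AH, x * x = 1 := by
    intro x hx
    obtain ⟨a, ha, rfl⟩ := (hAH x).1 hx
    rw [← r.mulρ a (hAZ ha) a (hAZ ha)]
    exact (r.kerρ _ (mul_mem (hAZ ha) (hAZ ha))).2 (hA2 a ha)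
  have hAo : AH ≤ o2 (fixer (H := H) lam) := by
    refine le_trans ?_ hDo
    exact Subgroup.map_mono (Subgroup.comap_mono hAD)
  have hmain := hNO' AH hAo hAc' hA2'
  -- the two indices
  have e1 : Nat.card AH = (kx V Z).relIndex A := by
    have h1 := Subgroup.relIndex_ker (A.subgroupOf (centralizer (Z : Set G))) f
    rw [hfk, relIndex_subgroupOf hAZ] at h1
    exact h1.symm
  have e2 : (zm M AH).index = C.relIndex (ws V Z) := by
    have h1 : (zm M AH).comap p = C.subgroupOf (ws V Z) := by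
      ext u
      rw [mem_comap, mem_subgroupOf, hC]
      constructor
      · intro hu
        refine ⟨u.2, fun a ha => ?_⟩
        rw [hcm (hAZ ha) u.2]
        exact hu (ρ a) ((hAH _).2 ⟨a, ha, rfl⟩)
      · rintro ⟨-, hu⟩ x hx
        obtain ⟨a, ha, rfl⟩ := (hAH x).1 hx
        exact (hcm (hAZ ha) u.2).1 (hu a ha)
    rw [relIndex, ← h1, index_comap_of_surjective _ hps]
  rw [← e1, ← e2]
  exact hmain

/-- `Img` for conjugate subgroups -/
theorem img_cj {C : Subgroup G} (g : G) {H : Type u} [Group H] (hI : Img (cj g C) H) : Img C H := by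
  obtain ⟨f, hf⟩ := hI
  refine ⟨f.comp (MonoidHom.mk' (fun c : C => (⟨g * c * g⁻¹, conj_mem_cj c.2⟩ : (cj g C : Subgroup G)))
    (fun a b => Subtype.ext (by
      show g * (a * b : G) * g⁻¹ = (g * a * g⁻¹) * (g * b * g⁻¹)
      group))), fun x => ?_⟩
  obtain ⟨y, rfl⟩ := hf x
  refine ⟨⟨g⁻¹ * y * g, mem_cj.1 y.2⟩, ?_⟩
  show f _ = f y
  congr 1
  apply Subtype.ext
  show g * (g⁻¹ * y * g) * g⁻¹ = y
  group

/-- **`NOg`** -/
theorem nog_of (h : Mid S P V Z) (hq : 4 ≤ Nat.card Z)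
    (hNO : KNOS.{u} (fun H _ => Img (centralizer (Z : Set G)) H)) : NOg V Z := by
  intro X L N D C hX hL hXL hNL hNn hN2 hDN hD2 hC
  obtain ⟨g, rfl, rfl⟩ := h.exists_conj hX hL hXL
  have h' := h.conj g
  have hNO' : KNOS.{u} (fun H _ => Img (centralizer ((cj g Z : Subgroup G) : Set G)) H) :=
    hNO.mono fun H _ hI => by
      rw [← cj_centralizer] at hI
      exact img_cj g hI
  have hq' : 4 ≤ Nat.card (cj g Z : Subgroup G) := by rw [card_cj]; exact hq
  have hcc : ∀ a ∈ D, ∀ b ∈ D, a * b * a⁻¹ * b⁻¹ ∈ kx V (cj g Z) := by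
    intro a ha b hb
    have hDX : ∀ d ∈ D, d ∈ normalizer ((kx V (cj g Z) : Subgroup G) : Set G) := fun d hd =>
      normalizer_le_kx V _ (centralizer_le_normalizer _ (centralizer_le hXL (hNL (hDN hd))))
    have h1 := hD2 _ (mul_mem ha hb)
    have h2 := hD2 a ha
    have h3 := hD2 b hb
    -- `a b a b ∈ K`, `b b ∈ K`, `a a ∈ K`
    have e : a * b * a⁻¹ * b⁻¹ = (a * b * (a * b)) * (b⁻¹ * ((a * a)⁻¹) * b) * (b * b)⁻¹ := by group
    rw [e]
    refine mul_mem (mul_mem h1 ?_) (inv_mem h3)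
    have h4 := (mem_normalizer_iff.1 (inv_mem (hDX b hb)) _).1 (inv_mem h2)
    rwa [inv_inv] at h4
  have hws : ws (cj g V) (cj g Z) = ws V (cj g Z) := ws_cj_left V _ g
  have hkx : kx (cj g V) (cj g Z) = kx V (cj g Z) := kx_cj_left V _ g
  have key := nog_wide (B := ((g • S : Sylow 2 G) : Subgroup G) ⊓ centralizer ((cj g Z : Subgroup G) : Set G))
    h'.pl h'.hf hq' hNO' (D := N) (A := D) (C := C)
    (hNL.trans (centralizer_le (cj_le_cj.2 h.pl.ZV))) hNn
    (fun d hd v hv => by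
      have h1 : v * d = d * v := mem_centralizer_iff.1 (hNL hd) v hv
      have e : d * v * d⁻¹ * v⁻¹ = 1 := by rw [← h1]; group
      rw [e]; exact one_mem _)
    (by rw [hkx]; exact hN2) hDN (by rw [hkx]; exact hcc) (by rw [hkx]; exact hD2) (by rw [hws]; exact hC)
  rw [hws, hkx] at key
  have hCle : C ≤ ws V (cj g Z) := fun u hu => ((hC u).1 hu).1
  have h1 := Subgroup.card_mul_index (C.subgroupOf (ws V (cj g Z)))
  have h2 : Nat.card (C.subgroupOf (ws V (cj g Z))) = Nat.card C :=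
    Nat.card_congr (subgroupOfEquivOfLe hCle).toEquiv
  rw [h2] at h1
  calc (kx V (cj g Z)).relIndex D * Nat.card C ≤ C.relIndex (ws V (cj g Z)) * Nat.card C :=
        Nat.mul_le_mul_right _ key
    _ = Nat.card (ws V (cj g Z)) := by rw [mul_comm]; exact h1

/-- **`NOg` from (ML)** -/
theorem nog_of_mlk (h : Mid S P V Z) (hq : 4 ≤ Nat.card Z) (hG : IsKProper G) (hC : centralizer (Z : Set G) ≠ ⊤)
    (hML : MLK.{u, u}) : NOg V Z :=
  nog_of h hq ((knos_of_mlk hML).mono fun H _ hI => FarQ.kgroup_of_img hG hC H hI)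

end

end Cfsg.Agent.Omega.NO3S.MidB.No
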