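import Cfsg.Agent.Omega.NO3S.MidB.No.Defs

/-!
# NO-3S, natural lines, critical distance 2: `Mid` + (NO) gives `TypN` (bb OMEGA #19438, #20170): (E) ALPHA, (F) END

`Mv V Z A R B f k`, `x := R ^ k`, (D) for `x`, `x' := R ^ k⁻¹`, `[W_x, W_R] ≠ 1`.

* `Mv.pwm`, `dd_pow` : from `k ^ i` to `k`;
* `Mv.inn_alpha` : `(x, R)` is inner with middle point `A`;
* `Mv.flat` : with THEOREM INN there are commuting `w ∈ W_x`, `m ∈ W_R`, `w` moves `W_R`, `m` moves `W_x`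
  (`f₁ = k f` is an involution which interchanges `R` and `x`, `w = m ^ f₁`, `[w, m] = 1` by (STAR)).
-/

set_option autoImplicit false
set_option linter.unusedSectionVars false

namespace Cfsg.Agent.Omega.NO3S.MidB.No

open Subgroup Cfsg.Agent.Omega.NO3S.PT Cfsg.Agent.Omega.NoFF.Basic Cfsg.Agent.ZN
open Cfsg.Agent.Omega.NO3S.MidQ (Adj Com Cr UU isCj_iff com_cj)
open scoped Pointwise

variable {G : Type*} [Group G] {V Z A R B : Subgroup G} {f k : G}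

theorem dd_pow {i : ℕ} : DD V A R (k ^ i) 1 ↔ DD V A R k i := by
  unfold DD pw
  rw [pow_one, pow_one, inv_pow]

namespace Mv

theorem pwm (m : Mv V Z A R B f k) {i : ℕ} (hi : k ^ i ≠ 1) : Mv V Z A R B f (k ^ i) where
  cr := m.cr
  mem := m.mem
  ncent := m.ncent
  cent x hx := Commute.pow_left (m.cent x hx) i
  odd := Odd.of_dvd_nat m.odd (orderOf_pow_dvd i)
  ne := hi
  inv := by rw [← conj_pow, m.inv, inv_pow]
  mv j hj L hL h1 h2 := by
    rw [← pow_mul] at hj ⊢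
    exact m.mv _ hj L hL h1 h2

/-- a square root of `k` -/
theorem exists_half (m : Mv V Z A R B f k) : ∃ j : ℕ, k ^ j * k ^ j = k := by
  obtain ⟨t, ht⟩ := m.odd
  refine ⟨t + 1, ?_⟩
  rw [← pow_add]
  have : t + 1 + (t + 1) = orderOf k + 1 := by omega
  rw [this, pow_succ, pow_orderOf_eq_one, one_mul]

theorem pow_fix (m : Mv V Z A R B f k) (j : ℕ) : cj (k ^ j) A = A := by
  rw [cj_eq_iff]
  refine centralizer_le_normalizer _ (mem_centralizer_iff.2 fun x hx => ?_)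
  exact (Commute.pow_left (m.cent x hx) j).eq.symm

theorem fix (m : Mv V Z A R B f k) : cj k A = A := by
  have := m.pow_fix 1
  rwa [pow_one] at this

theorem fix_inv (m : Mv V Z A R B f k) : cj k⁻¹ A = A := by
  have := m.fix
  rw [cj_eq_iff] at this ⊢
  exact inv_mem this

theorem adjx (m : Mv V Z A R B f k) : Adj V Z (cj k R) A := by
  have := (m.cr.l.symm).cj k
  rwa [m.fix] at this

theorem adj' (m : Mv V Z A R B f k) : Adj V Z (cj k⁻¹ R) A := by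
  have := (m.cr.l.symm).cj k⁻¹
  rwa [m.fix_inv] at this

theorem pow_adj (m : Mv V Z A R B f k) (j : ℕ) : Adj V Z A (cj (k ^ j) R) := by
  have := m.cr.l.cj (k ^ j)
  rwa [m.pow_fix] at this

theorem sq_ne_one (m : Mv V Z A R B f k) : k ^ 2 ≠ 1 := by
  intro h
  apply m.ne
  have h1 : orderOf k ∣ 2 := orderOf_dvd_of_pow_eq_one h
  have h2 := m.odd
  rcases (Nat.dvd_prime Nat.prime_two).1 h1 with h3 | h3
  · exact orderOf_eq_one_iff.1 h3
  · rw [h3] at h2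
    exact absurd h2 (by decide)

variable [Finite G] {S : Sylow 2 G} {P : Subgroup G} (h : Mid S P V Z) (m : Mv V Z A R B f k)
include h m

theorem ff : f * f = 1 := h.ws_sq m.cr.r.right m.mem

theorem f_inv : f⁻¹ = f := inv_eq_of_mul_eq_one_left (m.ff h)

theorem fk : f * k = k⁻¹ * f := by
  have := m.inv
  rw [mul_inv_eq_iff_eq_mul] at this
  exact this

/-- `f` commutes with `W_R` -/
theorem f_ws {w : G} (hw : w ∈ ws V R) : f * w = w * f :=
  (mem_centralizer_iff.1 (h.com B R m.cr.r.symm m.mem) w hw).symm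

theorem fR : cj f R = R := by
  rw [cj_eq_iff]
  exact centralizer_le_normalizer _ (h.ws_le_cent' m.cr.r.symm m.mem)

/-- `x ^ f = x'` -/
theorem f_x : cj f (cj k R) = cj k⁻¹ R := by
  rw [cj_cj, m.fk h, ← cj_cj, m.fR h]

theorem ne_x : cj k R ≠ cj k⁻¹ R := by
  intro hc
  obtain ⟨L, hL, hAL, hRL⟩ := m.cr.l.line
  have h1 : cj (k ^ 2) R = R := by
    have h2 := congrArg (cj k) hc
    rw [cj_cj, cj_cj, mul_inv_cancel, cj_one, ← pow_two] at h2
    exact h2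
  refine m.mv 2 m.sq_ne_one L hL hAL hRL ?_
  refine h.line_unique m.cr.l.left m.cr.l.right m.cr.l.ne (hL.cj _) hL ?_ ?_ hAL hRL
  · have h2 := m.pow_fix 2
    rw [← h2]
    exact cj_le_cj.2 hAL
  · nth_rw 1 [← h1]
    exact cj_le_cj.2 hRL

/-- an element of `W_x` which commutes with `f` is in `W_A` -/
theorem mem_of_comm (hd : DD V A R k 1) {w : G} (hw : w ∈ ws V (cj k R)) (hfw : f * w = w * f) : w ∈ ws V A := by
  apply hd
  unfold pw
  rw [pow_one, pow_one]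
  refine ⟨hw, ?_⟩
  rw [← m.f_x h, ws_cj]
  show w ∈ cj f (ws V (cj k R))
  rw [mem_cj, mul_assoc, ← hfw, inv_mul_cancel_left]
  exact hw

/-- **ALPHA** -/
theorem inn_alpha (hd : DD V A R k 1) (hx : ¬ Com V (cj k R) R) : Inn V Z (cj k R) A R where
  cr := ⟨m.adjx, m.cr.l, hx⟩
  le a ha b hb := by
    have h1 := h.comm_mem (⟨m.adjx, m.cr.l, hx⟩ : Cr V Z (cj k R) A R) ha hb
    exact m.mem_of_comm h hd h1.1 (m.f_ws h h1.2)

/-- `f₁ = k f` interchanges `x` and `R` -/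
theorem kf_x : cj (k * f) (cj k R) = R := by
  rw [← cj_cj, m.f_x h, cj_cj, mul_inv_cancel, cj_one]

theorem kf_sq : (k * f) * (k * f) = 1 := by
  have : (k * f) * (k * f) = k * (f * k) * f := by group
  rw [this, m.fk h]
  have : k * (k⁻¹ * f) * f = f * f := by group
  rw [this, m.ff h]

theorem kf_inv : (k * f)⁻¹ = k * f := inv_eq_of_mul_eq_one_left (m.kf_sq h)

/-- `m ^ f₁ = m ^ k` for `m ∈ W_R` -/
theorem kf_conj {w : G} (hw : w ∈ ws V R) : (k * f) * w * (k * f)⁻¹ = k * w * k⁻¹ := by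
  have h1 := m.f_ws h hw
  calc (k * f) * w * (k * f)⁻¹ = k * (f * w) * f⁻¹ * k⁻¹ := by group
    _ = k * w * k⁻¹ := by rw [h1]; group

/-- `f₁ ∈ W_{B ^ (k ^ j)}` -/
theorem kf_mem {j : ℕ} (hj : k ^ j * k ^ j = k) : k * f ∈ ws V (cj (k ^ j) B) := by
  rw [ws_cj, mem_cj]
  have h1 : f * k ^ j = (k ^ j)⁻¹ * f := by
    have h2 : f * k ^ j * f⁻¹ = (k ^ j)⁻¹ := by rw [← conj_pow, m.inv, inv_pow]
    rwa [mul_inv_eq_iff_eq_mul] at h2
  have h2 : (k ^ j)⁻¹ * (k * f) * k ^ j = f := by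
    nth_rw 2 [← hj]
    calc (k ^ j)⁻¹ * (k ^ j * k ^ j * f) * k ^ j = k ^ j * (f * k ^ j) := by group
      _ = f := by rw [h1]; group
  rw [h2]
  exact m.mem

/-- `m` and `m ^ f₁` commute -/
theorem comm_kf (hd : DD V A R k 1) (hx : ¬ Com V (cj k R) R) (hI : InnN V Z) {w : G} (hw : w ∈ ws V R) :
    (k * w * k⁻¹) * w = w * (k * w * k⁻¹) := by
  obtain ⟨j, hj⟩ := m.exists_half
  set f₁ := k * f with hf₁
  have hww : w * w = 1 := h.ws_sq m.cr.l.right hw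
  have hwi : w⁻¹ = w := inv_eq_of_mul_eq_one_left hww
  have hfi : f₁⁻¹ = f₁ := m.kf_inv h
  rw [← m.kf_conj h hw, ← hf₁]
  have hu : f₁ * w * f₁⁻¹ ∈ ws V (cj k R) := by
    rw [hf₁, m.kf_conj h hw, ws_cj]
    exact conj_mem_cj hw
  have h1 := hI _ _ _ (m.inn_alpha h hd hx) _ hu w hw
  have hRj : Adj V Z R A := m.cr.l.symm
  have hAj := m.pow_adj j
  have hBj : Adj V Z (cj (k ^ j) B) (cj (k ^ j) R) := (m.cr.r.symm).cj (k ^ j)
  have hwR : cj w (cj (k ^ j) R) = cj (k ^ j) R := by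
    rw [cj_eq_iff]
    exact centralizer_le_normalizer _ (h.ws_le_cent hRj hAj hw)
  have hBj' : Adj V Z (cj w (cj (k ^ j) B)) (cj (k ^ j) R) := by
    have := hBj.cj w
    rwa [hwR] at this
  have h2 : f₁ ∈ ws V (cj (k ^ j) B) := m.kf_mem h hj
  have h3 : w * f₁ * w⁻¹ ∈ ws V (cj w (cj (k ^ j) B)) := by
    rw [ws_cj]
    exact conj_mem_cj h2
  have h4 := (mem_normalizer_iff.1 (h.ws_norm_ws hBj' hBj h3) f₁).1 h2
  have h5 : f₁ * w * f₁⁻¹ * w * (f₁ * w * f₁⁻¹)⁻¹ * w⁻¹ ∈ ws V (cj (k ^ j) B) := by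
    have h6 := inv_mem (mul_mem h4 h2)
    have h7 : (w * f₁ * w⁻¹ * f₁ * (w * f₁ * w⁻¹)⁻¹ * f₁)⁻¹ =
        f₁⁻¹ * w * f₁ * w⁻¹ * f₁⁻¹ * w * f₁⁻¹ * w⁻¹ := by group
    rw [h7] at h6
    have h8 : f₁⁻¹ * w * f₁ * w⁻¹ * f₁⁻¹ * w * f₁⁻¹ * w⁻¹ = f₁ * w * f₁⁻¹ * w * (f₁ * w * f₁⁻¹)⁻¹ * w⁻¹ := by
      simp only [mul_inv_rev, hfi, hwi, mul_assoc]
    rwa [h8] at h6
  have hst : Cr V Z A (cj (k ^ j) R) (cj (k ^ j) B) := by
    have := m.cr.cj (k ^ j)
    rwa [m.pow_fix] at this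
  exact Mid.comm_eq (h.star hst h1 h5)

/-- **END** -/
theorem flat (hd : DD V A R k 1) (hx : ¬ Com V (cj k R) R) (hI : InnN V Z) :
    ∃ w ∈ ws V (cj k R), ∃ u ∈ ws V R, w * u = u * w ∧ (∃ b ∈ ws V R, w * b ≠ b * w) ∧
      ∃ a ∈ ws V (cj k R), a * u ≠ u * a := by
  obtain ⟨a, ha, u, hu, hau⟩ : ∃ a ∈ ws V (cj k R), ∃ u ∈ ws V R, a * u ≠ u * a := by
    by_contra hcon
    push Not at hcon
    exact hx fun a ha => mem_centralizer_iff.2 fun u hu => (hcon a ha u hu).symm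
  refine ⟨k * u * k⁻¹, by rw [ws_cj]; exact conj_mem_cj hu, u, hu, m.comm_kf h hd hx hI hu, ?_, a, ha, hau⟩
  refine ⟨(k * f) * a * (k * f)⁻¹, ?_, fun hc => hau ?_⟩
  · have h1 : (k * f) * a * (k * f)⁻¹ ∈ ws V (cj (k * f) (cj k R)) := by
      rw [ws_cj]
      exact conj_mem_cj ha
    rwa [m.kf_x h] at h1
  · rw [← m.kf_conj h hu] at hc
    have h1 : (k * f) * (u * a) * (k * f)⁻¹ = (k * f) * (a * u) * (k * f)⁻¹ := by
      calc (k * f) * (u * a) * (k * f)⁻¹ = (k * f) * u * (k * f)⁻¹ * ((k * f) * a * (k * f)⁻¹) := by group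
        _ = (k * f) * a * (k * f)⁻¹ * ((k * f) * u * (k * f)⁻¹) := hc
        _ = _ := by group
    exact (mul_left_cancel (mul_right_cancel h1)).symm

end Mv

end Cfsg.Agent.Omega.NO3S.MidB.No
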