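import Cfsg.Agent.Omega.NO3S.MidB.No.Defs

/-!
# NO-3S, critical distance 2, the `(R, B)`-frame: no (D)-pair (helper491 #19438 step 1, helper502 #17909)

* `Mid.bad_core` : `(A, B)` critical with middle `R`, `|W_A : C(W_B)| ≤ |W_B : C(W_A)|`; every `f ∈ W_B` which does not
  centralise `W_A` moves a point `Y ~ A` with `[Y, W_B] ≤ R`.  Then `[W_A, W_B] ≤ R`.
* `Mid.bad_line` : the same with `[Y, C_G(W_R)] ≤ V_{AR}`;
* `Mid.exact_le` : `|W_A : C(W_B)| ≤ |W_B : C(W_A)|` from (NO);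
* `Mid.bad` : (NO), movers for all `f ∈ W_B` moving `W_A`, LEMMA D, and no (D)-pair `(R ^ k, R ^ k⁻¹)`:
  `[W_A, W_B] ≤ R`.
-/

set_option autoImplicit false
set_option linter.unusedSectionVars false

namespace Cfsg.Agent.Omega.NO3S.MidB.No

open Subgroup Cfsg.Agent.Omega.NO3S.PT Cfsg.Agent.Omega.NoFF.Basic Cfsg.Agent.ZN
open Cfsg.Agent.Omega.NO3S.MidQ (Adj Com Cr UU le_UU normalizer_le_UU)
open Cfsg.Agent.Omega.NO3S.MidB.Mid (comm_one comm_eq)

variable {G : Type*} [Group G] [Finite G] {S : Sylow 2 G} {P V Z A R B Y L : Subgroup G}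

/-- `{w ∈ W_A : [w, W_B] ≤ R}` -/
def NB (V A R B : Subgroup G) (hAR : ws V A ≤ centralizer (R : Set G)) : Subgroup G where
  carrier := {w | w ∈ ws V A ∧ ∀ b ∈ ws V B, w * b * w⁻¹ * b⁻¹ ∈ R}
  one_mem' := ⟨one_mem _, fun b _ => by simp⟩
  mul_mem' := by
    rintro v w ⟨hv, hv'⟩ ⟨hw, hw'⟩
    refine ⟨mul_mem hv hw, fun b hb => ?_⟩
    have e : v * w * b * (v * w)⁻¹ * b⁻¹ = v * (w * b * w⁻¹ * b⁻¹) * v⁻¹ * (v * b * v⁻¹ * b⁻¹) := by group
    rw [e, ← mem_centralizer_iff.1 (hAR hv) _ (hw' b hb), mul_inv_cancel_right]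
    exact R.mul_mem (hw' b hb) (hv' b hb)
  inv_mem' := by
    rintro v ⟨hv, hv'⟩
    refine ⟨inv_mem hv, fun b hb => ?_⟩
    have e : v⁻¹ * b * v⁻¹⁻¹ * b⁻¹ = v⁻¹ * (v * b * v⁻¹ * b⁻¹)⁻¹ * v := by group
    rw [e, mul_assoc, mem_centralizer_iff.1 (hAR hv) _ (R.inv_mem (hv' b hb)), inv_mul_cancel_left]
    exact R.inv_mem (hv' b hb)

theorem mem_NB {hAR : ws V A ≤ centralizer (R : Set G)} {w : G} :
    w ∈ NB V A R B hAR ↔ w ∈ ws V A ∧ ∀ b ∈ ws V B, w * b * w⁻¹ * b⁻¹ ∈ R := Iff.rfl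

/-- an abelian 2-group `D` centralising `R`, with `[y, D] ≤ R`: `|D : C_D(y)| ≤ |R|` -/
theorem relIndex_le_of_comm {D R : Subgroup G} {y : G} (hDR : D ≤ centralizer (R : Set G))
    (hy : ∀ d ∈ D, y * d * y⁻¹ * d⁻¹ ∈ R) : (centralizer {y}).relIndex D ≤ Nat.card R := by
  let φ : D →* R :=
    { toFun := fun d => ⟨y * d * y⁻¹ * (d : G)⁻¹, hy d d.2⟩
      map_one' := Subtype.ext (by simp)
      map_mul' := fun a b => Subtype.ext (by
        show y * ((a : G) * b) * y⁻¹ * ((a : G) * b)⁻¹ = (y * a * y⁻¹ * (a : G)⁻¹) * (y * b * y⁻¹ * (b : G)⁻¹)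
        have h1 := mem_centralizer_iff.1 (hDR a.2) _ (hy b b.2)
        have e : y * ((a : G) * b) * y⁻¹ * ((a : G) * b)⁻¹ =
            (y * a * y⁻¹ * (a : G)⁻¹) * ((a : G) * (y * b * y⁻¹ * (b : G)⁻¹) * (a : G)⁻¹) := by group
        rw [e, ← h1, mul_inv_cancel_right]) }
  have hk : φ.ker = (centralizer {y}).subgroupOf D := by
    ext d
    rw [MonoidHom.mem_ker, mem_subgroupOf, mem_centralizer_singleton_iff]
    constructor
    · intro e
      have e' : y * (d : G) * y⁻¹ * (d : G)⁻¹ = 1 := congrArg Subtype.val e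
      rw [mul_inv_eq_one, mul_inv_eq_iff_eq_mul] at e'
      exact e'.symm
    · intro e
      apply Subtype.ext
      show y * (d : G) * y⁻¹ * (d : G)⁻¹ = 1
      rw [← e]; group
  rw [relIndex, ← hk, index_ker]
  exact Nat.card_le_card_of_injective _ Subtype.val_injective

/-- **counting core** -/
theorem _root_.Cfsg.Agent.Omega.NO3S.MidB.Mid.bad_core (h : Mid S P V Z) (hc : Cr V Z A R B)
    (hex : (centralizer ((ws V B : Subgroup G) : Set G)).relIndex (ws V A) ≤
      (centralizer ((ws V A : Subgroup G) : Set G)).relIndex (ws V B))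
    (hY : ∀ f ∈ ws V B, (∃ w ∈ ws V A, f * w ≠ w * f) → ∃ Y, Adj V Z Y A ∧ (∃ y ∈ Y, f * y ≠ y * f) ∧
      ∀ y ∈ Y, ∀ b ∈ ws V B, y * b * y⁻¹ * b⁻¹ ∈ R) :
    ∀ a ∈ ws V A, ∀ b ∈ ws V B, a * b * a⁻¹ * b⁻¹ ∈ R := by
  have hAR : ws V A ≤ centralizer (R : Set G) := h.ws_le_cent' hc.l
  have hBR : ws V B ≤ centralizer (R : Set G) := h.ws_le_cent' hc.r.symm
  have hBA : ws V B ≤ centralizer (A : Set G) := h.ws_le_cent hc.r.symm hc.l.symm
  set N := NB V A R B hAR with hN
  set C0 := centralizer ((ws V A : Subgroup G) : Set G) with hC0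
  have hfin : ∀ H K : Subgroup G, H.relIndex K ≠ 0 := fun H K => by
    rw [relIndex]; exact Subgroup.index_ne_zero_of_finite
  have key : ∀ n : ℕ, ∀ D : Subgroup G, Nat.card D ≤ n → D ≤ ws V B →
      C0.relIndex D ≤ (centralizer (D : Set G)).relIndex N := by
    intro n
    induction n with
    | zero =>
      intro D hD
      exact absurd hD (by have := Nat.card_pos (α := D); omega)
    | succ n ih =>
      intro D hDn hD
      by_cases hDC : D ≤ C0
      · rw [relIndex_eq_one.2 hDC]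
        exact Nat.one_le_iff_ne_zero.2 (hfin _ _)
      obtain ⟨f, hf, hfC⟩ := SetLike.not_le_iff_exists.1 hDC
      have hfC' : ∃ w ∈ ws V A, f * w ≠ w * f := by
        by_contra hcon
        push Not at hcon
        exact hfC (mem_centralizer_iff.2 fun w hw => (hcon w hw).symm)
      obtain ⟨Y, hYA, ⟨y, hy, hfy⟩, hYB⟩ := hY f (hD hf) hfC'
      have hYw : Y ≤ ws V A := h.adj_le_ws hYA.symm
      have hYN : Y ≤ N := fun v hv => ⟨hYw hv, hYB v hv⟩
      have hy1 : y ≠ 1 := by rintro rfl; exact hfy (by simp)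
      -- (T3)
      have t3 : ∀ d ∈ D, ∀ v ∈ Y, v ≠ 1 → d * v = v * d → ∀ u ∈ Y, d * u = u * d := by
        intro d hd v hv hv1 hdv
        exact h.t3 hYA.symm (h.two_ws hc.r.right (hD hd))
          (fun a ha => (mem_centralizer_iff.1 (hBA (hD hd)) a ha).symm) hv hv1 hdv
      set D' := D ⊓ centralizer (Y : Set G) with hD'
      have hD'D : D' ≤ D := inf_le_left
      have hlt : Nat.card D' ≤ n := by
        have h1 : D' < D := lt_of_le_of_ne hD'D fun e => hfy (by
          have h2 : f ∈ D' := e ▸ hf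
          exact (mem_centralizer_iff.1 h2.2 y hy).symm)
        have h2 : Nat.card D' < Nat.card D := by
          refine lt_of_le_of_ne (Subgroup.card_le_of_le hD'D) fun e => h1.ne ?_
          exact Subgroup.eq_of_le_of_card_ge hD'D e.ge
        omega
      have ih' := ih D' hlt (hD'D.trans hD)
      -- |D : D'| ≤ |R| = |Y|
      have h3 : D'.relIndex D ≤ Nat.card Y := by
        have h4 : D'.relIndex D = (centralizer {y}).relIndex D := by
          have h5 : (centralizer {y} : Subgroup G) ⊓ D = D' := by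
            apply le_antisymm
            · rintro d ⟨hd, hd'⟩
              refine ⟨hd', mem_centralizer_iff.2 fun u hu => ?_⟩
              exact (t3 d hd' y hy hy1 (mem_centralizer_singleton_iff.1 hd) u hu).symm
            · rintro d ⟨hd, hd'⟩
              exact ⟨mem_centralizer_singleton_iff.2 (mem_centralizer_iff.1 hd' y hy).symm, hd⟩
          rw [← inf_relIndex_right (centralizer {y}) D, h5]
        have h6 : Nat.card Y = Nat.card R := by
          obtain ⟨g, rfl⟩ := hYA.left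
          obtain ⟨g', rfl⟩ := hc.l.right
          rw [card_cj, card_cj]
        rw [h4, h6]
        exact relIndex_le_of_comm (hD.trans hBR) fun d hd => hYB y hy d (hD hd)
      -- |C_N(D') : C_N(D)| ≥ |Y|
      have h7 : Nat.card Y ≤ (centralizer (D : Set G) ⊓ N).relIndex (centralizer (D' : Set G) ⊓ N) := by
        have h8 : Y ≤ centralizer (D' : Set G) ⊓ N := by
          refine le_inf (fun u hu => mem_centralizer_iff.2 fun d hd => ?_) hYN
          exact (mem_centralizer_iff.1 (hd : d ∈ D').2 u hu).symm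
        have h9 : (centralizer (D : Set G) ⊓ N).relIndex Y = Nat.card Y := by
          have h10 : (centralizer (D : Set G) ⊓ N) ⊓ Y = ⊥ := by
            rw [eq_bot_iff]
            rintro u ⟨⟨hu, -⟩, huY⟩
            by_contra hu1
            exact hfy (t3 f hf u huY hu1 (mem_centralizer_iff.1 hu f hf) y hy)
          rw [← inf_relIndex_right, h10, relIndex_bot_left]
        rw [← h9]
        exact relIndex_le_of_le_right h8 (hfin _ _)
      have h11 : (centralizer (D : Set G) ⊓ N).relIndex (centralizer (D' : Set G) ⊓ N) *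
          (centralizer (D' : Set G) ⊓ N).relIndex N = (centralizer (D : Set G) ⊓ N).relIndex N :=
        relIndex_mul_relIndex _ _ _ (inf_le_inf_right _ (centralizer_le hD'D)) inf_le_right
      rw [inf_relIndex_right, inf_relIndex_right] at h11
      have hC0Y : (C0 ⊓ D) ≤ D' := by
        rintro d ⟨hd, hd'⟩
        exact ⟨hd', mem_centralizer_iff.2 fun u hu => mem_centralizer_iff.1 hd u (hYw hu)⟩
      have h12 : (C0 ⊓ D).relIndex D' * D'.relIndex D = (C0 ⊓ D).relIndex D :=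
        relIndex_mul_relIndex _ _ _ hC0Y hD'D
      have h13 : (C0 ⊓ D).relIndex D' = C0.relIndex D' := by
        rw [← inf_relIndex_right (C0 ⊓ D) D', inf_assoc, inf_eq_right.2 hD'D, inf_relIndex_right]
      rw [h13, inf_relIndex_right] at h12
      calc C0.relIndex D = C0.relIndex D' * D'.relIndex D := h12.symm
        _ ≤ (centralizer (D' : Set G)).relIndex N *
            (centralizer (D : Set G) ⊓ N).relIndex (centralizer (D' : Set G) ⊓ N) :=
          Nat.mul_le_mul ih' (h3.trans h7)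
        _ = (centralizer (D : Set G)).relIndex N := by rw [mul_comm, h11]
  have h1 := key _ (ws V B) le_rfl le_rfl
  -- `N = W_A`
  have hNA : N ≤ ws V A := fun w hw => hw.1
  have hCN : centralizer ((ws V B : Subgroup G) : Set G) ⊓ ws V A ≤ N := by
    rintro w ⟨hw, hwA⟩
    refine ⟨hwA, fun b hb => ?_⟩
    rw [comm_one (mem_centralizer_iff.1 hw b hb).symm]
    exact one_mem _
  have h2 : (centralizer ((ws V B : Subgroup G) : Set G) ⊓ ws V A).relIndex N * N.relIndex (ws V A) =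
      (centralizer ((ws V B : Subgroup G) : Set G) ⊓ ws V A).relIndex (ws V A) :=
    relIndex_mul_relIndex _ _ _ hCN hNA
  have h3 : (centralizer ((ws V B : Subgroup G) : Set G) ⊓ ws V A).relIndex N =
      (centralizer ((ws V B : Subgroup G) : Set G)).relIndex N := by
    rw [← inf_relIndex_right (centralizer ((ws V B : Subgroup G) : Set G) ⊓ ws V A) N, inf_assoc,
      inf_eq_right.2 hNA, inf_relIndex_right]
  rw [h3, inf_relIndex_right] at h2
  have h4 : N.relIndex (ws V A) = 1 := by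
    have h5 := hfin N (ws V A)
    have h6 := hfin (centralizer ((ws V B : Subgroup G) : Set G)) N
    have h7 : (centralizer ((ws V B : Subgroup G) : Set G)).relIndex N * N.relIndex (ws V A) ≤
        (centralizer ((ws V B : Subgroup G) : Set G)).relIndex N := by
      rw [h2]; exact hex.trans h1
    by_contra h8
    have h9 : 2 ≤ N.relIndex (ws V A) := by omega
    have h10 := Nat.mul_le_mul_left ((centralizer ((ws V B : Subgroup G) : Set G)).relIndex N) h9
    have h11 : 0 < (centralizer ((ws V B : Subgroup G) : Set G)).relIndex N := Nat.pos_of_ne_zero h6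
    omega
  intro a ha b hb
  exact ((relIndex_eq_one.1 h4) ha).2 b hb

/-- `V_{AR} ∩ W_B = R` -/
theorem _root_.Cfsg.Agent.Omega.NO3S.MidB.Mid.line_inf (h : Mid S P V Z) (hc : Cr V Z A R B) (hL : IsCj V L) (hAL : A ≤ L) (hRL : R ≤ L) {u : G} (hu : u ∈ L)
    (hu' : u ∈ ws V B) : u ∈ R := by
  obtain ⟨x, hx, y, hy, rfl⟩ := h.line_eq hc.l.left hc.l.right hc.l.ne hL hAL hRL hu
  have h1 : y ∈ ws V B := h.adj_le_ws hc.r.symm hy
  have h2 : x ∈ ws V B := by
    have := (ws V B).mul_mem hu' ((ws V B).inv_mem h1)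
    rwa [mul_inv_cancel_right] at this
  rw [h.star hc hx h2, one_mul]
  exact hy

/-- **no (D)-pair**: line form -/
theorem _root_.Cfsg.Agent.Omega.NO3S.MidB.Mid.bad_line (h : Mid S P V Z) (hc : Cr V Z A R B)
    (hex : (centralizer ((ws V B : Subgroup G) : Set G)).relIndex (ws V A) ≤
      (centralizer ((ws V A : Subgroup G) : Set G)).relIndex (ws V B))
    (hL : IsCj V L) (hAL : A ≤ L) (hRL : R ≤ L)
    (hY : ∀ f ∈ ws V B, (∃ w ∈ ws V A, f * w ≠ w * f) → ∃ Y, Adj V Z Y A ∧ (∃ y ∈ Y, f * y ≠ y * f) ∧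
      ∀ y ∈ Y, ∀ g ∈ centralizer ((ws V R : Subgroup G) : Set G), y * g * y⁻¹ * g⁻¹ ∈ L) :
    ∀ a ∈ ws V A, ∀ b ∈ ws V B, a * b * a⁻¹ * b⁻¹ ∈ R := by
  refine h.bad_core hc hex fun f hf hfw => ?_
  obtain ⟨Y, hYA, hfy, hYg⟩ := hY f hf hfw
  refine ⟨Y, hYA, hfy, fun y hy b hb => ?_⟩
  have hyA : y ∈ ws V A := h.adj_le_ws hYA.symm hy
  refine h.line_inf hc hL hAL hRL (hYg y hy b ?_) (h.comm_mem hc hyA hb).2
  exact h.com B R hc.r.symm hb

/-- **one half of exactness**, from (NO) for the flag `(B, V_{RB})` -/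
theorem _root_.Cfsg.Agent.Omega.NO3S.MidB.Mid.exact_le (h : Mid S P V Z) (hNO : NOg V Z) (hc : Cr V Z A R B) :
    (centralizer ((ws V B : Subgroup G) : Set G)).relIndex (ws V A) ≤
      (centralizer ((ws V A : Subgroup G) : Set G)).relIndex (ws V B) := by
  obtain ⟨M, hM, hRM, hBM⟩ := hc.r.line
  have h1 := hNO B M (UU V Z R) (ws V A) (centralizer ((ws V A : Subgroup G) : Set G) ⊓ ws V B) hc.r.right hM hBM
    ((h.UU_le_centralizer R).trans (centralizer_le (le_ws hM hRM)))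
    ((centralizer_le hRM).trans ((centralizer_le_normalizer _).trans (normalizer_le_UU V Z R)))
    (fun g hg => by
      obtain ⟨n, hn⟩ := h.two_UU hg
      exact ⟨n, by rw [hn]; exact one_mem _⟩)
    (le_UU hc.l) (fun d hd => by rw [h.ws_sq hc.l.left hd]; exact one_mem _) (fun u => by
      constructor
      · rintro ⟨hu, hu'⟩
        refine ⟨hu', fun d hd => ?_⟩
        rw [comm_one (mem_centralizer_iff.1 hu d hd)]
        exact one_mem _
      · rintro ⟨hu, hu'⟩
        exact ⟨mem_centralizer_iff.2 (h.cent_of_mod' hc.symm hu hu'), hu⟩)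
  have h2 : (kx V B).relIndex (ws V A) = (centralizer ((ws V B : Subgroup G) : Set G)).relIndex (ws V A) := by
    rw [← inf_relIndex_left, h.inf_kx hc.symm, inf_relIndex_left]
  have h3 : Nat.card (centralizer ((ws V A : Subgroup G) : Set G) ⊓ ws V B : Subgroup G) *
      (centralizer ((ws V A : Subgroup G) : Set G)).relIndex (ws V B) = Nat.card (ws V B) := by
    rw [← inf_relIndex_right (centralizer ((ws V A : Subgroup G) : Set G)) (ws V B), ← relIndex_bot_left,
      ← relIndex_bot_left]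
    exact relIndex_mul_relIndex _ _ _ bot_le inf_le_right
  rw [h2, ← h3, mul_comm] at h1
  exact Nat.le_of_mul_le_mul_left h1 Nat.card_pos

/-- **no (D)-pair** (piece (C) of #20170) -/
theorem _root_.Cfsg.Agent.Omega.NO3S.MidB.Mid.bad (h : Mid S P V Z) (hNO : NOg V Z) (hc : Cr V Z A R B)
    (hmov : ∀ f ∈ ws V B, (∃ w ∈ ws V A, f * w ≠ w * f) → ∃ k, Mv V Z A R B f k ∧ ¬ DD V A R k 1)
    (hlemD : ∀ X Y L, Adj V Z X A → Adj V Z Y A → IsCj V L → A ≤ L → X ≤ L → ¬ ws V X ⊓ ws V Y ≤ ws V A →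
      ∀ g ∈ centralizer ((ws V X : Subgroup G) : Set G), ∀ y ∈ Y, g * y * g⁻¹ * y⁻¹ ∈ L) :
    ∀ a ∈ ws V A, ∀ b ∈ ws V B, a * b * a⁻¹ * b⁻¹ ∈ R := by
  obtain ⟨L, hL, hAL, hRL⟩ := hc.l.line
  refine h.bad_line hc (h.exact_le hNO hc) hL hAL hRL fun f hf hfw => ?_
  obtain ⟨k, hk, hkD⟩ := hmov f hf hfw
  have hkA : PT.cj k A = A := cj_eq_iff.2 (centralizer_le_normalizer _ (mem_centralizer_iff.2 fun x hx =>
    (hk.cent x hx).symm))
  have hkA' : PT.cj k⁻¹ A = A := by
    conv_lhs => rw [← hkA]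
    rw [cj_cj, inv_mul_cancel, cj_one]
  have adj_cj : ∀ {g : G} {X : Subgroup G}, PT.cj g A = A → Adj V Z X A → Adj V Z (PT.cj g X) A := by
    rintro g X hg ⟨h1, h2, h3, M, h4, h5, h6⟩
    refine ⟨h1.cj g, h2, ?_, PT.cj g M, h4.cj g, cj_le_cj.2 h5, ?_⟩
    · intro e
      rw [← hg] at e
      exact h3 (cj_inj.1 e)
    · have h7 := cj_le_cj (g := g).2 h6
      rwa [hg] at h7
  have hX : Adj V Z (PT.cj k R) A := adj_cj hkA hc.l.symm
  have hY : Adj V Z (PT.cj k⁻¹ R) A := adj_cj hkA' hc.l.symm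
  have hn : ¬ ws V (PT.cj k R) ⊓ ws V (PT.cj k⁻¹ R) ≤ ws V A := by
    have h1 := hkD
    unfold DD pw at h1
    rwa [pow_one, pow_one] at h1
  have hAkL : A ≤ PT.cj k L := by
    have h7 := cj_le_cj (g := k).2 hAL
    rwa [hkA] at h7
  have h8 := hlemD _ _ _ hX hY (hL.cj k) hAkL (cj_le_cj.2 hRL) hn
  refine ⟨PT.cj k⁻¹ (PT.cj k⁻¹ R), adj_cj hkA' hY, ?_, ?_⟩
  · -- `f` moves the point
    by_contra hcon
    push Not at hcon
    set Y := PT.cj k⁻¹ (PT.cj k⁻¹ R) with hYdef
    have hfY : PT.cj f Y = Y := cj_eq_iff.2 (centralizer_le_normalizer _ (mem_centralizer_iff.2 fun x hx =>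
      (hcon x hx).symm))
    have hfR : PT.cj f R = R := cj_eq_iff.2 (centralizer_le_normalizer _ (h.ws_le_cent' hc.r.symm hf))
    have e1 : f * (k⁻¹ * k⁻¹) = k * k * f := by
      have e2 : f * k⁻¹ * f⁻¹ = k := by
        have h9 := congrArg (fun x => x⁻¹) hk.inv
        simpa [mul_assoc] using h9
      have e3 : f * k⁻¹ = k * f := by
        have h9 := congrArg (· * f) e2
        simpa [mul_assoc] using h9
      rw [← mul_assoc, e3, mul_assoc, e3, ← mul_assoc]
    have h10 : PT.cj (k * k) R = Y := by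
      rw [← hfY, hYdef, cj_cj, cj_cj, mul_assoc, e1, ← cj_cj (k * k) f, hfR]
    have h11 : PT.cj (k ^ 4) R = R := by
      have e4 : k ^ 4 = k * k * (k * k) := by
        rw [show (4 : ℕ) = 2 * 2 by norm_num, pow_mul, pow_two, pow_two]
      have h12 := congrArg (PT.cj (k * k)) h10
      rw [e4, ← cj_cj, h12, hYdef, cj_cj, cj_cj,
        show k * k * k⁻¹ * k⁻¹ = 1 by group, cj_one]
    have hkA4 : PT.cj (k ^ 4) A = A := cj_eq_iff.2 ((normalizer (A : Set G)).pow_mem (cj_eq_iff.1 hkA) 4)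
    have hk4 : k ^ 4 ≠ 1 := by
      intro e
      have h12 : orderOf k ∣ 2 ^ 2 := by
        rw [show (2 : ℕ) ^ 2 = 4 by norm_num]
        exact orderOf_dvd_of_pow_eq_one e
      have h13 : Nat.Coprime (orderOf k) (2 ^ 2) := Nat.Coprime.pow_right _ (Nat.coprime_two_right.2 hk.odd)
      exact hk.ne (orderOf_eq_one_iff.1 (Nat.eq_one_of_dvd_coprimes h13 dvd_rfl h12))
    refine hk.mv 4 hk4 L hL hAL hRL ?_
    refine h.line_unique hc.l.left hc.l.right hc.l.ne (hL.cj _) hL ?_ ?_ hAL hRL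
    · have h7 := cj_le_cj (g := k ^ 4).2 hAL
      rwa [hkA4] at h7
    · have h7 := cj_le_cj (g := k ^ 4).2 hRL
      rwa [h11] at h7
  · intro y hy g hg
    have hy' : k * y * k⁻¹ ∈ PT.cj k⁻¹ R := by
      have h9 := conj_mem_cj (g := k) hy
      rwa [cj_cj, mul_inv_cancel, cj_one] at h9
    have hg' : k * g * k⁻¹ ∈ centralizer ((ws V (PT.cj k R) : Subgroup G) : Set G) := by
      have h9 := conj_mem_cj (g := k) hg
      rw [cj_centralizer, ← ws_cj] at h9
      exact h9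
    have h9 := h8 _ hg' _ hy'
    rw [mem_cj] at h9
    have e : k⁻¹ * (k * g * k⁻¹ * (k * y * k⁻¹) * (k * g * k⁻¹)⁻¹ * (k * y * k⁻¹)⁻¹) * k =
        (y * g * y⁻¹ * g⁻¹)⁻¹ := by group
    rw [e] at h9
    exact (inv_mem_iff).1 h9

end Cfsg.Agent.Omega.NO3S.MidB.No
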