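import Cfsg.Agent.Omega.NO3S.MidB.Base

/-!
# NO-3S, natural lines, critical distance 2: LEMMA D (bb OMEGA #20170 (B); helper317 #19757 (2.1))

`X, Y ~ B`, `L` the line `BX`.  Either `W_X ∩ W_Y ≤ W_B`, or `K_B ∩ C(L)` centralises `[η, g]` for all
`g ∈ C_G(W_X)` and `η ∈ Y` (`lemD_raw`), so that `[η, g] ∈ L` if `C_{W_B}(K_B ∩ C(L)) ≤ L` (`lemD`).
`X` and `Y` need not be on different lines.
-/

set_option autoImplicit false

namespace Cfsg.Agent.Omega.NO3S.MidB.No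

open Subgroup Cfsg.Agent.Omega.NO3S.PT
open Cfsg.Agent.Omega.NO3S.MidQ (Adj Com Cr UU)
open scoped Pointwise

variable {G : Type*} [Group G] [Finite G] {S : Sylow 2 G} {P V Z X Y B L : Subgroup G}

/-- an element of `C_G(W_X)` centralises the points collinear with `X` -/
theorem cent_adj (h : Mid S P V Z) (hX : Adj V Z X B) {g : G}
    (hg : g ∈ centralizer ((ws V X : Subgroup G) : Set G)) : ∀ b ∈ B, g * b = b * g := fun b hb =>
  (mem_centralizer_iff.1 hg b (h.adj_le_ws hX hb)).symm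

omit [Finite G] in
/-- `W_X ∩ W_Y ≤ W_{Y^g}` for `g ∈ C_G(W_X)` -/
theorem inf_le_cj (V X Y : Subgroup G) {g : G} (hg : g ∈ centralizer ((ws V X : Subgroup G) : Set G)) :
    ws V X ⊓ ws V Y ≤ ws V (cj g Y) := by
  rintro u ⟨hu, hu'⟩
  rw [ws_cj, mem_cj]
  have h1 : g⁻¹ * u * g = u := by
    have := mem_centralizer_iff.1 hg u hu
    rw [mul_assoc, this, inv_mul_cancel_left]
  rwa [h1]

/-- two points `≠ B` of a line on `B` whose `W` contain a common subgroup which is not in `W_B` are equal -/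
theorem pt_unique (h : Mid S P V Z) {A A' N D : Subgroup G} (hB : IsCj Z B) (hA : IsCj Z A) (hA' : IsCj Z A')
    (hN : IsCj V N) (hBN : B ≤ N) (hAN : A ≤ N) (hAN' : A' ≤ N) (hD : D ≤ ws V A) (hD' : D ≤ ws V A')
    (hn : ¬ D ≤ ws V B) : A = A' := by
  by_contra hne
  exact hn ((le_inf hD hD').trans (h.inf_le hN hA hA' hB hAN hAN' hBN hne))

/-- **LEMMA D**, raw form -/
theorem lemD_raw (h : Mid S P V Z) (hX : Adj V Z X B) (hY : Adj V Z Y B) (hXL : X ≤ L)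
    (hn : ¬ ws V X ⊓ ws V Y ≤ ws V B) {g y : G} (hg : g ∈ centralizer ((ws V X : Subgroup G) : Set G)) (hy : y ∈ Y)
    {k : G} (hk : k ∈ kx V B) (hkL : ∀ x ∈ L, k * x = x * k) :
    k * (g * y * g⁻¹ * y⁻¹) = g * y * g⁻¹ * y⁻¹ * k := by
  obtain ⟨M, hM, hYM, hBM⟩ := hY.line
  have hgB := cent_adj h hX hg
  have hcB : cj g B = B := cj_eq_iff.2 (centralizer_le_normalizer _
    (mem_centralizer_iff.2 fun b hb => (hgB b hb).symm))
  have hBgM : B ≤ cj g M := by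
    rw [← hcB]; exact cj_le_cj.2 hBM
  -- `g' = k g k⁻¹ ∈ C_G(W_X)`
  have hkX : k ∈ normalizer ((ws V X : Subgroup G) : Set G) := normalizer_le_ws V X
    (centralizer_le_normalizer _ (mem_centralizer_iff.2 fun x hx => (hkL x (hXL hx)).symm))
  have hg' : k * g * k⁻¹ ∈ centralizer ((ws V X : Subgroup G) : Set G) := by
    rw [mem_centralizer_iff]
    intro w hw
    have h1 : k⁻¹ * w * k ∈ ws V X := by
      have h2 := (mem_normalizer_iff.1 (inv_mem hkX) w).1 hw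
      rwa [inv_inv] at h2
    have h2 := mem_centralizer_iff.1 hg _ h1
    calc w * (k * g * k⁻¹) = k * (k⁻¹ * w * k * g) * k⁻¹ := by group
      _ = k * (g * (k⁻¹ * w * k)) * k⁻¹ := by rw [h2]
      _ = k * g * k⁻¹ * w := by group
  have hkB : ∀ b ∈ B, k * b = b * k := (mem_kx.1 hk).1
  have hYW : Y ≤ ws V B := h.adj_le_ws hY.symm
  have hgY : cj g Y ≤ ws V B := (cj_le_cj.2 hYM).trans (le_ws (hM.cj g) hBgM)
  -- `g' η g'⁻¹ ∈ B (η^g)`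
  have key : ∀ η ∈ Y, ∃ c ∈ B, k⁻¹ * η * k = c * η ∧
      k * g * k⁻¹ * η * (k * g * k⁻¹)⁻¹ = c * (k * (g * η * g⁻¹) * k⁻¹ * (g * η * g⁻¹)⁻¹) * (g * η * g⁻¹) ∧
      k * (g * η * g⁻¹) * k⁻¹ * (g * η * g⁻¹)⁻¹ ∈ B := by
    intro η hη
    have hc : k⁻¹ * η * k * η⁻¹ ∈ B := by
      have h1 := (mem_kx.1 (inv_mem hk)).2 η (hYW hη)
      rwa [inv_inv] at h1
    refine ⟨k⁻¹ * η * k * η⁻¹, hc, by group, ?_, (mem_kx.1 hk).2 _ (hgY (conj_mem_cj hη))⟩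
    have h1 := hgB _ hc
    have h2 := hkB _ hc
    generalize hcc : k⁻¹ * η * k * η⁻¹ = c at h1 h2 hc ⊢
    have h3 : k⁻¹ * η * k = c * η := by rw [← hcc]; group
    calc k * g * k⁻¹ * η * (k * g * k⁻¹)⁻¹ = k * (g * (k⁻¹ * η * k) * g⁻¹) * k⁻¹ := by group
      _ = k * (g * c * η * g⁻¹) * k⁻¹ := by rw [h3, ← mul_assoc g c η]
      _ = k * c * (g * η * g⁻¹) * k⁻¹ := by rw [h1]; group
      _ = c * k * (g * η * g⁻¹) * k⁻¹ := by rw [h2]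
      _ = _ := by group
  have hle : cj (k * g * k⁻¹) Y ≤ cj g M := by
    intro u hu
    rw [mem_cj] at hu
    obtain ⟨c, hc, -, h1, h2⟩ := key _ hu
    have h3 : u = k * g * k⁻¹ * ((k * g * k⁻¹)⁻¹ * u * (k * g * k⁻¹)) * (k * g * k⁻¹)⁻¹ := by group
    rw [h3, h1]
    exact mul_mem (hBgM (mul_mem hc h2)) (cj_le_cj.2 hYM (conj_mem_cj hu))
  have heq : cj (k * g * k⁻¹) Y = cj g Y :=
    pt_unique h hY.right (hY.left.cj _) (hY.left.cj _) (hM.cj g) hBgM hle (cj_le_cj.2 hYM)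
      (inf_le_cj V X Y hg') (inf_le_cj V X Y hg) hn
  obtain ⟨c, hc, h0, h1, h2⟩ := key y hy
  have h3 : k * g * k⁻¹ * y * (k * g * k⁻¹)⁻¹ ∈ cj g Y := heq ▸ conj_mem_cj hy
  rw [h1] at h3
  have h4 : c * (k * (g * y * g⁻¹) * k⁻¹ * (g * y * g⁻¹)⁻¹) ∈ cj g Y := by
    have h5 := mul_mem h3 (inv_mem (conj_mem_cj (g := g) hy))
    rwa [mul_inv_cancel_right] at h5
  have h5 : c * (k * (g * y * g⁻¹) * k⁻¹ * (g * y * g⁻¹)⁻¹) = 1 := by
    by_contra h6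
    have h7 := h.pts_eq (hY.left.cj g) hY.right h4 (mul_mem hc h2) h6
    rw [← hcB] at h7
    exact hY.ne (cj_inj.1 h7)
  have h6 : k * (g * y * g⁻¹) * k⁻¹ = c⁻¹ * (g * y * g⁻¹) := by
    rw [mul_eq_one_iff_eq_inv] at h5
    rw [h5]; group
  have h7 : k * y * k⁻¹ = c⁻¹ * y := by
    have h8 : y = k * (c * y) * k⁻¹ := by rw [← h0]; group
    have h9 : y = c * (k * y * k⁻¹) := by
      calc y = k * (c * y) * k⁻¹ := h8
        _ = k * c * y * k⁻¹ := by group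
        _ = c * k * y * k⁻¹ := by rw [hkB c hc]
        _ = _ := by group
    calc k * y * k⁻¹ = c⁻¹ * (c * (k * y * k⁻¹)) := by group
      _ = c⁻¹ * y := by rw [← h9]
  have h8 : c * (g * y * g⁻¹ * y⁻¹) = g * y * g⁻¹ * y⁻¹ * c :=
    h.ws_comm hY.right (h.pt_le_ws hY.right hc) (mul_mem (hgY (conj_mem_cj hy)) (inv_mem (hYW hy)))
  rw [← mul_inv_eq_iff_eq_mul]
  calc k * (g * y * g⁻¹ * y⁻¹) * k⁻¹ = k * (g * y * g⁻¹) * k⁻¹ * (k * y * k⁻¹)⁻¹ := by group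
    _ = c⁻¹ * (g * y * g⁻¹) * (c⁻¹ * y)⁻¹ := by rw [h6, h7]
    _ = c⁻¹ * (g * y * g⁻¹ * y⁻¹ * c) := by group
    _ = c⁻¹ * (c * (g * y * g⁻¹ * y⁻¹)) := by rw [h8]
    _ = g * y * g⁻¹ * y⁻¹ := by group

/-- **LEMMA D**: `X, Y ~ B`, `L` the line `BX`, `C_{W_B}(K_B ∩ C(L)) ≤ L`, `W_X ∩ W_Y` not in `W_B`:
`[Y, C_G(W_X)] ≤ L`. -/
theorem lemD (h : Mid S P V Z) (hX : Adj V Z X B) (hY : Adj V Z Y B) (hXL : X ≤ L)
    (hLam : ∀ u ∈ ws V B, (∀ k ∈ kx V B, (∀ x ∈ L, k * x = x * k) → k * u = u * k) → u ∈ L)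
    (hn : ¬ ws V X ⊓ ws V Y ≤ ws V B) {g y : G} (hg : g ∈ centralizer ((ws V X : Subgroup G) : Set G)) (hy : y ∈ Y) :
    g * y * g⁻¹ * y⁻¹ ∈ L := by
  refine hLam _ ?_ fun k hk hkL => lemD_raw h hX hY hXL hn hg hy hk hkL
  have hgB := cent_adj h hX hg
  have hcB : cj g B = B := cj_eq_iff.2 (centralizer_le_normalizer _
    (mem_centralizer_iff.2 fun b hb => (hgB b hb).symm))
  have h1 : cj g (ws V B) = ws V B := by rw [← ws_cj, hcB]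
  exact mul_mem (h1 ▸ conj_mem_cj (h.adj_le_ws hY.symm hy)) (inv_mem (h.adj_le_ws hY.symm hy))

/-- **LEMMA D** for `[Y, C_G(W_X)]`, multiplicative form: `η^g ∈ L η`. -/
theorem lemD' (h : Mid S P V Z) (hX : Adj V Z X B) (hY : Adj V Z Y B) (hXL : X ≤ L)
    (hLam : ∀ u ∈ ws V B, (∀ k ∈ kx V B, (∀ x ∈ L, k * x = x * k) → k * u = u * k) → u ∈ L)
    (hn : ¬ ws V X ⊓ ws V Y ≤ ws V B) :
    ∀ g ∈ centralizer ((ws V X : Subgroup G) : Set G), cj g Y ≤ L ⊔ Y := by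
  intro g hg u hu
  rw [mem_cj] at hu
  have h1 := lemD h hX hY hXL hLam hn hg hu
  have h2 : u = g * (g⁻¹ * u * g) * g⁻¹ * (g⁻¹ * u * g)⁻¹ * (g⁻¹ * u * g) := by group
  rw [h2]
  exact mul_mem (mem_sup_left h1) (mem_sup_right hu)

end Cfsg.Agent.Omega.NO3S.MidB.No
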