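import Cfsg.Agent.Omega.NO3S.MidB.No.Bad
import Cfsg.Agent.Omega.NO3S.MidB.No.LemD
import Cfsg.Agent.Omega.NO3S.MidB.No.Full

/-!
# NO-3S, critical distance 2, the `(R, B)`-frame: no (D)-pair, plugged

* `Mid.bad'` : `FullK`, `NOg`, and for every `f ∈ W_B` moving `W_A` a mover `k` without (D): `[W_A, W_B] ≤ R`;
* `Mid.exists_DD` : if some critical pair `(A, B)` has `[W_A, W_B] ≰ R`, then some `f ∈ W_B` moving `W_A` has (D) for all its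
  movers.
-/

set_option autoImplicit false

namespace Cfsg.Agent.Omega.NO3S.MidB

open Subgroup Cfsg.Agent.Omega.NO3S.PT Cfsg.Agent.Omega.NoFF.Basic Cfsg.Agent.ZN
open Cfsg.Agent.Omega.NO3S.MidQ (Adj Com Cr UU TypN)
open Cfsg.Agent.Omega.NO3S.MidB.No

variable {G : Type*} [Group G] [Finite G] {S : Sylow 2 G} {P V Z A R B : Subgroup G}

/-- **no (D)-pair**, plugged -/
theorem Mid.bad' (h : Mid S P V Z) (hF : FullK V Z) (hNO : NOg V Z) (hc : Cr V Z A R B)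
    (hmov : ∀ f ∈ ws V B, (∃ w ∈ ws V A, f * w ≠ w * f) → ∃ k, Mv V Z A R B f k ∧ ¬ DD V A R k 1) :
    ∀ a ∈ ws V A, ∀ b ∈ ws V B, a * b * a⁻¹ * b⁻¹ ∈ R :=
  h.bad hNO hc hmov fun _ _ _ hX hY hL hAL hXL hn _ hg _ hy =>
    lemD h hX hY hXL (fun _ hu hk => full h hF hX.right hL hAL hu hk) hn hg hy

/-- **a (D)-pair exists** if `[W_A, W_B] ≰ R` -/
theorem Mid.exists_DD (h : Mid S P V Z) (hF : FullK V Z) (hNO : NOg V Z) (hc : Cr V Z A R B)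
    (hmov : ∀ f ∈ ws V B, (∃ w ∈ ws V A, f * w ≠ w * f) → ∃ k, Mv V Z A R B f k)
    (hne : ¬ ∀ a ∈ ws V A, ∀ b ∈ ws V B, a * b * a⁻¹ * b⁻¹ ∈ R) :
    ∃ f ∈ ws V B, (∃ w ∈ ws V A, f * w ≠ w * f) ∧ (∃ k, Mv V Z A R B f k) ∧
      ∀ k, Mv V Z A R B f k → DD V A R k 1 := by
  by_contra hcon
  push Not at hcon
  refine hne (h.bad' hF hNO hc fun f hf hfw => ?_)
  obtain ⟨k, hk⟩ := hmov f hf hfw
  exact hcon f hf hfw ⟨k, hk⟩

end Cfsg.Agent.Omega.NO3S.MidB
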