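import Cfsg.Agent.Omega.NO3S.MidB.No.McLT
import Cfsg.Agent.Omega.NO3S.MidB.Dist

/-!
# NO-3S, the `(R, B)`-frame, `n = 2`: (DIST) for the flat groups; TYPE N without any hypothesis on `W_R / R`

`MidB/Dist.lean` with `UT V Z R X` in place of `U_X`.

* `TT.distT` : `Dist`;
* **`Mid.typN_of_flat'`**.
-/

set_option autoImplicit false
set_option linter.unusedSectionVars false

namespace Cfsg.Agent.Omega.NO3S.MidB.No

open Subgroup Cfsg.Agent.Omega.NO3S.PT Cfsg.Agent.Omega.NoFF.Basic Cfsg.Agent.ZN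
open Cfsg.Agent.Omega.NO3S.MidQ (Adj Com Cr UU ws_of kx_of isCj_iff adj_iff com_iff cr_iff UU_of isCj_symm isCj_trans
  com_cj UU_cj le_UU normalizer_le_UU isPGroup_sSup TypN McL JJ Kl Dist surj_of_inj comm_inj ActTf)
open scoped Pointwise

universe u

variable {G : Type u} [Group G] {V Z X Y R L A A' B B' C : Subgroup G}
variable {M : Type*} [AddCommGroup M] {π : G → M}

namespace TT

variable [Finite G] {S : Sylow 2 G} {P : Subgroup G} (h : TT S P V Z)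
include h

/-- `UT V Z R A` moves `B` -/
theorem jj_iff (hM : Md V R π) (hA : Adj V Z A R) (hB : Adj V Z B R) :
    JJ (fun i : {A // Adj V Z A R} => lamR π i.1) (fun i => PhiT V Z R π i.1) ⟨A, hA⟩ ⟨B, hB⟩ ↔
      ∃ g ∈ UT V Z R A, ∃ b ∈ B, g * b ≠ b * g := by
  constructor
  · rintro ⟨φ, hφ, b, hb, hne⟩
    obtain ⟨g, hg, e⟩ := (h.mem_phi hM hA).1 hφ
    by_contra hcon
    push Not at hcon
    exact hne ((h.kl_iff hM hA hB hg e).2 (fun b hb => hcon g hg b hb) b hb)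
  · rintro ⟨g, hg, b, hb, hgb⟩
    obtain ⟨φ, hφ, e⟩ := h.exists_phi hM hA hg
    exact ⟨φ, hφ, π b, h.pi_mem hM hB hb, fun e1 => hgb ((h.phi_zero_iff hM hA hg e (h.adj_ws hB hb)).1 e1)⟩

/-- if `g ∈ UT` moves an element of `B`, it moves all elements `≠ 1` -/
theorem mv_all (hA : Adj V Z A R) (hB : Adj V Z B R) {g : G} (hg : g ∈ UT V Z R A) (hmv : ∃ b ∈ B, g * b ≠ b * g) {b : G}
    (hb : b ∈ B) (hb1 : b ≠ 1) : g * b ≠ b * g := by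
  intro e
  obtain ⟨c, hc, hne⟩ := hmv
  exact hne (h.t3 hB.symm (h.twoEl_ut hg) (fun r hr => h.u_R hA hg hr) hb hb1 e c hc)

/-- **(DIST)**, group level -/
theorem dist_grp (hA : Adj V Z A R) (hC : Adj V Z C R) {α γ : G} (hα : α ∈ A) (hγ : γ ∈ C)
    (hu : ∀ X, Adj V Z X R → ∀ u ∈ UT V Z R X, u * (α * γ) = α * γ * u) : α * γ ∈ R := by
  have hR := hA.right
  obtain ⟨M, _, π, hM⟩ := exists_md h.toMid hR
  have h0 := h.mcl hM hR
  have hαW : α ∈ ws V R := h.adj_le_ws hA.symm hα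
  have hγW : γ ∈ ws V R := h.adj_le_ws hC.symm hγ
  -- something moves `B ~ R`
  have hjoin : ∀ B, Adj V Z B R → ∃ X, Adj V Z X R ∧ (∃ g ∈ UT V Z R X, ∃ b ∈ B, g * b ≠ b * g) ∧
      ∃ g ∈ UT V Z R B, ∃ x ∈ X, g * x ≠ x * g := by
    intro B hB
    obtain ⟨φ, hφ, hφ0⟩ := h0.ne ⟨B, hB⟩
    obtain ⟨j, hj⟩ := h0.exists_not_kl hφ hφ0
    have hJ : JJ (fun i : {A // Adj V Z A R} => lamR π i.1) (fun i => PhiT V Z R π i.1) ⟨B, hB⟩ j := h0.jj hφ hj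
    exact ⟨j.1, j.2, (h.jj_iff hM j.2 hB).1 (h0.symm hJ), (h.jj_iff hM hB j.2).1 hJ⟩
  have hmoved : ∀ B, Adj V Z B R → ∀ b ∈ B, b ≠ 1 → ∃ X, Adj V Z X R ∧ ∃ u ∈ UT V Z R X, u * b ≠ b * u := by
    intro B hB b hb hb1
    obtain ⟨X, hX, ⟨g, hg, hmv⟩, -⟩ := hjoin B hB
    exact ⟨X, hX, g, hg, h.mv_all hX hB hg hmv hb hb1⟩
  by_cases hα1 : α = 1
  · subst hα1
    by_cases hγ1 : γ = 1
    · rw [hγ1, one_mul]; exact one_mem _
    · exfalso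
      obtain ⟨X, hX, u, huX, hne⟩ := hmoved C hC γ hγ hγ1
      have := hu X hX u huX
      rw [one_mul] at this
      exact hne this
  by_cases hγ1 : γ = 1
  · subst hγ1
    exfalso
    obtain ⟨X, hX, u, huX, hne⟩ := hmoved A hA α hα hα1
    have := hu X hX u huX
    rw [mul_one] at this
    exact hne this
  -- (i)
  have hi : ∀ X, Adj V Z X R → ∀ g ∈ UT V Z R X, g * γ = γ * g → g * α = α * g := by
    intro X hX g hg h1
    have h2 := hu X hX g hg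
    have h3 : g * α * γ = α * g * γ := by
      rw [mul_assoc, h2, mul_assoc, mul_assoc, ← h1]
    exact mul_right_cancel h3
  -- (ii)
  obtain ⟨X, hX, ⟨g₀, hg₀, hg₀A⟩, ⟨g₁, hg₁, hg₁X⟩⟩ := hjoin A hA
  have hg₀C : ∃ c ∈ C, g₀ * c ≠ c * g₀ := by
    refine ⟨γ, hγ, fun e => ?_⟩
    exact h.mv_all hX hA hg₀ hg₀A hα hα1 (hi X hX g₀ hg₀ e)
  obtain ⟨g₂, hg₂, hg₂X⟩ := (h.jj_iff hM hC hX).1 (h0.symm ((h.jj_iff hM hX hC).2 ⟨g₀, hg₀, hg₀C⟩))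
  obtain ⟨ξ, hξ, hξ1⟩ := h.pt_ne_bot hX.left
  have hξW : ξ ∈ ws V R := h.adj_le_ws hX.symm hξ
  obtain ⟨τ, hτ, hτξ⟩ := h.ut_val hA hξW ⟨g₁, hg₁, h.mv_all hA hX hg₁ hg₁X hξ hξ1⟩ hα
  obtain ⟨τ', hτ', hτξ'⟩ := h.ut_val hC hξW ⟨g₂, hg₂, h.mv_all hC hX hg₂ hg₂X hξ hξ1⟩ hγ
  have hτ'γ : τ' * γ = γ * τ' := h.u_A hC hτ' hγ
  have hτ'α := hi C hC τ' hτ' hτ'γ
  -- `t = τ' τ`
  set u0 := α * γ with hu0
  have hαγ : α * γ = γ * α := h.ws_comm hR hαW hγW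
  have hu0W : u0 ∈ ws V R := mul_mem hαW hγW
  have hu0sq : u0 * u0 = 1 := h.ws_sq hR hu0W
  have ht1 : (τ' * τ) * ξ * (τ' * τ)⁻¹ = u0 * ξ := by
    have h1 : τ * ξ * τ⁻¹ = α * ξ := by rw [← hτξ]; group
    have h2 : τ' * ξ * τ'⁻¹ = γ * ξ := by rw [← hτξ']; group
    calc (τ' * τ) * ξ * (τ' * τ)⁻¹ = τ' * (τ * ξ * τ⁻¹) * τ'⁻¹ := by group
      _ = τ' * α * τ'⁻¹ * (τ' * ξ * τ'⁻¹) := by rw [h1]; group
      _ = α * (γ * ξ) := by rw [hτ'α, mul_inv_cancel_right, h2]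
      _ = u0 * ξ := by rw [hu0, mul_assoc]
  have hUR : ∀ {Y u}, Adj V Z Y R → u ∈ UT V Z R Y → u ∈ centralizer (R : Set G) := fun hY hu =>
    h.UU_le_cent_adj hY.symm (UT_le_UU hu)
  have htR : τ' * τ ∈ centralizer (R : Set G) := mul_mem (hUR hC hτ') (hUR hA hτ)
  -- `R0`
  let R0 : Subgroup G :=
    { carrier := {w | w ∈ ws V R ∧ ∀ Y, Adj V Z Y R → ∀ u ∈ UT V Z R Y, u * w = w * u}
      one_mem' := ⟨one_mem _, fun _ _ u _ => by rw [mul_one, one_mul]⟩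
      mul_mem' := by
        rintro a b ⟨ha, ha'⟩ ⟨hb, hb'⟩
        exact ⟨mul_mem ha hb, fun Y hY u hu => by rw [← mul_assoc, ha' Y hY u hu, mul_assoc, hb' Y hY u hu, mul_assoc]⟩
      inv_mem' := by
        rintro a ⟨ha, ha'⟩
        exact ⟨inv_mem ha, fun Y hY u hu => by
          rw [mul_inv_eq_iff_eq_mul, mul_assoc, ha' Y hY u hu, inv_mul_cancel_left]⟩ }
  have hR0W : R0 ≤ ws V R := fun w hw => hw.1
  have hR0N : ∀ g ∈ centralizer (R : Set G), ∀ w ∈ R0, g * w * g⁻¹ ∈ R0 := by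
    intro g hg w hw
    have hgR' : PT.cj g⁻¹ R = R := cj_eq_iff.2 (centralizer_le_normalizer _ (inv_mem hg))
    refine ⟨(mem_normalizer_iff.1 (normalizer_le_ws V R (centralizer_le_normalizer _ hg)) w).1 hw.1,
      fun Y hY u hu => ?_⟩
    have h1 : Adj V Z (PT.cj g⁻¹ Y) R := by
      have h2 := hY.cj g⁻¹
      rwa [hgR'] at h2
    have h3 : g⁻¹ * u * g ∈ UT V Z R (PT.cj g⁻¹ Y) := by
      have h4 := UT_cj V Z R Y g⁻¹
      rw [hgR'] at h4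
      rw [h4]
      have := conj_mem_cj (g := g⁻¹) hu
      rwa [inv_inv] at this
    have h4 := hw.2 _ h1 _ h3
    calc u * (g * w * g⁻¹) = g * ((g⁻¹ * u * g) * w) * g⁻¹ := by group
      _ = g * w * g⁻¹ * u := by rw [h4]; group
  have hu0R0 : u0 ∈ R0 := ⟨hu0W, hu⟩
  -- `E`
  let E : Subgroup G :=
    { carrier := {g | g ∈ centralizer (R : Set G) ∧ g * ξ * g⁻¹ * ξ⁻¹ ∈ R0}
      one_mem' := ⟨one_mem _, by simp only [one_mul, inv_one, mul_one, mul_inv_cancel]; exact one_mem _⟩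
      mul_mem' := by
        rintro a b ⟨ha, ha'⟩ ⟨hb, hb'⟩
        refine ⟨mul_mem ha hb, ?_⟩
        have e : a * b * ξ * (a * b)⁻¹ * ξ⁻¹ = a * (b * ξ * b⁻¹ * ξ⁻¹) * a⁻¹ * (a * ξ * a⁻¹ * ξ⁻¹) := by group
        rw [e]
        exact mul_mem (hR0N a ha _ hb') ha'
      inv_mem' := by
        rintro a ⟨ha, ha'⟩
        refine ⟨inv_mem ha, ?_⟩
        have e : a⁻¹ * ξ * a⁻¹⁻¹ * ξ⁻¹ = a⁻¹ * (a * ξ * a⁻¹ * ξ⁻¹)⁻¹ * a⁻¹⁻¹ := by group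
        rw [e]
        exact hR0N a⁻¹ (inv_mem ha) _ (inv_mem ha') }
  -- an odd power
  obtain ⟨m, hm, ht2⟩ := exists_odd_pow (τ' * τ)
  set t := (τ' * τ) ^ m with ht
  have hcomm0 : ∀ w ∈ R0, (τ' * τ) * w = w * (τ' * τ) := fun w hw => by
    rw [mul_assoc, hw.2 A hA τ hτ, ← mul_assoc, hw.2 C hC τ' hτ', mul_assoc]
  have hcomm : ∀ w ∈ R0, t * w = w * t := fun w hw =>
    (Commute.pow_left (hcomm0 w hw : Commute (τ' * τ) w) m).eq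
  have hpow : ∀ n : ℕ, (τ' * τ) ^ n * ξ * ((τ' * τ) ^ n)⁻¹ = u0 ^ n * ξ := by
    intro n
    induction n with
    | zero => simp
    | succ n ih =>
      have h1 : (τ' * τ) * u0 ^ n = u0 ^ n * (τ' * τ) :=
        (Commute.pow_right (hcomm0 u0 hu0R0 : Commute (τ' * τ) u0) n).eq
      calc (τ' * τ) ^ (n + 1) * ξ * ((τ' * τ) ^ (n + 1))⁻¹
          = (τ' * τ) * ((τ' * τ) ^ n * ξ * ((τ' * τ) ^ n)⁻¹) * (τ' * τ)⁻¹ := by
            rw [pow_succ' (τ' * τ) n, mul_inv_rev]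
            simp only [mul_assoc]
        _ = (τ' * τ) * u0 ^ n * ξ * (τ' * τ)⁻¹ := by rw [ih]; simp only [mul_assoc]
        _ = u0 ^ n * ((τ' * τ) * ξ * (τ' * τ)⁻¹) := by rw [h1]; simp only [mul_assoc]
        _ = u0 ^ (n + 1) * ξ := by rw [ht1, pow_succ]; simp only [mul_assoc]
  have htξ : t * ξ * t⁻¹ = u0 * ξ := by
    rw [ht, hpow m]
    obtain ⟨k, hk⟩ := hm
    rw [hk, pow_succ, pow_mul, pow_two, hu0sq, one_pow, one_mul]
  have htE : t ∈ E := by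
    refine ⟨pow_mem htR m, ?_⟩
    rw [htξ, mul_inv_cancel_right]
    exact hu0R0
  -- the flag
  obtain ⟨L, hL, hXL, hRL⟩ := hX.line
  obtain ⟨T, Q, h'⟩ := h.flag hR hL hRL
  have hT0E : (T : Subgroup G) ⊓ centralizer (R : Set G) ≤ E := by
    intro s hs
    refine ⟨hs.2, ?_⟩
    have h1 := h'.pl.act s hs ξ (hXL hξ)
    exact ⟨h.pt_le_ws hR h1, fun Y hY u hu => h.u_R hY hu h1⟩
  obtain ⟨e, he, heT⟩ := exists_conj_of_max (T.isPGroup'.to_le inf_le_left) hT0E (fun D hD hDE => by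
    obtain ⟨m, -, hm⟩ := h'.pl.exists_le_conjB (H := normalizer (R : Set G)) h'.pl.SN le_rfl hD
      (fun d hd => centralizer_le_normalizer _ (hDE hd).1) (fun d hd => (hDE hd).1)
    exact (Subgroup.card_le_of_le hm).trans (card_cj m _).le) ht2 htE
  -- `w = [e, ξ]`
  set w := e * ξ * e⁻¹ * ξ⁻¹ with hw
  have hwR0 : w ∈ R0 := he.2
  have h1 := h'.pl.act _ heT ξ (hXL hξ)
  have h2 : e * ((e⁻¹ * t * e) * ξ * (e⁻¹ * t * e)⁻¹ * ξ⁻¹) * e⁻¹ ∈ R := by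
    rw [← mem_centralizer_iff.1 he.1 _ h1, mul_inv_cancel_right]
    exact h1
  have h3 : e * ((e⁻¹ * t * e) * ξ * (e⁻¹ * t * e)⁻¹ * ξ⁻¹) * e⁻¹ = u0 := by
    have h4 : e * ξ * e⁻¹ = w * ξ := by rw [hw]; group
    have h5 : w * u0 = u0 * w := h.ws_comm hR (hR0W hwR0) hu0W
    calc e * ((e⁻¹ * t * e) * ξ * (e⁻¹ * t * e)⁻¹ * ξ⁻¹) * e⁻¹
        = t * (e * ξ * e⁻¹) * t⁻¹ * (e * ξ * e⁻¹)⁻¹ := by group
      _ = t * w * ξ * t⁻¹ * (w * ξ)⁻¹ := by rw [h4]; group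
      _ = w * (t * ξ * t⁻¹) * ξ⁻¹ * w⁻¹ := by rw [hcomm w hwR0]; group
      _ = w * u0 * w⁻¹ := by rw [htξ]; group
      _ = u0 := by rw [h5, mul_inv_cancel_right]
  rwa [h3] at h2

/-- **`Dist`** -/
theorem distT (hM : Md V R π) : Dist (fun i : {A // Adj V Z A R} => lamR π i.1) (fun i => PhiT V Z R π i.1) := by
  rintro ⟨A, hA⟩ ⟨B, hB⟩ a ha b hb hk
  obtain ⟨α, hα, rfl⟩ := (h.mem_lam hM hA).1 ha
  obtain ⟨β, hβ, rfl⟩ := (h.mem_lam hM hB).1 hb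
  have h1 := h.adj_ws hA hα
  have h2 := h.adj_ws hB hβ
  rw [← hM.mul _ h1 _ h2, hM.ker _ (mul_mem h1 h2)]
  refine h.dist_grp hA hB hα hβ fun X hX u hu => ?_
  obtain ⟨φ, hφ, e⟩ := h.exists_phi hM hX hu
  have h3 := hk ⟨X, hX⟩ φ hφ
  rw [← hM.mul _ h1 _ h2] at h3
  exact (h.phi_zero_iff hM hX hu e (mul_mem h1 h2)).1 h3

/-- `[W_C, W_R] ≤ L`, `L` the line on `A`, `R`, `C ~ A` -/
theorem disp_line' (hM : Md V R π) (hB : McL.Big (fun i : {A // Adj V Z A R} => lamR π i.1) (fun i => PhiT V Z R π i.1))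
    (hA : Adj V Z A R) (hC : Adj V Z C A) (hL : IsCj V L) (hAL : A ≤ L) (hRL : R ≤ L) {f w : G}
    (hf : f ∈ ws V C) (hw : w ∈ ws V R) : f * w * f⁻¹ * w⁻¹ ∈ L := by
  have hR := hA.right
  have hfU : f ∈ UU V Z A := le_UU hC hf
  have hfR : f ∈ centralizer (R : Set G) := h.UU_le_cent_adj hA.symm hfU
  have hcR : PT.cj f R = R := h.cj_UU_adj hfU hA
  obtain ⟨ν, hν⟩ := exists_conj_end hM hcR
  have hact := h.act hM hA hC hf hν
  have hLW : L ≤ ws V R := h.line_le hL hRL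
  have hcW : ∀ {w : G}, w ∈ ws V R → f * w * f⁻¹ * w⁻¹ ∈ ws V R := fun hw => mul_mem (conj_ws hcR hw) (inv_mem hw)
  let K : Subgroup G :=
    { carrier := {w | w ∈ ws V R ∧ f * w * f⁻¹ * w⁻¹ ∈ L}
      one_mem' := ⟨one_mem _, by simp⟩
      mul_mem' := by
        rintro a b ⟨ha, ha'⟩ ⟨hb, hb'⟩
        refine ⟨mul_mem ha hb, ?_⟩
        have h1 := h.ws_comm hR ha (hcW hb)
        have e : f * (a * b) * f⁻¹ * (a * b)⁻¹ = f * a * f⁻¹ * a⁻¹ * (f * b * f⁻¹ * b⁻¹) := by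
          calc f * (a * b) * f⁻¹ * (a * b)⁻¹ = f * a * f⁻¹ * a⁻¹ * (a * (f * b * f⁻¹ * b⁻¹)) * a⁻¹ := by group
            _ = _ := by rw [h1]; group
        rw [e]
        exact mul_mem ha' hb'
      inv_mem' := by
        rintro a ⟨ha, ha'⟩
        refine ⟨inv_mem ha, ?_⟩
        have h1 := h.ws_comm hR (inv_mem ha) (inv_mem (hcW ha))
        have e : f * a⁻¹ * f⁻¹ * a⁻¹⁻¹ = (f * a * f⁻¹ * a⁻¹)⁻¹ := by
          calc f * a⁻¹ * f⁻¹ * a⁻¹⁻¹ = a⁻¹ * (f * a * f⁻¹ * a⁻¹)⁻¹ * a := by group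
            _ = _ := by rw [h1]; group
        rw [e]
        exact inv_mem ha' }
  have hK : ws V R ≤ K := by
    refine h.ws_le_of hR (fun r hr => ⟨h.pt_le_ws hR hr, ?_⟩) (fun B hB' b hb => ⟨h.adj_ws hB' hb, ?_⟩)
    · rw [← mem_centralizer_iff.1 hfR r hr]
      simp
    · have hbW := h.adj_ws hB' hb
      have h1 := (h.mcl hM hR).disp hB (h.distT hM) hact ⟨B, hB'⟩ (h.pi_mem hM hB' hb)
      have h2 : ν (π b) + π b = π (f * b * f⁻¹ * b⁻¹) := by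
        rw [hν b hbW, hM.mul _ (conj_ws hcR hbW) _ (inv_mem hbW), h.ws_inv hR hbW]
      rw [h2] at h1
      obtain ⟨a, ha, e⟩ := (h.mem_lam hM hA).1 h1
      have h3 : f * b * f⁻¹ * b⁻¹ * a⁻¹ ∈ R := hM.mem_of (hcW hbW) (h.adj_ws hA ha) e.symm
      have e3 : f * b * f⁻¹ * b⁻¹ = f * b * f⁻¹ * b⁻¹ * a⁻¹ * a := by group
      rw [e3]
      exact mul_mem (hRL h3) (hAL ha)
  exact (hK hw).2

end TT

end Cfsg.Agent.Omega.NO3S.MidB.No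

namespace Cfsg.Agent.Omega.NO3S.MidB

open Subgroup Cfsg.Agent.Omega.NO3S.PT Cfsg.Agent.Omega.NoFF.Basic Cfsg.Agent.ZN Cfsg.Agent.Omega.NO3S.MidB.No
open Cfsg.Agent.Omega.NO3S.MidQ (Adj Com Cr UU TypN)

variable {G : Type*} [Group G] [Finite G] {S : Sylow 2 G} {P V Z C A R : Subgroup G}

/-- **TYPE N from one flat critical triple** (no hypothesis on `W_R / R`) -/
theorem Mid.typN_of_flat' (h : Mid S P V Z) (hc : Cr V Z C A R)
    (hi : ∀ a ∈ ws V C, ∀ b ∈ ws V R, a * b * a⁻¹ * b⁻¹ ∈ A) {w m : G} (hw : w ∈ ws V C) (hm : m ∈ ws V R)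
    (hwm : w * m = m * w) (hw' : ∃ b ∈ ws V R, w * b ≠ b * w) (hm' : ∃ a ∈ ws V C, a * m ≠ m * a) : TypN V Z := by
  have hT : TT S P V Z := ⟨h, C, A, R, hc, hi⟩
  -- `[W_D, W_X] ≤ L` for every `D ~ Y ~ X`, `L` the line on `Y`, `X`
  have key : ∀ X Y D L : Subgroup G, Adj V Z Y X → Adj V Z D Y → IsCj V L → Y ≤ L → X ≤ L → ∀ f ∈ ws V D,
      ∀ x ∈ ws V X, f * x * f⁻¹ * x⁻¹ ∈ L := by
    intro X Y D L hYX hDY hL hYL hXL f hf x hx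
    obtain ⟨g, hg⟩ : ∃ g : G, PT.cj g R = X := by
      obtain ⟨a, ha⟩ := hc.r.right
      obtain ⟨b, hb⟩ := hYX.right
      exact ⟨b * a⁻¹, by rw [ha, hb, cj_cj, inv_mul_cancel_right]⟩
    obtain ⟨M, _, π, hM⟩ := exists_md h hYX.right
    have hc' := hc.cj g
    have hi' : Flat V (PT.cj g C) (PT.cj g A) (PT.cj g R) := Flat.cj hi g
    rw [hg] at hc' hi'
    have hcw : ∀ {K : Subgroup G} {y : G}, y ∈ ws V K → g * y * g⁻¹ ∈ ws V (PT.cj g K) := fun hy => by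
      rw [ws_cj]
      exact conj_mem_cj hy
    have hmX : g * m * g⁻¹ ∈ ws V X := by
      have := hcw hm
      rwa [hg] at this
    refine hT.disp_line' hM (hT.big hM hc' hi' (hcw hw) hmX ?_ ?_ ?_) hYX hDY hL hYL hXL hf hx
    · calc g * w * g⁻¹ * (g * m * g⁻¹) = g * (w * m) * g⁻¹ := by group
        _ = g * m * g⁻¹ * (g * w * g⁻¹) := by rw [hwm]; group
    · obtain ⟨b, hb, hne⟩ := hw'
      refine ⟨g * b * g⁻¹, ?_, fun e => hne ?_⟩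
      · have := hcw hb
        rwa [hg] at this
      · have h3 := congrArg (fun t => g⁻¹ * t * g) e
        simpa [mul_assoc] using h3
    · obtain ⟨a, ha, hne⟩ := hm'
      refine ⟨g * a * g⁻¹, hcw ha, fun e => hne ?_⟩
      have h3 := congrArg (fun t => g⁻¹ * t * g) e
      simpa [mul_assoc] using h3
  intro X R' Y hcr a ha b hb
  obtain ⟨L, hL, hXL, hRL⟩ := hcr.l.line
  obtain ⟨L', hL', hRL', hYL'⟩ := hcr.r.line
  have hne : L ≠ L' := by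
    rintro rfl
    exact h.cr_not_le hcr hL hYL' hXL
  -- centre `Y`: `[W_X, W_Y] ≤ L'`
  have h1 := key Y R' X L' hcr.r hcr.l hL' hRL' hYL' a ha b hb
  -- centre `X`
  have h2 := key X R' Y L hcr.l.symm hcr.r.symm hL hRL hXL b hb a ha
  have h3 : a * b * a⁻¹ * b⁻¹ ∈ L := by
    have e : a * b * a⁻¹ * b⁻¹ = (b * a * b⁻¹ * a⁻¹)⁻¹ := by group
    rw [e]
    exact inv_mem h2
  exact hT.inf_lines hcr.l.right hL hL' hRL hRL' hne h3 h1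

end Cfsg.Agent.Omega.NO3S.MidB
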