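import Cfsg.Agent.Omega.NO3S.MidB.No.Beta

/-!
# NO-3S, natural lines, critical distance 2: `Mid` + (NO) gives `TypN` (bb OMEGA #19438, #20170): (E) + (F)

`Mv.flat_of` : a (D)-pair of a critical pair `(A, B)` with `[W_A, W_B] ≰ R` gives the input of `Mid.typN_of_flat`: a
critical pair `(C, R)` with middle point `A`, `[W_C, W_R] ≤ A`, and commuting `w ∈ W_C`, `u ∈ W_R` such that `w` moves
`W_R` and `u` moves `W_C`.
-/

set_option autoImplicit false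
set_option linter.unusedSectionVars false

namespace Cfsg.Agent.Omega.NO3S.MidB.No

open Subgroup Cfsg.Agent.Omega.NO3S.PT Cfsg.Agent.Omega.NoFF.Basic Cfsg.Agent.ZN
open Cfsg.Agent.Omega.NO3S.MidQ (Adj Com Cr UU isCj_iff com_cj le_UU normalizer_le_UU)

variable {G : Type*} [Group G] [Finite G] {V Z A R B : Subgroup G} {f k : G} {S : Sylow 2 G} {P : Subgroup G}

/-- **(E) + (F)** -/
theorem Mv.flat_of (h : Mid S P V Z) (m : Mv V Z A R B f k) {i : ℕ} (hi : k ^ i ≠ 1) (hd : DD V A R k i)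
    (hno : NOg V Z) (hI : InnN V Z) (hbad : ¬ ∀ a ∈ ws V A, ∀ b ∈ ws V B, a * b * a⁻¹ * b⁻¹ ∈ R) :
    ∃ C : Subgroup G, Cr V Z C A R ∧ (∀ a ∈ ws V C, ∀ b ∈ ws V R, a * b * a⁻¹ * b⁻¹ ∈ A) ∧
      ∃ w ∈ ws V C, ∃ u ∈ ws V R, w * u = u * w ∧ (∃ b ∈ ws V R, w * b ≠ b * w) ∧
        ∃ a ∈ ws V C, a * u ≠ u * a := by
  have m' := m.pwm hi
  have hd' := dd_pow.2 hd
  have hx : ¬ Com V (cj (k ^ i) R) R := fun hx => hbad (hI _ _ _ (m'.inn_beta h hd' hx hno))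
  have h1 := m'.inn_alpha h hd' hx
  exact ⟨_, h1.cr, hI _ _ _ h1, m'.flat h hd' hx hI⟩

end Cfsg.Agent.Omega.NO3S.MidB.No
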