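import Cfsg.Agent.Omega.NO3S.MidB.No.InnG5
import Cfsg.Agent.Omega.NO3S.PB.Syl

/-!
# NO-3S, natural lines, critical distance 2: FullB, the END (`A` canonical), n = 2: the local part

`EndH V Z` : the hypotheses for every critical pair;  `Cfg V Z A R B L M J` : a critical triple with a 2-group `J ≤ K_R`
which induces all transvections on `L` (centralising `M`) and on `M` (centralising `L`).
-/

set_option autoImplicit false
set_option linter.unusedSectionVars false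

namespace Cfsg.Agent.Omega.NO3S.MidB.No

open Subgroup Cfsg.Agent.Omega.NO3S.PT Cfsg.Agent.Omega.NoFF.Basic Cfsg.Agent.ZN
open Cfsg.Agent.Omega.NO3S.MidQ (Adj Com Cr UU ws_of kx_of isCj_iff adj_iff com_iff cr_iff)
open scoped Pointwise

universe u

variable {G : Type u} [Group G]

/-- **the hypotheses of the END** -/
structure EndH (V Z : Subgroup G) : Prop where
  h1 : ∀ {X R Y L : Subgroup G}, Cr V Z X R Y → IsCj V L → X ≤ L → R ≤ L → ∀ {g : G}, TwoEl g →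
    g ∈ centralizer (L : Set G) → ∀ d ∈ ⁅ws V X, ws V Y⁆, g * d * g⁻¹ * d⁻¹ ∈ X
  h2 : ∀ {X R Y R' Y' L : Subgroup G}, Cr V Z X R Y → Cr V Z X R' Y' → IsCj V L → X ≤ L → R ≤ L → R' ≤ L →
    ⁅ws V X, ws V Y⁆ ≤ X ⊔ ⁅ws V X, ws V Y'⁆
  h3 : ∀ {X R Y : Subgroup G}, Cr V Z X R Y → R ≤ ⁅ws V X, ws V Y⁆
  h4 : ∀ {X R Y L M : Subgroup G}, Cr V Z X R Y → IsCj V L → X ≤ L → R ≤ L → IsCj V M → R ≤ M → Y ≤ M →
    ∀ v ∈ M, v ∉ R → ∀ a ∈ R, ∃ k ∈ kx V R, k ∈ centralizer (L : Set G) ∧ k * v * k⁻¹ * v⁻¹ = a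
  h5 : ∀ {X R Y : Subgroup G}, Cr V Z X R Y → ¬ ⁅ws V X, ws V Y⁆ ≤ ws V R

/-- a critical triple with `J` -/
structure Cfg (V Z A R B L M J : Subgroup G) : Prop where
  hc : Cr V Z A R B
  hL : IsCj V L
  AL : A ≤ L
  RL : R ≤ L
  hM : IsCj V M
  RM : R ≤ M
  BM : B ≤ M
  J2 : IsPGroup 2 J
  JK : J ≤ kx V R
  onM : ∀ v ∈ M, v ∉ R → ∀ a ∈ R, ∃ k ∈ J, k ∈ centralizer (L : Set G) ∧ k * v * k⁻¹ * v⁻¹ = a
  onL : ∀ v ∈ L, v ∉ R → ∀ a ∈ R, ∃ k ∈ J, k ∈ centralizer (M : Set G) ∧ k * v * k⁻¹ * v⁻¹ = a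

theorem twoEl_of {J : Subgroup G} (hJ : IsPGroup 2 J) {k : G} (hk : k ∈ J) : TwoEl k := by
  obtain ⟨n, hn⟩ := hJ ⟨k, hk⟩
  exact ⟨n, congrArg Subtype.val hn⟩

theorem conj_of_centralizer {A : Subgroup G} {g a : G} (hg : g ∈ centralizer (A : Set G)) (ha : a ∈ A) :
    g * a * g⁻¹ = a := by
  rw [← mem_centralizer_iff.1 hg a ha, mul_inv_cancel_right]

namespace Cfg

variable {V Z A R B L M J : Subgroup G}

theorem symm (c : Cfg V Z A R B L M J) : Cfg V Z B R A M L J where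
  hc := c.hc.symm
  hL := c.hM
  AL := c.BM
  RL := c.RM
  hM := c.hL
  RM := c.RL
  BM := c.AL
  J2 := c.J2
  JK := c.JK
  onM := c.onL
  onL := c.onM

end Cfg

section Gen

variable [Finite G] {S : Sylow 2 G} {P V Z : Subgroup G} (h : Mid S P V Z)
include h

variable {A R B L M J X Y : Subgroup G}

/-- an element of `C_G(X)` which commutes with `v ∈ L - X` centralises `L` -/
theorem cent_line_of (hX : IsCj Z X) (hL : IsCj V L) (hXL : X ≤ L) {k v : G} (hk : k ∈ centralizer (X : Set G))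
    (hv : v ∈ L) (hvX : v ∉ X) (hkv : k * v = v * k) : k ∈ centralizer (L : Set G) := by
  obtain ⟨T, Q, h'⟩ := h.flag hX hL hXL
  exact h'.pl.mem_centralizer_of_fix (fun z hz => (mem_centralizer_iff.1 hk z hz).symm) hv hvX hkv

theorem kx_sq_line (hX : IsCj Z X) (hL : IsCj V L) (hXL : X ≤ L) {k : G} (hk : k ∈ kx V X) :
    k * k ∈ centralizer (L : Set G) := by
  obtain ⟨T, Q, h'⟩ := h.flag hX hL hXL
  rw [mem_centralizer_iff]
  exact fun v hv => (h'.pl.kx_sq (by rwa [kx_of hL]) hv).symm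

theorem kx_comm_line (hX : IsCj Z X) (hL : IsCj V L) (hXL : X ≤ L) {a b v : G} (ha : a ∈ kx V X) (hb : b ∈ kx V X)
    (hv : v ∈ L) : a * b * v * (a * b)⁻¹ = b * a * v * (b * a)⁻¹ := by
  obtain ⟨T, Q, h'⟩ := h.flag hX hL hXL
  exact h'.pl.kx_comm (by rwa [kx_of hL]) (by rwa [kx_of hL]) hv

theorem kx_norm_line (hL : IsCj V L) (hXL : X ≤ L) {k : G} (hk : k ∈ kx V X) : cj k L = L :=
  cj_eq_iff.2 (kx_normalizes hXL (le_ws hL hXL) hk)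

/-- `[k, v] ∈ X` -/
theorem kx_line (hL : IsCj V L) (hXL : X ≤ L) {k v : G} (hk : k ∈ kx V X) (hv : v ∈ L) : k * v * k⁻¹ * v⁻¹ ∈ X :=
  (mem_kx.1 hk).2 v (le_ws hL hXL hv)

/-- two elements of `K_X` with the same value at `v ∈ L - X` agree on `L` -/
theorem kx_eq_line (hX : IsCj Z X) (hL : IsCj V L) (hXL : X ≤ L) {k k' v : G} (hk : k ∈ kx V X) (hk' : k' ∈ kx V X)
    (hv : v ∈ L) (hvX : v ∉ X) (e : k * v * k⁻¹ * v⁻¹ = k' * v * k'⁻¹ * v⁻¹) : k'⁻¹ * k ∈ centralizer (L : Set G) := by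
  refine cent_line_of h hX hL hXL (mul_mem (inv_mem (kx_le_cent hk')) (kx_le_cent hk)) hv hvX ?_
  have e1 : k * v * k⁻¹ = k' * v * k'⁻¹ := mul_right_cancel e
  have e2 : k'⁻¹ * k * v * (k'⁻¹ * k)⁻¹ = v := by
    calc k'⁻¹ * k * v * (k'⁻¹ * k)⁻¹ = k'⁻¹ * (k * v * k⁻¹) * k' := by group
      _ = v := by rw [e1]; group
  rwa [mul_inv_eq_iff_eq_mul] at e2

/-- **existence of `J`** -/
theorem exists_cfg (hE : EndH V Z) (hc : Cr V Z A R B) (hL : IsCj V L) (hAL : A ≤ L) (hRL : R ≤ L) (hM : IsCj V M)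
    (hRM : R ≤ M) (hBM : B ≤ M) : ∃ J, Cfg V Z A R B L M J := by
  have hR := hc.l.right
  obtain ⟨J, hJ, hJ2, hcov⟩ := exists_sylow_cover (J₀ := kx V R)
    (K := kx V R ⊓ (centralizer (L : Set G) ⊓ centralizer (M : Set G))) (by
      rintro x hx k ⟨hk, hkL, hkM⟩
      refine ⟨(kx V R).mul_mem ((kx V R).mul_mem hx hk) ((kx V R).inv_mem hx), ?_, ?_⟩
      · have h1 := conj_mem_cj (g := x) hkL
        rwa [cj_centralizer, kx_norm_line h hL hRL hx] at h1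
      · have h1 := conj_mem_cj (g := x) hkM
        rwa [cj_centralizer, kx_norm_line h hM hRM hx] at h1) (by
      intro x hx
      exact ⟨mul_mem hx hx, kx_sq_line h hR hL hRL hx, kx_sq_line h hR hM hRM hx⟩)
  have key : ∀ {L M : Subgroup G}, (∀ x ∈ kx V R, ∃ j ∈ J, ∃ k ∈ kx V R ⊓ (centralizer (L : Set G) ⊓
      centralizer (M : Set G)), x = j * k) → (∀ v ∈ M, v ∉ R → ∀ a ∈ R, ∃ k ∈ kx V R, k ∈ centralizer (L : Set G) ∧
      k * v * k⁻¹ * v⁻¹ = a) → ∀ v ∈ M, v ∉ R → ∀ a ∈ R, ∃ k ∈ J, k ∈ centralizer (L : Set G) ∧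
      k * v * k⁻¹ * v⁻¹ = a := by
    intro L M hcov h4 v hv hvR a ha
    obtain ⟨x, hx, hxL, e⟩ := h4 v hv hvR a ha
    obtain ⟨j, hj, k, ⟨hk, hkL, hkM⟩, rfl⟩ := hcov x hx
    refine ⟨j, hj, ?_, ?_⟩
    · have h1 := mul_mem hxL ((centralizer (L : Set G)).inv_mem hkL)
      rwa [mul_inv_cancel_right] at h1
    · rw [← e]
      congr 1
      calc j * v * j⁻¹ = j * (k * v * k⁻¹) * j⁻¹ := by rw [conj_of_centralizer hkM hv]
        _ = j * k * v * (j * k)⁻¹ := by group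
  refine ⟨J, hc, hL, hAL, hRL, hM, hRM, hBM, hJ2, hJ, key hcov (hE.h4 hc hL hAL hRL hM hRM hBM),
    key ?_ (hE.h4 hc.symm hM hBM hRM hL hRL hAL)⟩
  intro x hx
  obtain ⟨j, hj, k, ⟨hk, hkL, hkM⟩, e⟩ := hcov x hx
  exact ⟨j, hj, k, ⟨hk, hkM, hkL⟩, e⟩

end Gen

namespace Cfg

variable [Finite G] {S : Sylow 2 G} {P V Z : Subgroup G} (h : Mid S P V Z) (hE : EndH V Z)
variable {A R B L M J : Subgroup G} (c : Cfg V Z A R B L M J)
include h hE c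

theorem hA : IsCj Z A := c.hc.l.left
theorem hR : IsCj Z R := c.hc.l.right
theorem hB : IsCj Z B := c.hc.r.right

/-- `[k, d] ∈ A` for a 2-element `k ∈ C_G(L)` -/
theorem alpha {k d : G} (hk : TwoEl k) (hkL : k ∈ centralizer (L : Set G)) (hd : d ∈ ⁅ws V A, ws V B⁆) :
    k * d * k⁻¹ * d⁻¹ ∈ A := hE.h1 c.hc c.hL c.AL c.RL hk hkL d hd

theorem beta {k d : G} (hk : TwoEl k) (hkM : k ∈ centralizer (M : Set G)) (hd : d ∈ ⁅ws V A, ws V B⁆) :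
    k * d * k⁻¹ * d⁻¹ ∈ B := by
  rw [commutator_comm] at hd
  exact hE.h1 c.hc.symm c.hM c.BM c.RM hk hkM d hd

theorem memA {d : G} (hd : d ∈ ⁅ws V A, ws V B⁆) : d ∈ ws V A := (h.comm_le c.hc hd).1
theorem memB {d : G} (hd : d ∈ ⁅ws V A, ws V B⁆) : d ∈ ws V B := (h.comm_le c.hc hd).2

/-- 2-elements of `C_G(L) ∩ C_G(M)` centralise `[W_A, W_B]` -/
theorem cent_two {k d : G} (hk : TwoEl k) (hkL : k ∈ centralizer (L : Set G)) (hkM : k ∈ centralizer (M : Set G))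
    (hd : d ∈ ⁅ws V A, ws V B⁆) : k * d = d * k := by
  have h1 := c.alpha h hE hk hkL hd
  have h2 := c.beta h hE hk hkM hd
  have h3 := h.pt_inf c.hc.l.left c.hc.r.right (h.cr_ne c.hc) h1 h2
  rwa [mul_inv_eq_one, mul_inv_eq_iff_eq_mul] at h3

/-- **`[k', α_k(d)] = [k, β_{k'}(d)]`** -/
theorem alpha_beta {k k' d : G} (hk : k ∈ J) (hkL : k ∈ centralizer (L : Set G)) (hk' : k' ∈ J)
    (hkM : k' ∈ centralizer (M : Set G)) (hd : d ∈ ⁅ws V A, ws V B⁆) :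
    k' * (k * d * k⁻¹ * d⁻¹) * k'⁻¹ * (k * d * k⁻¹ * d⁻¹)⁻¹ =
      k * (k' * d * k'⁻¹ * d⁻¹) * k⁻¹ * (k' * d * k'⁻¹ * d⁻¹)⁻¹ := by
  have hR := c.hR h hE
  set α := k * d * k⁻¹ * d⁻¹ with hα
  set β := k' * d * k'⁻¹ * d⁻¹ with hβ
  have h1 : α ∈ A := c.alpha h hE (twoEl_of c.J2 hk) hkL hd
  have h2 : β ∈ B := c.beta h hE (twoEl_of c.J2 hk') hkM hd
  have e1 : k * d * k⁻¹ = α * d := by rw [hα]; group
  have e2 : k' * d * k'⁻¹ = β * d := by rw [hβ]; group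
  -- `c = [k, k']`
  set e := k * k' * k⁻¹ * k'⁻¹ with he
  have he2 : TwoEl e := twoEl_of c.J2 (mul_mem (mul_mem (mul_mem hk hk') (inv_mem hk)) (inv_mem hk'))
  have heL : e ∈ centralizer (L : Set G) := by
    have e3 : e = k * (k' * k⁻¹ * k'⁻¹) := by rw [he]; group
    rw [e3]
    refine mul_mem hkL ?_
    have h4 := conj_mem_cj (g := k') (inv_mem hkL)
    rwa [cj_centralizer, kx_norm_line h c.hL c.RL (c.JK hk')] at h4
  have heM : e ∈ centralizer (M : Set G) := by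
    have e3 : e = (k * k' * k⁻¹) * k'⁻¹ := by rw [he]
    rw [e3]
    refine mul_mem ?_ (inv_mem hkM)
    have h4 := conj_mem_cj (g := k) hkM
    rwa [cj_centralizer, kx_norm_line h c.hM c.RM (c.JK hk)] at h4
  have h5 : e * d = d * e := c.cent_two h hE he2 heL heM hd
  -- `k' α k'⁻¹ ∈ L`
  have hα' : k' * α * k'⁻¹ ∈ L := by
    have := conj_mem_cj (g := k') (c.AL h1)
    rwa [kx_norm_line h c.hL c.RL (c.JK hk')] at this
  have hβ' : k * β * k⁻¹ ∈ M := by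
    have := conj_mem_cj (g := k) (c.BM h2)
    rwa [kx_norm_line h c.hM c.RM (c.JK hk)] at this
  have h6 : k' * k * d * (k' * k)⁻¹ = (k' * α * k'⁻¹) * β * d := by
    calc k' * k * d * (k' * k)⁻¹ = k' * (k * d * k⁻¹) * k'⁻¹ := by group
      _ = (k' * α * k'⁻¹) * (k' * d * k'⁻¹) := by rw [e1]; group
      _ = _ := by rw [e2]; group
  have h7 : k * k' * d * (k * k')⁻¹ = (k * β * k⁻¹) * α * d := by
    calc k * k' * d * (k * k')⁻¹ = k * (k' * d * k'⁻¹) * k⁻¹ := by group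
      _ = (k * β * k⁻¹) * (k * d * k⁻¹) := by rw [e2]; group
      _ = _ := by rw [e1]; group
  have h8 : k * k' * d * (k * k')⁻¹ = e * (k' * k * d * (k' * k)⁻¹) * e⁻¹ := by rw [he]; group
  have h9 : e * ((k' * α * k'⁻¹) * β * d) * e⁻¹ = (k' * α * k'⁻¹) * β * d := by
    have a1 := mem_centralizer_iff.1 heL _ hα'
    have a2 := mem_centralizer_iff.1 heM _ (c.BM h2)
    calc e * ((k' * α * k'⁻¹) * β * d) * e⁻¹ = (e * (k' * α * k'⁻¹)) * β * d * e⁻¹ := by group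
      _ = (k' * α * k'⁻¹) * (e * β) * d * e⁻¹ := by rw [← a1]; group
      _ = (k' * α * k'⁻¹) * β * (e * d) * e⁻¹ := by rw [← a2]; group
      _ = (k' * α * k'⁻¹) * β * d := by rw [h5]; group
  rw [h6, h7, h9] at h8
  have h10 : (k * β * k⁻¹) * α = (k' * α * k'⁻¹) * β := mul_right_cancel h8
  -- everything commutes in `W_R`
  have w1 : k' * α * k'⁻¹ ∈ ws V R := le_ws c.hL c.RL hα'
  have w2 : β ∈ ws V R := le_ws c.hM c.RM (c.BM h2)
  have w3 : α ∈ ws V R := le_ws c.hL c.RL (c.AL h1)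
  have w4 : k * β * k⁻¹ ∈ ws V R := le_ws c.hM c.RM hβ'
  have h11 : k' * α * k'⁻¹ = (k * β * k⁻¹) * α * β⁻¹ := by rw [h10]; group
  rw [h11]
  have h12 := h.ws_comm hR w3 ((ws V R).inv_mem w2)
  calc (k * β * k⁻¹) * α * β⁻¹ * α⁻¹ = (k * β * k⁻¹) * (α * β⁻¹) * α⁻¹ := by group
    _ = k * β * k⁻¹ * β⁻¹ := by rw [h12]; group

/-- `A ∩ R = 1` etc. -/
theorem A_not_R {a : G} (ha : a ∈ A) (ha1 : a ≠ 1) : a ∉ R := fun e =>
  ha1 (h.pt_inf c.hc.l.left c.hc.l.right c.hc.l.ne ha e)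

theorem B_not_R {a : G} (ha : a ∈ B) (ha1 : a ≠ 1) : a ∉ R := fun e =>
  ha1 (h.pt_inf c.hc.r.right c.hc.r.left c.hc.r.ne.symm ha e)

/-- if `k'` is not trivial on `L` and `[k', d] = 1` then `d ∈ W_R` -/
theorem mem_ws_of_beta {k' d : G} (hk' : k' ∈ J) (hkM : k' ∈ centralizer (M : Set G))
    (hkL : k' ∉ centralizer (L : Set G)) (hd : d ∈ ⁅ws V A, ws V B⁆) (e : k' * d * k'⁻¹ * d⁻¹ = 1) : d ∈ ws V R := by
  have hR := c.hR h hE
  -- `k ∈ C_J(L)` moves `B`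
  obtain ⟨b, hb, hb1⟩ := h.pt_ne_bot (c.hB h hE)
  obtain ⟨a, ha, ha1⟩ := h.pt_ne_bot hR
  obtain ⟨k, hk, hkL', hkb⟩ := c.onM b (c.BM hb) (c.B_not_R h hE hb hb1) a ha
  have h1 := c.alpha_beta h hE hk hkL' hk' hkM hd
  rw [e, mul_one, mul_inv_cancel, inv_one, one_mul] at h1
  have hα := c.alpha h hE (twoEl_of c.J2 hk) hkL' hd
  have h2 : k * d * k⁻¹ * d⁻¹ = 1 := by
    by_contra hne
    apply hkL
    refine cent_line_of h hR c.hL c.RL (kx_le_cent (c.JK hk')) (c.AL hα) (c.A_not_R h hE hα hne) ?_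
    rwa [mul_inv_eq_one, mul_inv_eq_iff_eq_mul] at h1
  -- `d ∈ W_B ∩ W_{B^k}`
  have h3 : cj k B ≠ B := by
    intro e3
    have h4 : k * b * k⁻¹ * b⁻¹ ∈ B := mul_mem (by
      have := conj_mem_cj (g := k) hb
      rwa [e3] at this) (inv_mem hb)
    rw [hkb] at h4
    exact ha1 (h.pt_inf hR (c.hB h hE) c.hc.r.ne ha h4)
  have h4 : d ∈ ws V (cj k B) := by
    rw [ws_cj, mem_cj]
    have e4 : k⁻¹ * d * k = d := by
      rw [mul_inv_eq_one] at h2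
      calc k⁻¹ * d * k = k⁻¹ * (k * d * k⁻¹) * k := by rw [h2]
        _ = d := by group
    rw [e4]
    exact c.memB h hE hd
  have hBM' : cj k B ≤ M := by
    rw [← kx_norm_line h c.hM c.RM (c.JK hk)]
    exact cj_le_cj.2 c.BM
  exact h.inf_le c.hM ((c.hB h hE).cj k) (c.hB h hE) hR hBM' c.BM c.RM h3 ⟨h4, c.memB h hE hd⟩

/-- if `d ∈ W_R` then `[k, d] = 1` for `k ∈ C_J(L)` -/
theorem alpha_eq_one {k d : G} (hk : k ∈ J) (hkL : k ∈ centralizer (L : Set G)) (hd : d ∈ ⁅ws V A, ws V B⁆)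
    (hdR : d ∈ ws V R) : k * d * k⁻¹ * d⁻¹ = 1 :=
  h.pt_inf c.hc.l.left c.hc.l.right c.hc.l.ne (c.alpha h hE (twoEl_of c.J2 hk) hkL hd)
    ((mem_kx.1 (c.JK hk)).2 d hdR)

theorem beta_eq_one {k d : G} (hk : k ∈ J) (hkM : k ∈ centralizer (M : Set G)) (hd : d ∈ ⁅ws V A, ws V B⁆)
    (hdR : d ∈ ws V R) : k * d * k⁻¹ * d⁻¹ = 1 :=
  h.pt_inf c.hc.r.right c.hc.r.left c.hc.r.ne.symm (c.beta h hE (twoEl_of c.J2 hk) hkM hd)
    ((mem_kx.1 (c.JK hk)).2 d hdR)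

/-- **every `b ∈ B` is a `[k', d]`** -/
theorem beta_onto {d : G} (hd : d ∈ ⁅ws V A, ws V B⁆) (hdR : d ∉ ws V R) {b : G} (hb : b ∈ B) :
    ∃ k' ∈ J, k' ∈ centralizer (M : Set G) ∧ k' * d * k'⁻¹ * d⁻¹ = b := by
  have hR := c.hR h hE
  by_cases hb1 : b = 1
  · refine ⟨1, one_mem _, one_mem _, ?_⟩
    rw [hb1]; group
  obtain ⟨a, ha, ha1⟩ := h.pt_ne_bot hR
  have hbR := c.B_not_R h hE hb hb1
  obtain ⟨k, hk, hkL, hkb⟩ := c.onM b (c.BM hb) hbR a ha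
  have hkM : k ∉ centralizer (M : Set G) := by
    intro e
    rw [conj_of_centralizer e (c.BM hb), mul_inv_cancel] at hkb
    exact ha1 hkb.symm
  set α := k * d * k⁻¹ * d⁻¹ with hα
  have hαA : α ∈ A := c.alpha h hE (twoEl_of c.J2 hk) hkL hd
  have hα1 : α ≠ 1 := by
    intro e
    refine hdR (c.symm.mem_ws_of_beta h hE hk hkL hkM ?_ e)
    rw [commutator_comm]
    exact hd
  obtain ⟨k', hk', hk'M, hk'a⟩ := c.onL α (c.AL hαA) (c.A_not_R h hE hαA hα1) a ha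
  refine ⟨k', hk', hk'M, ?_⟩
  have h1 := c.alpha_beta h hE hk hkL hk' hk'M hd
  rw [← hα, hk'a] at h1
  set β := k' * d * k'⁻¹ * d⁻¹ with hβ
  have hβB : β ∈ B := c.beta h hE (twoEl_of c.J2 hk') hk'M hd
  rw [← hkb] at h1
  -- `k` centralises `b⁻¹ β`
  by_contra hne
  apply hkM
  have h2 : b⁻¹ * β ∉ R := c.B_not_R h hE (mul_mem (inv_mem hb) hβB) (fun e => hne (inv_mul_eq_one.1 e).symm)
  refine cent_line_of h hR c.hM c.RM (kx_le_cent (c.JK hk)) (c.BM (mul_mem (inv_mem hb) hβB)) h2 ?_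
  have h3 : k * b * k⁻¹ = (k * β * k⁻¹ * β⁻¹) * b := by rw [← h1]; group
  have w1 : b ∈ ws V R := le_ws c.hM c.RM (c.BM hb)
  have w2 : β ∈ ws V R := le_ws c.hM c.RM (c.BM hβB)
  have h4 : k * (b⁻¹ * β) * k⁻¹ = b⁻¹ * β := by
    have e5 : k * (b⁻¹ * β) * k⁻¹ = (k * b * k⁻¹)⁻¹ * (k * β * k⁻¹) := by group
    rw [e5, h3]
    have e6 : k * β * k⁻¹ = (k * β * k⁻¹ * β⁻¹) * β := by group
    rw [mul_inv_rev]
    nth_rewrite 2 [e6]
    group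
  rwa [mul_inv_eq_iff_eq_mul] at h4

end Cfg

end Cfsg.Agent.Omega.NO3S.MidB.No
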