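import Cfsg.Agent.Omega.NO3S.MidB.No.FullEnd1

/-!
# NO-3S, natural lines, critical distance 2: FullB, the END (`A` canonical), n = 2: the groups `X_L`, `R^_{X,L}`
-/

set_option autoImplicit false
set_option linter.unusedSectionVars false

namespace Cfsg.Agent.Omega.NO3S.MidB.No

open Subgroup Cfsg.Agent.Omega.NO3S.PT Cfsg.Agent.Omega.NoFF.Basic Cfsg.Agent.ZN
open Cfsg.Agent.Omega.NO3S.MidQ (Adj Com Cr UU ws_of kx_of isCj_iff adj_iff com_iff cr_iff)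
open scoped Pointwise commutatorElement

universe u

variable {G : Type u} [Group G]

/-- `X [W_X, W_Y]`, `(X, R, Y)` critical, `X, R ≤ L` -/
def Rh (V Z X L : Subgroup G) : Subgroup G :=
  X ⊔ sSup {K | ∃ R' Y', Cr V Z X R' Y' ∧ R' ≤ L ∧ K = ⁅ws V X, ws V Y'⁆}

/-- the group generated by the `R^_{Y,L}`, `Y ≤ L` -/
def XL (V Z L : Subgroup G) : Subgroup G := sSup {K | ∃ Y, IsCj Z Y ∧ Y ≤ L ∧ K = Rh V Z Y L}

theorem conj_mem_commutator {A B : Subgroup G} {g d : G} (hd : d ∈ ⁅A, B⁆) : g * d * g⁻¹ ∈ ⁅cj g A, cj g B⁆ := by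
  have h1 : ⁅A, B⁆ ≤ cj g⁻¹ ⁅cj g A, cj g B⁆ := by
    rw [commutator_le]
    intro a ha b hb
    rw [mem_cj, inv_inv]
    have e : g * ⁅a, b⁆ * g⁻¹ = ⁅g * a * g⁻¹, g * b * g⁻¹⁆ := by
      rw [commutatorElement_def, commutatorElement_def]; group
    rw [e]
    exact commutator_mem_commutator (conj_mem_cj ha) (conj_mem_cj hb)
  have h2 := h1 hd
  rwa [mem_cj, inv_inv] at h2

theorem le_XL {V Z Y L : Subgroup G} (hY : IsCj Z Y) (hYL : Y ≤ L) : Rh V Z Y L ≤ XL V Z L :=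
  le_sSup ⟨Y, hY, hYL, rfl⟩

theorem le_Rh {V Z X R Y L : Subgroup G} (hc : Cr V Z X R Y) (hR : R ≤ L) : ⁅ws V X, ws V Y⁆ ≤ Rh V Z X L :=
  (le_sSup (show ⁅ws V X, ws V Y⁆ ∈ {K | ∃ R' Y', Cr V Z X R' Y' ∧ R' ≤ L ∧ K = ⁅ws V X, ws V Y'⁆} from
    ⟨R, Y, hc, hR, rfl⟩)).trans le_sup_right

theorem conj_mem_Rh {V Z X L : Subgroup G} {g d : G} (hd : d ∈ Rh V Z X L) :
    g * d * g⁻¹ ∈ Rh V Z (cj g X) (cj g L) := by
  have h1 : Rh V Z X L ≤ cj g⁻¹ (Rh V Z (cj g X) (cj g L)) := by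
    refine sup_le ?_ (sSup_le ?_)
    · rw [le_cj_iff, inv_inv]
      exact le_sup_left
    · rintro _ ⟨R', Y', hc, hR, rfl⟩
      intro e he
      rw [mem_cj, inv_inv]
      have h2 := conj_mem_commutator (g := g) he
      rw [← ws_cj, ← ws_cj] at h2
      exact le_Rh (hc.cj g) (cj_le_cj.2 hR) h2
  have h2 := h1 hd
  rwa [mem_cj, inv_inv] at h2

theorem conj_mem_XL {V Z L : Subgroup G} {g d : G} (hd : d ∈ XL V Z L) : g * d * g⁻¹ ∈ XL V Z (cj g L) := by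
  have h1 : XL V Z L ≤ cj g⁻¹ (XL V Z (cj g L)) := by
    refine sSup_le ?_
    rintro _ ⟨Y, hY, hYL, rfl⟩
    intro e he
    rw [mem_cj, inv_inv]
    exact le_XL (hY.cj g) (cj_le_cj.2 hYL) (conj_mem_Rh he)
  have h2 := h1 hd
  rwa [mem_cj, inv_inv] at h2

section

variable [Finite G] {S : Sylow 2 G} {P V Z : Subgroup G} (h : Mid S P V Z)
variable {A R B L X Y : Subgroup G}

include h

/-- two points of a line are the beginning of a critical triple -/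
theorem exists_cr (hex : ∃ A R B, Cr V Z A R B) (hL : IsCj V L) (hA : IsCj Z A) (hAL : A ≤ L) (hR : IsCj Z R)
    (hRL : R ≤ L) (hne : A ≠ R) : ∃ B, Cr V Z A R B := by
  obtain ⟨A₀, R₀, B₀, hc⟩ := hex
  obtain ⟨L₀, hL₀, hA₀, hR₀⟩ := hc.l.line
  obtain ⟨g, rfl, rfl⟩ := h.exists_conj₂ hc.l.right hL₀ hR₀ hR hL hRL
  have h1 := hc.cj g
  have h2 : cj g A₀ ≠ cj g R₀ := h1.l.ne
  obtain ⟨k, hk, hkA⟩ := h.K_trans hR hL hRL h1.l.left (cj_le_cj.2 hA₀) hA hAL h2 hne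
  refine ⟨cj k (cj g B₀), ?_⟩
  have h3 := h1.cj k
  rwa [hkA, cj_eq_iff.2 (centralizer_le_normalizer _ (kx_le_cent hk))] at h3

theorem Rh_le_ws (hX : IsCj Z X) : Rh V Z X L ≤ ws V X := by
  refine sup_le (h.pt_le_ws hX) (sSup_le ?_)
  rintro _ ⟨R', Y', hc, -, rfl⟩
  exact (h.comm_le hc).trans inf_le_left

theorem XL_comm (hL : IsCj V L) {a b : G} (ha : a ∈ XL V Z L) (hb : b ∈ XL V Z L) : a * b = b * a := by
  have h1 : XL V Z L ≤ centralizer ((XL V Z L : Subgroup G) : Set G) := by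
    refine sSup_le ?_
    rintro _ ⟨Y, hY, hYL, rfl⟩
    refine comm_symm (sSup_le ?_)
    rintro _ ⟨Y', hY', hYL', rfl⟩
    have h2 : Com V Y' Y := by
      by_cases e : Y' = Y
      · rw [e]; exact h.com_self hY
      · exact h.com _ _ ⟨hY', hY, e, L, hL, hYL', hYL⟩
    exact comm_mono h2 (Rh_le_ws h hY') (Rh_le_ws h hY)
  exact (mem_centralizer_iff.1 (h1 ha) b hb).symm

theorem XL_sq (hL : IsCj V L) {a : G} (ha : a ∈ XL V Z L) : a * a = 1 := by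
  let E : Subgroup G :=
    { carrier := {a | a ∈ XL V Z L ∧ a * a = 1}
      one_mem' := ⟨one_mem _, mul_one _⟩
      mul_mem' := by
        rintro a b ⟨ha, ha'⟩ ⟨hb, hb'⟩
        refine ⟨mul_mem ha hb, ?_⟩
        calc a * b * (a * b) = a * (b * a) * b := by group
          _ = (a * a) * (b * b) := by rw [XL_comm h hL hb ha]; group
          _ = 1 := by rw [ha', hb', mul_one]
      inv_mem' := by
        rintro a ⟨ha, ha'⟩
        refine ⟨inv_mem ha, ?_⟩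
        rw [← mul_inv_rev, ha', inv_one] }
  have h1 : XL V Z L ≤ E := by
    refine sSup_le ?_
    rintro _ ⟨Y, hY, hYL, rfl⟩
    intro e he
    exact ⟨le_XL hY hYL he, h.ws_sq hY (Rh_le_ws h hY he)⟩
  exact (h1 ha).2

variable (hE : EndH V Z)
include hE

theorem Rh_eq (hc : Cr V Z X R Y) (hL : IsCj V L) (hXL : X ≤ L) (hRL : R ≤ L) :
    Rh V Z X L = X ⊔ ⁅ws V X, ws V Y⁆ := by
  refine le_antisymm (sup_le le_sup_left (sSup_le ?_)) (sup_le le_sup_left (le_Rh hc hRL))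
  rintro _ ⟨R', Y', hc', hR', rfl⟩
  exact hE.h2 hc' hc hL hXL hR' hRL

theorem mem_Rh (hc : Cr V Z X R Y) (hL : IsCj V L) (hXL : X ≤ L) (hRL : R ≤ L) {d : G} (hd : d ∈ Rh V Z X L) :
    ∃ a ∈ X, ∃ e ∈ ⁅ws V X, ws V Y⁆, d = a * e := by
  rw [Rh_eq h hE hc hL hXL hRL] at hd
  have hX := hc.l.left
  have h1 : ⁅ws V X, ws V Y⁆ ≤ normalizer (X : Set G) :=
    ((h.comm_le hc).trans inf_le_left).trans (((h.com_self hX).trans (centralizer_le (h.pt_le_ws hX))).trans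
      (centralizer_le_normalizer _))
  rw [← SetLike.mem_coe, coe_mul_of_right_le_normalizer_left _ _ h1] at hd
  obtain ⟨a, ha, e, he, rfl⟩ := hd
  exact ⟨a, ha, e, he, rfl⟩

theorem line_le_Rh (hex : ∃ A R B, Cr V Z A R B) (hL : IsCj V L) (hX : IsCj Z X) (hXL : X ≤ L) :
    L ≤ Rh V Z X L := by
  obtain ⟨R, hR, hRL, hRX⟩ := h.exists_second hX hL hXL
  obtain ⟨B, hc⟩ := exists_cr h hex hL hX hXL hR hRL hRX.symm
  exact h.line_le_of hX hR hRX.symm hL hXL hRL le_sup_left ((hE.h3 hc).trans (le_Rh hc hRL))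

theorem line_le_XL (hex : ∃ A R B, Cr V Z A R B) (hL : IsCj V L) : L ≤ XL V Z L := by
  obtain ⟨g, hg⟩ := hL
  have hX : IsCj Z (cj g Z) := ⟨g, rfl⟩
  have hXL : cj g Z ≤ L := by rw [hg]; exact cj_le_cj.2 h.pl.ZV
  exact (line_le_Rh h hE hex ⟨g, hg⟩ hX hXL).trans (le_XL hX hXL)

end

/-- the module `X_L / L` -/
structure XM (V Z L : Subgroup G) {H M : Type*} [Group H] [CommGroup M] [MulDistribMulAction H M] (ρ : G → H)
    (π : G → M) : Prop where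
  mulρ : ∀ a ∈ normalizer (L : Set G), ∀ b ∈ normalizer (L : Set G), ρ (a * b) = ρ a * ρ b
  mulπ : ∀ a ∈ XL V Z L, ∀ b ∈ XL V Z L, π (a * b) = π a * π b
  surjπ : ∀ m, ∃ a ∈ XL V Z L, π a = m
  kerπ : ∀ a ∈ XL V Z L, (π a = 1 ↔ a ∈ L)
  act : ∀ g ∈ normalizer (L : Set G), ∀ w ∈ XL V Z L, π (g * w * g⁻¹) = ρ g • π w

theorem exists_xm [Finite G] {S : Sylow 2 G} {P V Z L : Subgroup G} (h : Mid S P V Z) (hL : IsCj V L) :
    ∃ (H M : Type u) (_ : Group H) (_ : CommGroup M) (_ : MulDistribMulAction H M) (ρ : G → H) (π : G → M),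
      XM V Z L ρ π := by
  obtain ⟨H, M, i1, i2, i3, ρ, π, a1, a2, a3, a4, a5, a6, a7⟩ :=
    FarQ.exists_mod (C := normalizer (L : Set G)) (W := XL V Z L) (R := L)
      (fun c hc w hw => by
        have h1 := conj_mem_XL (g := c) hw
        rwa [cj_eq_iff.2 hc] at h1)
      (fun c hc w hw => (mem_normalizer_iff.1 hc w).1 hw)
      (fun a ha b hb => XL_comm h hL ha hb)
  exact ⟨H, M, i1, i2, i3, ρ, π, a1, a4, a5, a6, a7⟩

namespace XM

variable {V Z L : Subgroup G} {H M : Type*} [Group H] [CommGroup M] [MulDistribMulAction H M] {ρ : G → H} {π : G → M}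
variable (r : XM V Z L ρ π)
include r

theorem conj_XL {g w : G} (hg : g ∈ normalizer (L : Set G)) (hw : w ∈ XL V Z L) : g * w * g⁻¹ ∈ XL V Z L := by
  have h1 := conj_mem_XL (g := g) hw
  rwa [cj_eq_iff.2 hg] at h1

theorem one_ρ : ρ 1 = 1 := by
  have h1 := r.mulρ 1 (one_mem _) 1 (one_mem _)
  rw [mul_one] at h1
  exact left_eq_mul.1 h1

theorem inv_ρ {a : G} (ha : a ∈ normalizer (L : Set G)) : ρ a⁻¹ = (ρ a)⁻¹ := by
  have h1 := r.mulρ a ha a⁻¹ (inv_mem ha)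
  rw [mul_inv_cancel, r.one_ρ] at h1
  exact (inv_eq_of_mul_eq_one_right h1.symm).symm

theorem pow_ρ {a : G} (ha : a ∈ normalizer (L : Set G)) (n : ℕ) : ρ (a ^ n) = (ρ a) ^ n := by
  induction n with
  | zero => rw [pow_zero, pow_zero, r.one_ρ]
  | succ n ih => rw [pow_succ, pow_succ, r.mulρ _ (pow_mem ha n) _ ha, ih]

theorem one_π : π 1 = 1 := by
  have h1 := r.mulπ 1 (one_mem _) 1 (one_mem _)
  rw [mul_one] at h1
  exact left_eq_mul.1 h1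

theorem inv_π {a : G} (ha : a ∈ XL V Z L) : π a⁻¹ = (π a)⁻¹ := by
  have h1 := r.mulπ a ha a⁻¹ (inv_mem ha)
  rw [mul_inv_cancel, r.one_π] at h1
  exact (inv_eq_of_mul_eq_one_right h1.symm).symm

theorem π_eq {a b : G} (ha : a ∈ XL V Z L) (hb : b ∈ XL V Z L) : π a = π b ↔ a * b⁻¹ ∈ L := by
  rw [← r.kerπ _ (mul_mem ha (inv_mem hb)), r.mulπ _ ha _ (inv_mem hb), r.inv_π hb, mul_inv_eq_one]

theorem fix_iff {g w : G} (hg : g ∈ normalizer (L : Set G)) (hw : w ∈ XL V Z L) :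
    ρ g • π w = π w ↔ g * w * g⁻¹ * w⁻¹ ∈ L := by
  rw [← r.act g hg w hw, r.π_eq (r.conj_XL hg hw) hw]

/-- `π [g, w] = D_g (π w)` -/
theorem π_comm {g w : G} (hg : g ∈ normalizer (L : Set G)) (hw : w ∈ XL V Z L) :
    ρ g • π w * (π w)⁻¹ = π (g * w * g⁻¹ * w⁻¹) := by
  rw [r.mulπ _ (r.conj_XL hg hw) _ (inv_mem hw), r.act g hg w hw, r.inv_π hw]

/-- induction on `M` -/
theorem induct {Q : Subgroup M} (hQ : ∀ Y, IsCj Z Y → Y ≤ L → ∀ d ∈ Rh V Z Y L, π d ∈ Q) (m : M) : m ∈ Q := by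
  obtain ⟨a, ha, rfl⟩ := r.surjπ m
  let E : Subgroup G :=
    { carrier := {a | a ∈ XL V Z L ∧ π a ∈ Q}
      one_mem' := ⟨one_mem _, by rw [r.one_π]; exact one_mem _⟩
      mul_mem' := by
        rintro a b ⟨ha, ha'⟩ ⟨hb, hb'⟩
        exact ⟨mul_mem ha hb, by rw [r.mulπ a ha b hb]; exact mul_mem ha' hb'⟩
      inv_mem' := by
        rintro a ⟨ha, ha'⟩
        exact ⟨inv_mem ha, by rw [r.inv_π ha]; exact inv_mem ha'⟩ }
  have h1 : XL V Z L ≤ E := by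
    refine sSup_le ?_
    rintro _ ⟨Y, hY, hYL, rfl⟩
    intro e he
    exact ⟨le_XL hY hYL he, hQ Y hY hYL e he⟩
  exact (h1 ha).2

end XM

end Cfsg.Agent.Omega.NO3S.MidB.No
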