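import Cfsg.Agent.Omega.NO3S.MidB.No.FullEnd2

/-!
# NO-3S, natural lines, critical distance 2: FullB, the END (`A` canonical), n = 2: the action on `X_L / L`
-/

set_option autoImplicit false
set_option linter.unusedSectionVars false

namespace Cfsg.Agent.Omega.NO3S.MidB.No

open Subgroup Cfsg.Agent.Omega.NO3S.PT Cfsg.Agent.Omega.NoFF.Basic Cfsg.Agent.ZN
open Cfsg.Agent.Omega.NO3S.MidQ (Adj Com Cr UU ws_of kx_of isCj_iff adj_iff com_iff cr_iff)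
open scoped Pointwise commutatorElement

universe u

variable {G : Type u} [Group G]

theorem smul_of_sq_odd {H M : Type*} [Group H] [MulAction H M] {x : H} {m : M} (h2 : (x * x) • m = m) {j : ℕ}
    (hj : Odd j) (h : x ^ j • m = m) : x • m = m := by
  obtain ⟨i, rfl⟩ := hj
  have h1 : x * x ∈ MulAction.stabilizer H m := h2
  have h3 : x ^ (2 * i + 1) ∈ MulAction.stabilizer H m := h
  have h4 : x = ((x * x) ^ i)⁻¹ * x ^ (2 * i + 1) := by
    rw [pow_succ, pow_mul, pow_two, inv_mul_cancel_left]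
  have h5 : x ∈ MulAction.stabilizer H m := by
    rw [h4]
    exact mul_mem (inv_mem (pow_mem h1 i)) h3
  exact h5

theorem twoEl_conj {k x : G} (hx : TwoEl x) : TwoEl (k * x * k⁻¹) := by
  obtain ⟨n, hn⟩ := hx
  exact ⟨n, by rw [conj_pow, hn, mul_one, mul_inv_cancel]⟩

section Gen

variable [Finite G] {S : Sylow 2 G} {P V Z : Subgroup G} (h : Mid S P V Z)
include h

variable {A R B L M J X Y : Subgroup G}

/-- the commutator of two elements of `K_X` centralises `L` -/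
theorem kx_comm_cent (hX : IsCj Z X) (hL : IsCj V L) (hXL : X ≤ L) {a b : G} (ha : a ∈ kx V X) (hb : b ∈ kx V X) :
    a * b * a⁻¹ * b⁻¹ ∈ centralizer (L : Set G) := by
  rw [mem_centralizer_iff]
  intro v hv
  have h1 : cj (b * a)⁻¹ L = L := by
    have h2 := kx_norm_line h hL hXL (mul_mem hb ha)
    rw [← cj_inj (g := (b * a)⁻¹), cj_cj, inv_mul_cancel, cj_one] at h2
    exact h2.symm
  have h3 : (b * a)⁻¹ * v * (b * a) ∈ L := by
    have h4 := conj_mem_cj (g := (b * a)⁻¹) hv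
    rwa [h1, inv_inv] at h4
  have h4 := kx_comm_line h hX hL hXL ha hb h3
  have h5 : (a * b * a⁻¹ * b⁻¹) * v * (a * b * a⁻¹ * b⁻¹)⁻¹ = v := by
    calc (a * b * a⁻¹ * b⁻¹) * v * (a * b * a⁻¹ * b⁻¹)⁻¹
        = a * b * ((b * a)⁻¹ * v * (b * a)) * (a * b)⁻¹ := by group
      _ = b * a * ((b * a)⁻¹ * v * (b * a)) * (b * a)⁻¹ := h4
      _ = v := by group
  rw [mul_inv_eq_iff_eq_mul] at h5
  exact h5.symm

end Gen

namespace Cfg

variable [Finite G] {S : Sylow 2 G} {P V Z : Subgroup G} (h : Mid S P V Z) (hE : EndH V Z)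
variable {A R B L M J : Subgroup G} (c : Cfg V Z A R B L M J)
include h hE c

/-- (C1) -/
theorem cent_of_alpha {g d : G} (hgL : g ∈ centralizer (L : Set G)) (hgM : g ∈ centralizer (M : Set G))
    (hd : d ∈ ⁅ws V A, ws V B⁆) (hgd : g * d * g⁻¹ * d⁻¹ ∈ A) : g * d = d * g := by
  set α := g * d * g⁻¹ * d⁻¹ with hα
  have e1 : g * d * g⁻¹ = α * d := by rw [hα]; group
  have e2 : g * α * g⁻¹ = α := conj_of_centralizer hgL (c.AL hgd)
  have e3 : α * α = 1 := h.pt_sq c.hc.l.left hgd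
  have h1 : Commute (g * g) d := by
    have : g * g * d * (g * g)⁻¹ = d := by
      calc g * g * d * (g * g)⁻¹ = g * (g * d * g⁻¹) * g⁻¹ := by group
        _ = g * (α * d) * g⁻¹ := by rw [e1]
        _ = (g * α * g⁻¹) * (g * d * g⁻¹) := by group
        _ = α * (α * d) := by rw [e2, e1]
        _ = d := by rw [← mul_assoc, e3, one_mul]
    rwa [mul_inv_eq_iff_eq_mul] at this
  obtain ⟨m, hm, hgm⟩ := exists_odd_pow g
  have h2 : Commute (g ^ m) d := c.cent_two h hE hgm (pow_mem hgL m) (pow_mem hgM m) hd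
  obtain ⟨j, rfl⟩ := hm
  have h3 : g = ((g * g) ^ j)⁻¹ * g ^ (2 * j + 1) := by
    rw [pow_succ, pow_mul, pow_two, inv_mul_cancel_left]
  have h4 : Commute g d := by
    rw [h3]
    exact ((h1.pow_left j).inv_left).mul_left h2
  exact h4

/-- two 2-elements of `C_G(L)` which agree on `M` agree on `[W_A, W_B]` -/
theorem twist {x y d : G} (hx : TwoEl x) (hy : TwoEl y) (hxL : x ∈ centralizer (L : Set G))
    (hyL : y ∈ centralizer (L : Set G)) (hxy : x * y⁻¹ ∈ centralizer (M : Set G)) (hd : d ∈ ⁅ws V A, ws V B⁆) :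
    x * d * x⁻¹ = y * d * y⁻¹ := by
  have hy' : TwoEl y⁻¹ := by
    obtain ⟨n, hn⟩ := hy
    exact ⟨n, by rw [inv_pow, hn, inv_one]⟩
  have a1 := c.alpha h hE hx hxL hd
  have a2 := c.alpha h hE hy' (inv_mem hyL) hd
  have a3 := c.alpha h hE hy hyL hd
  set α₁ := x * d * x⁻¹ * d⁻¹ with hα₁
  set α₂ := y⁻¹ * d * y⁻¹⁻¹ * d⁻¹ with hα₂
  set α₃ := y * d * y⁻¹ * d⁻¹ with hα₃
  have e1 : x * d * x⁻¹ = α₁ * d := by rw [hα₁]; group
  have e2 : y⁻¹ * d * y⁻¹⁻¹ = α₂ * d := by rw [hα₂]; group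
  have e3 : y * d * y⁻¹ = α₃ * d := by rw [hα₃]; group
  have h1 : x * y⁻¹ ∈ centralizer (L : Set G) := mul_mem hxL (inv_mem hyL)
  have h2 : (x * y⁻¹) * d * (x * y⁻¹)⁻¹ * d⁻¹ ∈ A := by
    have e4 : (x * y⁻¹) * d * (x * y⁻¹)⁻¹ * d⁻¹ = α₂ * α₁ := by
      calc (x * y⁻¹) * d * (x * y⁻¹)⁻¹ * d⁻¹ = x * (y⁻¹ * d * y⁻¹⁻¹) * x⁻¹ * d⁻¹ := by group
        _ = (x * α₂ * x⁻¹) * (x * d * x⁻¹) * d⁻¹ := by rw [e2]; group
        _ = α₂ * α₁ := by rw [conj_of_centralizer hxL (c.AL a2), e1]; group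
    rw [e4]
    exact mul_mem a2 a1
  have h3 := c.cent_of_alpha h hE h1 hxy hd h2
  have h4 : (x * y⁻¹) * d * (x * y⁻¹)⁻¹ = d := by rw [h3, mul_inv_cancel_right]
  calc x * d * x⁻¹ = (x * y⁻¹) * (y * d * y⁻¹) * (x * y⁻¹)⁻¹ := by group
    _ = ((x * y⁻¹) * α₃ * (x * y⁻¹)⁻¹) * ((x * y⁻¹) * d * (x * y⁻¹)⁻¹) := by rw [e3]; group
    _ = α₃ * d := by rw [h4, conj_of_centralizer h1 (c.AL a3)]
    _ = y * d * y⁻¹ := e3.symm

/-- (C2) `[K_R ∩ C(L), [W_A, W_B]] ≤ W_R` -/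
theorem comm_mem_ws {k d : G} (hk : k ∈ kx V R) (hkL : k ∈ centralizer (L : Set G)) (hd : d ∈ ⁅ws V A, ws V B⁆) :
    k * d * k⁻¹ * d⁻¹ ∈ ws V R := by
  have hR := c.hR h hE
  have hkA : cj k A = A := cj_eq_iff.2 (centralizer_le_normalizer _ (centralizer_le c.AL hkL))
  have hkR : cj k R = R := cj_eq_iff.2 (centralizer_le_normalizer _ (kx_le_cent hk))
  have hkM : cj k M = M := kx_norm_line h c.hM c.RM hk
  have c1 : Cfg V Z A R (cj k B) L M J :=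
    { hc := by
        have h1 := c.hc.cj k
        rwa [hkA, hkR] at h1
      hL := c.hL
      AL := c.AL
      RL := c.RL
      hM := c.hM
      RM := c.RM
      BM := by
        rw [← hkM]
        exact cj_le_cj.2 c.BM
      J2 := c.J2
      JK := c.JK
      onM := c.onM
      onL := c.onL }
  obtain ⟨b, hb, hb1⟩ := h.pt_ne_bot (c.hB h hE)
  obtain ⟨a, ha, ha1⟩ := h.pt_ne_bot hR
  obtain ⟨k₁, hk₁, hk₁L, hkb⟩ := c.onM b (c.BM hb) (c.B_not_R h hE hb hb1) a ha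
  have hk₁M : k₁ ∉ centralizer (M : Set G) := by
    intro e
    rw [conj_of_centralizer e (c.BM hb), mul_inv_cancel] at hkb
    exact ha1 hkb.symm
  have hk₁2 := twoEl_of c.J2 hk₁
  set x := k * k₁ * k⁻¹ with hx
  have hx2 : TwoEl x := twoEl_conj hk₁2
  have hxL : x ∈ centralizer (L : Set G) := mul_mem (mul_mem hkL hk₁L) (inv_mem hkL)
  have hxM : x * k₁⁻¹ ∈ centralizer (M : Set G) := kx_comm_cent h hR c.hM c.RM hk (c.JK hk₁)
  have hd' : k * d * k⁻¹ ∈ ⁅ws V A, ws V (cj k B)⁆ := by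
    have h1 := conj_mem_commutator (g := k) hd
    rwa [← ws_cj, ← ws_cj, hkA] at h1
  have h1 := c1.twist h hE hx2 hk₁2 hxL hk₁L hxM hd'
  have hα := c.alpha h hE hk₁2 hk₁L hd
  set α := k₁ * d * k₁⁻¹ * d⁻¹ with hαd
  have e1 : k₁ * d * k₁⁻¹ = α * d := by rw [hαd]; group
  have h2 : x * (k * d * k⁻¹) * x⁻¹ = α * (k * d * k⁻¹) := by
    calc x * (k * d * k⁻¹) * x⁻¹ = k * (k₁ * d * k₁⁻¹) * k⁻¹ := by rw [hx]; group
      _ = (k * α * k⁻¹) * (k * d * k⁻¹) := by rw [e1]; group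
      _ = α * (k * d * k⁻¹) := by rw [conj_of_centralizer hkL (c.AL hα)]
  rw [h2] at h1
  -- `k₁` centralises `d' d⁻¹`
  have wd := c.memA h hE hd
  have wd' : k * d * k⁻¹ ∈ ws V A := c1.memA h hE hd'
  have wα : α ∈ ws V A := h.pt_le_ws c.hc.l.left hα
  have h3 : k₁ * ((k * d * k⁻¹) * d⁻¹) * k₁⁻¹ = (k * d * k⁻¹) * d⁻¹ := by
    calc k₁ * ((k * d * k⁻¹) * d⁻¹) * k₁⁻¹ = (k₁ * (k * d * k⁻¹) * k₁⁻¹) * (k₁ * d * k₁⁻¹)⁻¹ := by group
      _ = α * ((k * d * k⁻¹) * d⁻¹) * α⁻¹ := by rw [← h1, e1]; group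
      _ = (k * d * k⁻¹) * d⁻¹ := by
        rw [h.ws_comm c.hc.l.left wα (mul_mem wd' (inv_mem wd)), mul_inv_cancel_right]
  obtain ⟨s, hs, e, he, hse⟩ := mem_Rh h hE c.hc c.hL c.AL c.RL (d := (k * d * k⁻¹) * d⁻¹)
    (mul_mem (le_Rh c1.hc c.RL hd') (inv_mem (le_Rh c.hc c.RL hd)))
  have h4 : k₁ * e * k₁⁻¹ * e⁻¹ = 1 := by
    rw [hse] at h3
    have h5 : k₁ * (s * e) * k₁⁻¹ = s * (k₁ * e * k₁⁻¹) := by
      calc k₁ * (s * e) * k₁⁻¹ = (k₁ * s * k₁⁻¹) * (k₁ * e * k₁⁻¹) := by group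
        _ = s * (k₁ * e * k₁⁻¹) := by rw [conj_of_centralizer hk₁L (c.AL hs)]
    rw [h5] at h3
    rw [mul_left_cancel h3, mul_inv_cancel]
  have h5 : e ∈ ws V R := c.symm.mem_ws_of_beta h hE hk₁ hk₁L hk₁M (by rw [commutator_comm]; exact he) h4
  rw [hse]
  exact mul_mem (h.adj_le_ws c.hc.l.symm hs) h5

/-- the other points of `L` -/
theorem move {Y : Subgroup G} (hY : IsCj Z Y) (hYL : Y ≤ L) (hYR : Y ≠ R) : Cfg V Z Y R B L M J := by
  have hR := c.hR h hE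
  obtain ⟨v, hv, hv1⟩ := h.pt_ne_bot (c.hA h hE)
  obtain ⟨z, hz, y, hy, hvy⟩ := h.line_eq hR hY hYR.symm c.hL c.RL hYL (c.AL hv)
  have hvR := c.A_not_R h hE hv hv1
  have hy1 : y ≠ 1 := by
    rintro rfl
    rw [mul_one] at hvy
    exact hvR (hvy ▸ hz)
  obtain ⟨k, hk, hkM, hkv⟩ := c.onL v (c.AL hv) hvR z⁻¹ (inv_mem hz)
  have h1 : k * v * k⁻¹ = y := by
    rw [mul_inv_eq_iff_eq_mul] at hkv
    rw [hkv, hvy]; group
  have h2 : cj k A = Y := h.pts_eq ((c.hA h hE).cj k) hY (z := y) (by rw [← h1]; exact conj_mem_cj hv) hy hy1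
  have hkR : cj k R = R := cj_eq_iff.2 (centralizer_le_normalizer _ (kx_le_cent (c.JK hk)))
  have hkB : cj k B = B := cj_eq_iff.2 (centralizer_le_normalizer _ (centralizer_le c.BM hkM))
  exact
    { hc := by
        have h3 := c.hc.cj k
        rwa [h2, hkR, hkB] at h3
      hL := c.hL
      AL := hYL
      RL := c.RL
      hM := c.hM
      RM := c.RM
      BM := c.BM
      J2 := c.J2
      JK := c.JK
      onM := c.onM
      onL := c.onL }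

/-- `d ∈ [W_A, W_B]` not in `W_R` -/
theorem exists_out : ∃ d ∈ ⁅ws V A, ws V B⁆, d ∉ ws V R := Set.not_subset.1 (hE.h5 c.hc)

/-- `B ≤ X_L` -/
theorem B_le_XL : B ≤ XL V Z L := by
  intro b hb
  obtain ⟨d, hd, hdR⟩ := c.exists_out h hE
  obtain ⟨k, hk, -, e⟩ := c.beta_onto h hE hd hdR hb
  rw [← e]
  have hdX : d ∈ XL V Z L := le_XL c.hc.l.left c.AL (le_Rh c.hc c.RL hd)
  refine mul_mem ?_ (inv_mem hdX)
  have h1 := conj_mem_XL (g := k) hdX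
  rwa [kx_norm_line h c.hL c.RL (c.JK hk)] at h1

theorem B_inf_L {u : G} (hu : u ∈ B) (hu' : u ∈ L) : u = 1 := h.star' c.hc hu (le_ws c.hL c.AL hu')

end Cfg

namespace XM

variable [Finite G] {S : Sylow 2 G} {P V Z L : Subgroup G} (h : Mid S P V Z) (hE : EndH V Z) (hL : IsCj V L)
variable (hex : ∃ A R B, Cr V Z A R B)
variable {H M : Type*} [Group H] [CommGroup M] [MulDistribMulAction H M] {ρ : G → H} {π : G → M}
variable (r : XM V Z L ρ π)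

/-- the image of `K` -/
def mp (r : XM V Z L ρ π) (K : Subgroup G) : Subgroup M where
  carrier := {m | ∃ a ∈ K, a ∈ XL V Z L ∧ π a = m}
  one_mem' := ⟨1, one_mem _, one_mem _, r.one_π⟩
  mul_mem' := by
    rintro _ _ ⟨a, ha, ha', rfl⟩ ⟨b, hb, hb', rfl⟩
    exact ⟨a * b, mul_mem ha hb, mul_mem ha' hb', r.mulπ a ha' b hb'⟩
  inv_mem' := by
    rintro _ ⟨a, ha, ha', rfl⟩
    exact ⟨a⁻¹, inv_mem ha, inv_mem ha', r.inv_π ha'⟩

/-- `{m | [m, x] ∈ Q}` -/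
def dq (x : H) (Q : Subgroup M) : Subgroup M where
  carrier := {m | x • m * m⁻¹ ∈ Q}
  one_mem' := by
    show x • (1 : M) * 1⁻¹ ∈ Q
    rw [smul_one, inv_one, mul_one]
    exact one_mem _
  mul_mem' := by
    intro a b ha hb
    show x • (a * b) * (a * b)⁻¹ ∈ Q
    have e : x • (a * b) * (a * b)⁻¹ = (x • a * a⁻¹) * (x • b * b⁻¹) := by
      rw [smul_mul', mul_inv]; exact mul_mul_mul_comm _ _ _ _
    rw [e]
    exact mul_mem ha hb
  inv_mem' := by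
    intro a ha
    show x • a⁻¹ * a⁻¹⁻¹ ∈ Q
    have e : x • a⁻¹ * a⁻¹⁻¹ = (x • a * a⁻¹)⁻¹ := by rw [smul_inv', mul_inv]
    rw [e]
    exact inv_mem ha

theorem mem_dq_bot {x : H} {m : M} : m ∈ dq x (⊥ : Subgroup M) ↔ x • m = m := by
  show x • m * m⁻¹ ∈ (⊥ : Subgroup M) ↔ _
  rw [mem_bot, mul_inv_eq_one]

include h hE hL hex r

/-- **(M1)** `K_R ∩ C_G(L)` acts trivially on `X_L / L` -/
theorem triv {R : Subgroup G} (hR : IsCj Z R) (hRL : R ≤ L) {k : G} (hk : k ∈ kx V R)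
    (hkL : k ∈ centralizer (L : Set G)) (m : M) : ρ k • m = m := by
  have hkN : k ∈ normalizer (L : Set G) := centralizer_le_normalizer _ hkL
  rw [← mem_dq_bot]
  refine r.induct (Q := dq (ρ k) ⊥) (fun Y hY hYL d hd => ?_) m
  rw [mem_dq_bot]
  have hdX : d ∈ XL V Z L := le_XL hY hYL hd
  by_cases hYR : Y = R
  · subst hYR
    rw [r.fix_iff hkN hdX]
    exact hRL ((mem_kx.1 hk).2 d (Rh_le_ws h hY hd))
  obtain ⟨B, hc⟩ := exists_cr h hex hL hY hYL hR hRL hYR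
  obtain ⟨N, hN, hRN, hBN⟩ := hc.r.line
  obtain ⟨J, c⟩ := exists_cfg h hE hc hL hYL hRL hN hRN hBN
  obtain ⟨a, ha, e, he, rfl⟩ := mem_Rh h hE hc hL hYL hRL hd
  have haX : a ∈ XL V Z L := line_le_XL h hE hex hL (hYL ha)
  have heX : e ∈ XL V Z L := le_XL hY hYL (le_Rh hc hRL he)
  have ha1 : π a = 1 := (r.kerπ a haX).2 (hYL ha)
  rw [r.mulπ a haX e heX, ha1, one_mul]
  -- `k²`
  have hu := c.comm_mem_ws h hE hk hkL he
  set u := k * e * k⁻¹ * e⁻¹ with hu0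
  have e1 : k * e * k⁻¹ = u * e := by rw [hu0]; group
  have hs : k * u * k⁻¹ * u⁻¹ ∈ R := (mem_kx.1 hk).2 u hu
  set s := k * u * k⁻¹ * u⁻¹ with hs0
  have e2 : k * u * k⁻¹ = s * u := by rw [hs0]; group
  have huu : u * u = 1 := h.ws_sq hR hu
  have e3 : (k * k) * e * (k * k)⁻¹ * e⁻¹ = s := by
    calc (k * k) * e * (k * k)⁻¹ * e⁻¹ = k * (k * e * k⁻¹) * k⁻¹ * e⁻¹ := by group
      _ = k * (u * e) * k⁻¹ * e⁻¹ := by rw [e1]
      _ = (k * u * k⁻¹) * (k * e * k⁻¹) * e⁻¹ := by group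
      _ = (s * u) * (u * e) * e⁻¹ := by rw [e2, e1]
      _ = s * (u * u) := by group
      _ = s := by rw [huu, mul_one]
  obtain ⟨j, hj, hkj⟩ := exists_odd_pow k
  refine smul_of_sq_odd (j := j) ?_ hj ?_
  · rw [← r.mulρ k hkN k hkN, r.fix_iff (mul_mem hkN hkN) heX, e3]
    exact hRL hs
  · rw [← r.pow_ρ hkN, r.fix_iff (pow_mem hkN j) heX]
    exact hYL (c.alpha h hE hkj (pow_mem hkL j) he)

/-- `k ∈ K_R` acts as an element of `J ∩ C(M)` -/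
theorem exists_eq {A R B N J : Subgroup G} (c : Cfg V Z A R B L N J) {k : G} (hk : k ∈ kx V R) :
    ∃ k' ∈ J, k' ∈ centralizer (N : Set G) ∧ k'⁻¹ * k ∈ centralizer (L : Set G) ∧ ∀ m : M, ρ k • m = ρ k' • m := by
  have hR := c.hR h hE
  obtain ⟨v, hv, hv1⟩ := h.pt_ne_bot (c.hA h hE)
  have hvR := c.A_not_R h hE hv hv1
  obtain ⟨k', hk', hk'N, e⟩ := c.onL v (c.AL hv) hvR _ (kx_line h c.hL c.RL hk (c.AL hv))
  have h1 := kx_eq_line h hR c.hL c.RL hk (c.JK hk') (c.AL hv) hvR e.symm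
  refine ⟨k', hk', hk'N, h1, fun m => ?_⟩
  have h2 := triv h hE hL hex r hR c.RL (mul_mem (inv_mem (c.JK hk')) hk) h1 m
  have hkN : k ∈ normalizer (L : Set G) := cj_eq_iff.1 (kx_norm_line h c.hL c.RL hk)
  have hkN' : k' ∈ normalizer (L : Set G) := cj_eq_iff.1 (kx_norm_line h c.hL c.RL (c.JK hk'))
  rw [r.mulρ _ (inv_mem hkN') _ hkN, r.inv_ρ hkN', mul_smul, inv_smul_eq_iff] at h2
  exact h2

/-- **(M2)** `[M, K_R] ≤ π(B)` -/
theorem comm_mem {A R B N J : Subgroup G} (c : Cfg V Z A R B L N J) {k : G} (hk : k ∈ kx V R) (m : M) :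
    ρ k • m * m⁻¹ ∈ r.mp B := by
  have hR := c.hR h hE
  have hkN : k ∈ normalizer (L : Set G) := cj_eq_iff.1 (kx_norm_line h c.hL c.RL hk)
  refine r.induct (Q := dq (ρ k) (r.mp B)) (fun Y hY hYL d hd => ?_) m
  show ρ k • π d * (π d)⁻¹ ∈ r.mp B
  have hdX : d ∈ XL V Z L := le_XL hY hYL hd
  by_cases hYR : Y = R
  · subst hYR
    have h1 : ρ k • π d = π d := by
      rw [r.fix_iff hkN hdX]
      exact c.RL ((mem_kx.1 hk).2 d (Rh_le_ws h hY hd))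
    rw [h1, mul_inv_cancel]
    exact one_mem _
  have c' := c.move h hE hY hYL hYR
  obtain ⟨a, ha, e, he, rfl⟩ := mem_Rh h hE c'.hc hL hYL c.RL hd
  have haX : a ∈ XL V Z L := line_le_XL h hE hex hL (hYL ha)
  have heX : e ∈ XL V Z L := le_XL hY hYL (le_Rh c'.hc c.RL he)
  have ha1 : π a = 1 := (r.kerπ a haX).2 (hYL ha)
  obtain ⟨k', hk', hk'N, -, hkk⟩ := exists_eq h hE hL hex r c' hk
  have hkN' : k' ∈ normalizer (L : Set G) := cj_eq_iff.1 (kx_norm_line h c.hL c.RL (c.JK hk'))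
  rw [r.mulπ a haX e heX, ha1, one_mul, hkk, r.π_comm hkN' heX]
  have h1 := c'.beta h hE (twoEl_of c.J2 hk') hk'N he
  exact ⟨_, h1, c.B_le_XL h hE h1, rfl⟩

/-- **(M4)** -/
theorem mem_ws_of_fix {A R B N J : Subgroup G} (c : Cfg V Z A R B L N J) {k d : G} (hk : k ∈ kx V R)
    (hkL : k ∉ centralizer (L : Set G)) (hd : d ∈ Rh V Z A L) (hfix : ρ k • π d = π d) : d ∈ ws V R := by
  obtain ⟨a, ha, e, he, rfl⟩ := mem_Rh h hE c.hc hL c.AL c.RL hd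
  have haX : a ∈ XL V Z L := line_le_XL h hE hex hL (c.AL ha)
  have heX : e ∈ XL V Z L := le_XL c.hc.l.left c.AL (le_Rh c.hc c.RL he)
  have ha1 : π a = 1 := (r.kerπ a haX).2 (c.AL ha)
  obtain ⟨k', hk', hk'N, hkk', hkk⟩ := exists_eq h hE hL hex r c hk
  have hkN' : k' ∈ normalizer (L : Set G) := cj_eq_iff.1 (kx_norm_line h c.hL c.RL (c.JK hk'))
  rw [r.mulπ a haX e heX, ha1, one_mul, hkk, r.fix_iff hkN' heX] at hfix
  have h1 := c.B_inf_L h hE (c.beta h hE (twoEl_of c.J2 hk') hk'N he) hfix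
  have h2 : k' ∉ centralizer (L : Set G) := by
    intro e1
    apply hkL
    have h3 := mul_mem e1 hkk'
    rwa [mul_inv_cancel_left] at h3
  exact mul_mem (h.adj_le_ws c.hc.l.symm ha) (c.mem_ws_of_beta h hE hk' hk'N h2 he h1)

omit hE hex in
/-- an element of `W_R` fixed modulo `L` by `k ∈ K_A`, `k` not trivial on `L`, is in `I_L` -/
theorem mem_inf_of_fix {A R : Subgroup G} (hA : IsCj Z A) (hAL : A ≤ L) (hR : IsCj Z R) (hRL : R ≤ L) (hne : A ≠ R)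
    {k e : G} (hk : k ∈ kx V A) (hkL : k ∉ centralizer (L : Set G)) (he : e ∈ ws V R) (heX : e ∈ XL V Z L)
    (hfix : ρ k • π e = π e) : e ∈ ws V A := by
  have hkN : k ∈ normalizer (L : Set G) := cj_eq_iff.1 (kx_norm_line h hL hAL hk)
  rw [r.fix_iff hkN heX] at hfix
  have h1 : cj k R ≠ R := by
    intro e1
    obtain ⟨x, hx, hx1⟩ := h.pt_ne_bot hR
    have h2 : k * x * k⁻¹ * x⁻¹ ∈ R := by
      refine mul_mem ?_ (inv_mem hx)
      have := conj_mem_cj (g := k) hx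
      rwa [e1] at this
    have h3 := h.pt_inf hA hR hne (kx_line h hL hAL hk (hRL hx)) h2
    apply hkL
    refine cent_line_of h hA hL hAL (kx_le_cent hk) (hRL hx) (fun e2 => hx1 (h.pt_inf hA hR hne e2 hx)) ?_
    rwa [mul_inv_eq_one, mul_inv_eq_iff_eq_mul] at h3
  have h2 : cj k R ≤ L := by
    rw [← cj_eq_iff.2 hkN]
    exact cj_le_cj.2 hRL
  have h3 : e ∈ ws V (cj k R) := by
    have e1 : e = (k * e * k⁻¹ * e⁻¹)⁻¹ * (k * e * k⁻¹) := by group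
    rw [e1]
    refine mul_mem (inv_mem (le_ws hL h2 hfix)) ?_
    rw [ws_cj]
    exact conj_mem_cj he
  exact h.inf_le hL (hR.cj k) hR hA h2 hRL hAL h1 ⟨h3, he⟩

/-- **(N6)** -/
theorem smul_B {A R B N J : Subgroup G} (c : Cfg V Z A R B L N J) {t b : G} (ht : t ∈ normalizer (L : Set G))
    (htR : cj t R = R) (hb : b ∈ B) : ρ t • π b ∈ r.mp B := by
  obtain ⟨d, hd, hdR⟩ := c.exists_out h hE
  obtain ⟨k, hk, -, e⟩ := c.beta_onto h hE hd hdR hb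
  have hdX : d ∈ XL V Z L := le_XL c.hc.l.left c.AL (le_Rh c.hc c.RL hd)
  have hkN : k ∈ normalizer (L : Set G) := cj_eq_iff.1 (kx_norm_line h c.hL c.RL (c.JK hk))
  have hbX := c.B_le_XL h hE hb
  have hk' : t * k * t⁻¹ ∈ kx V R := by
    have := conj_mem_cj (g := t) (c.JK hk)
    rwa [← kx_cj, htR] at this
  rw [← r.act t ht b hbX, ← e]
  have e1 : t * (k * d * k⁻¹ * d⁻¹) * t⁻¹ = (t * k * t⁻¹) * (t * d * t⁻¹) * (t * k * t⁻¹)⁻¹ * (t * d * t⁻¹)⁻¹ := by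
    group
  rw [e1, ← r.π_comm (mul_mem (mul_mem ht hkN) (inv_mem ht)) (r.conj_XL ht hdX)]
  exact comm_mem h hE hL hex r c hk' _

/-- **(N7)** every `b ∈ B` is congruent to an element of `R^_{R,L}` modulo `I_L` -/
theorem exists_n {A R B N J : Subgroup G} (c : Cfg V Z A R B L N J) {b : G} (hb : b ∈ B) :
    ∃ n ∈ Rh V Z R L, b * n⁻¹ ∈ ws V R ⊓ ws V A := by
  have hR := c.hR h hE
  have hA := c.hA h hE
  have hne := c.hc.l.ne
  have hbX := c.B_le_XL h hE hb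
  -- `k ∈ K_A` not trivial on `L`
  obtain ⟨k, hk, hkL⟩ : ∃ k ∈ kx V A, k ∉ centralizer (L : Set G) := by
    obtain ⟨T, Q, h'⟩ := h.flag hA hL c.AL
    obtain ⟨k, hk, hk'⟩ := Set.not_subset.1 h'.hf
    exact ⟨k, by rwa [kx_of hL] at hk, hk'⟩
  have hkN : k ∈ normalizer (L : Set G) := cj_eq_iff.1 (kx_norm_line h hL c.AL hk)
  -- `(R, A, B')`
  obtain ⟨B', hc'⟩ := exists_cr h hex hL hR c.RL hA c.AL hne.symm
  obtain ⟨N', hN', hAN', hBN'⟩ := hc'.r.line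
  obtain ⟨J', c'⟩ := exists_cfg h hE hc' hL c.RL c.AL hN' hAN' hBN'
  let Q : Subgroup M :=
    { carrier := {m | ∃ n ∈ Rh V Z R L, ρ k • m * m⁻¹ = ρ k • π n * (π n)⁻¹}
      one_mem' := ⟨1, one_mem _, by rw [r.one_π]⟩
      mul_mem' := by
        rintro a b ⟨x, hx, ex⟩ ⟨y, hy, ey⟩
        refine ⟨x * y, mul_mem hx hy, ?_⟩
        rw [r.mulπ x (le_XL hR c.RL hx) y (le_XL hR c.RL hy), smul_mul', smul_mul', mul_inv, mul_inv,
          mul_mul_mul_comm, ex, ey, ← mul_mul_mul_comm]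
      inv_mem' := by
        rintro a ⟨x, hx, ex⟩
        refine ⟨x⁻¹, inv_mem hx, ?_⟩
        rw [r.inv_π (le_XL hR c.RL hx), smul_inv', smul_inv', ← mul_inv, ← mul_inv, ex] }
  have hQ : ∀ m : M, m ∈ Q := r.induct fun Y hY hYL d hd => by
    have hdX : d ∈ XL V Z L := le_XL hY hYL hd
    by_cases hYA : Y = A
    · subst hYA
      refine ⟨1, one_mem _, ?_⟩
      rw [r.one_π, smul_one, inv_one, mul_one, mul_inv_eq_one, r.fix_iff hkN hdX]
      exact c.AL ((mem_kx.1 hk).2 d (Rh_le_ws h hY hd))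
    obtain ⟨k₁, hk₁, e1⟩ := h.K_trans hA hL c.AL hR c.RL hY hYL hne.symm hYA
    have hk₁N : k₁ ∈ normalizer (L : Set G) := cj_eq_iff.1 (kx_norm_line h hL c.AL hk₁)
    set n := k₁⁻¹ * d * k₁ with hn
    have hnR : n ∈ Rh V Z R L := by
      have h1 := conj_mem_Rh (g := k₁⁻¹) hd
      rw [inv_inv, ← e1, cj_cj, inv_mul_cancel, cj_one, cj_eq_iff.2 (inv_mem hk₁N)] at h1
      exact h1
    have hnX := le_XL hR c.RL hnR
    refine ⟨n, hnR, ?_⟩
    have e2 : π d = ρ k₁ • π n := by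
      rw [← r.act k₁ hk₁N n hnX]
      congr 1
      rw [hn]; group
    have e3 : ∀ m : M, ρ k • ρ k₁ • m = ρ k₁ • ρ k • m := by
      intro m
      have h1 := triv h hE hL hex r hA c.AL (mul_mem (mul_mem (mul_mem hk hk₁) (inv_mem hk)) (inv_mem hk₁))
        (kx_comm_cent h hA hL c.AL hk hk₁) (ρ k₁ • ρ k • m)
      rw [r.mulρ _ (mul_mem (mul_mem hkN hk₁N) (inv_mem hkN)) _ (inv_mem hk₁N), r.inv_ρ hk₁N, mul_smul,
        inv_smul_smul, r.mulρ _ (mul_mem hkN hk₁N) _ (inv_mem hkN), r.inv_ρ hkN, mul_smul, inv_smul_smul,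
        r.mulρ _ hkN _ hk₁N, mul_smul] at h1
      exact h1
    obtain ⟨b', hb', hb'X, e4⟩ := comm_mem h hE hL hex r c' hk (π n)
    rw [e2, e3, ← smul_inv', ← smul_mul', ← e4, r.fix_iff hk₁N hb'X]
    exact c.AL ((mem_kx.1 hk₁).2 b' (h.adj_le_ws hc'.r hb'))
  obtain ⟨n, hn, e⟩ := hQ (π b)
  have hnX := le_XL hR c.RL hn
  have hbR : b ∈ ws V R := h.adj_le_ws c.hc.r hb
  have h1 : b * n⁻¹ ∈ ws V R := mul_mem hbR (inv_mem (Rh_le_ws h hR hn))
  refine ⟨n, hn, h1, mem_inf_of_fix h hL r hA c.AL hR c.RL hne hk hkL h1 (mul_mem hbX (inv_mem hnX)) ?_⟩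
  rw [r.mulπ b hbX _ (inv_mem hnX), r.inv_π hnX, smul_mul', smul_inv']
  rw [mul_inv_eq_iff_eq_mul] at e
  rw [e, mul_assoc (ρ k • π n), mul_comm (ρ k • π n), mul_inv_cancel_right, mul_comm]

end XM

end Cfsg.Agent.Omega.NO3S.MidB.No
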