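import Cfsg.Agent.Omega.NO3S.MidB.No.FullEnd3

/-!
# NO-3S, natural lines, critical distance 2: FullB, the END (`A` canonical), n = 2

**`EndH.false`** : `Mid S P V Z`, `3 ≤ |Z|`, `EndH V Z`, a critical pair ==> False.
-/

set_option autoImplicit false
set_option linter.unusedSectionVars false

namespace Cfsg.Agent.Omega.NO3S.MidB.No

open Subgroup Cfsg.Agent.Omega.NO3S.PT Cfsg.Agent.Omega.NoFF.Basic Cfsg.Agent.ZN
open Cfsg.Agent.Omega.NO3S.MidQ (Adj Com Cr UU ws_of kx_of isCj_iff adj_iff com_iff cr_iff)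
open scoped Pointwise commutatorElement

universe u

variable {G : Type u} [Group G]

namespace Cfg

variable [Finite G] {S : Sylow 2 G} {P V Z : Subgroup G} (h : Mid S P V Z) (hE : EndH V Z)
variable {A R B L M J : Subgroup G} (c : Cfg V Z A R B L M J)
include h hE c

/-- **Claim 4** -/
theorem B_inf_Rh {u : G} (hu : u ∈ B) (hu' : u ∈ Rh V Z R L) : u = 1 := by
  by_contra hu1
  have hR := c.hR h hE
  have hA := c.hA h hE
  obtain ⟨B', hc'⟩ := exists_cr h ⟨_, _, _, c.hc⟩ c.hL hR c.RL hA c.AL c.hc.l.ne.symm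
  obtain ⟨a, ha, e, he, hue⟩ := mem_Rh h hE hc' c.hL c.RL c.AL hu'
  have huR := c.B_not_R h hE hu hu1
  -- the 2-elements of `C_G(L)` fix `M`
  have key : ∀ g : G, TwoEl g → g ∈ centralizer (L : Set G) → cj g M = M := by
    intro g hg hgL
    have h1 : g * e * g⁻¹ * e⁻¹ ∈ R := hE.h1 hc' c.hL c.RL c.AL hg hgL e he
    have h2 : g * u * g⁻¹ * u⁻¹ ∈ R := by
      have e1 : g * u * g⁻¹ * u⁻¹ = a * (g * e * g⁻¹ * e⁻¹) * a⁻¹ := by
        rw [hue]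
        calc g * (a * e) * g⁻¹ * (a * e)⁻¹ = (g * a * g⁻¹) * (g * e * g⁻¹ * e⁻¹) * a⁻¹ := by group
          _ = a * (g * e * g⁻¹ * e⁻¹) * a⁻¹ := by rw [conj_of_centralizer hgL (c.RL ha)]
      rw [e1]
      exact mul_mem (mul_mem ha h1) (inv_mem ha)
    refine h.stab hR c.hM c.RM (centralizer_le_normalizer _ (centralizer_le c.RL hgL)) (c.BM hu) huR ?_
    have e2 : g * u * g⁻¹ = g * u * g⁻¹ * u⁻¹ * u := by group
    rw [e2]
    exact mul_mem (c.RM h2) (c.BM hu)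
  obtain ⟨T, Q, h'⟩ := h.flag hR c.hL c.RL
  set B₀ : Subgroup G := (T : Subgroup G) ⊓ centralizer (R : Set G) with hB₀
  have hB₀M : B₀ ≤ normalizer (M : Set G) := by
    intro s hs
    obtain ⟨k, hk, hkB, hks⟩ := h'.pl.K_full h'.hf hs
    rw [kx_of c.hL] at hk
    have h1 : cj k M = M := kx_norm_line h c.hM c.RM hk
    have h2 : TwoEl (k * s⁻¹) := twoEl_of h'.pl.isPGroup_B (mul_mem hkB (inv_mem hs))
    have h3 := key _ h2 hks
    rw [← cj_eq_iff]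
    have e : s = (k * s⁻¹)⁻¹ * k := by group
    rw [e, ← cj_cj, h1]
    rw [← cj_inj (g := k * s⁻¹), cj_cj, mul_inv_cancel, cj_one, h3]
  obtain ⟨c₀, hc₀, hMc⟩ := h'.pl.exists_cent_line ((isCj_iff c.hL).2 c.hM) c.RM
  have hc₀R : cj c₀ R = R := cj_eq_iff.2 (centralizer_le_normalizer _ hc₀)
  have hBL : B₀ ≤ normalizer (L : Set G) := h'.pl.BP.trans h'.pl.PN
  have h1 : cj c₀ B₀ ≤ normalizer (M : Set G) ⊓ centralizer (R : Set G) := by
    refine le_inf ?_ ?_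
    · rw [hMc, ← cj_normalizer]
      exact cj_le_cj.2 hBL
    · have h2 : cj c₀ B₀ ≤ cj c₀ (centralizer (R : Set G)) := cj_le_cj.2 inf_le_right
      rwa [cj_centralizer, hc₀R] at h2
  obtain ⟨m, hm, hmB⟩ := h'.pl.exists_conj (H := normalizer (M : Set G) ⊓ centralizer (R : Set G))
    (le_inf hB₀M inf_le_right) inf_le_right h1
  have h2 : m⁻¹ * c₀ ∈ normalizer (B₀ : Set G) := by
    rw [← cj_eq_iff, ← cj_cj, ← hmB, cj_cj, inv_mul_cancel, cj_one]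
  have h3 := cj_eq_iff.2 (h'.pl.NB h2)
  rw [← cj_cj, ← hMc, cj_eq_iff.2 (inv_mem hm.1)] at h3
  exact h.cr_not_le c.hc c.hM c.BM (h3 ▸ c.AL)

end Cfg

/-- elements of `N_G(L)` acting trivially on `I_L / L` -/
def EL (V A R L : Subgroup G) : Subgroup G where
  carrier := {t | t ∈ normalizer (L : Set G) ∧ ∀ e ∈ ws V A ⊓ ws V R, t * e * t⁻¹ * e⁻¹ ∈ L}
  one_mem' := ⟨one_mem _, fun e _ => by
    have : (1 : G) * e * 1⁻¹ * e⁻¹ = 1 := by group
    rw [this]; exact one_mem _⟩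
  mul_mem' := by
    rintro s t ⟨hs, hs'⟩ ⟨ht, ht'⟩
    refine ⟨mul_mem hs ht, fun e he => ?_⟩
    have e1 : s * t * e * (s * t)⁻¹ * e⁻¹ = s * (t * e * t⁻¹ * e⁻¹) * s⁻¹ * (s * e * s⁻¹ * e⁻¹) := by group
    rw [e1]
    exact mul_mem ((mem_normalizer_iff.1 hs _).1 (ht' e he)) (hs' e he)
  inv_mem' := by
    rintro t ⟨ht, ht'⟩
    refine ⟨inv_mem ht, fun e he => ?_⟩
    have e1 : t⁻¹ * e * t⁻¹⁻¹ * e⁻¹ = t⁻¹ * (t * e * t⁻¹ * e⁻¹)⁻¹ * t⁻¹⁻¹ := by group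
    rw [e1]
    exact (mem_normalizer_iff.1 (inv_mem ht) _).1 (inv_mem (ht' e he))

namespace XM

variable [Finite G] {S : Sylow 2 G} {P V Z L : Subgroup G} (h : Mid S P V Z) (hE : EndH V Z) (hL : IsCj V L)
variable (hex : ∃ A R B, Cr V Z A R B)
variable {H M : Type*} [Group H] [CommGroup M] [MulDistribMulAction H M] {ρ : G → H} {π : G → M}
variable (r : XM V Z L ρ π)
include h hE hL hex r

/-- **Claim 3**, first part -/
theorem fix_of_EL {A R B N J : Subgroup G} (c : Cfg V Z A R B L N J) {t : G} (ht : t ∈ EL V A R L)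
    (htR : cj t R = R) {b : G} (hb : b ∈ B) :
    ρ t • π b = π b ∧ ∃ n ∈ Rh V Z R L, b * n⁻¹ ∈ ws V R ⊓ ws V A ∧ ρ t • π n = π n := by
  have hR := c.hR h hE
  have htN : t ∈ normalizer (L : Set G) := ht.1
  obtain ⟨n, hn, he⟩ := exists_n h hE hL hex r c hb
  have hbX := c.B_le_XL h hE hb
  have hnX : n ∈ XL V Z L := le_XL hR c.RL hn
  have heX : b * n⁻¹ ∈ XL V Z L := mul_mem hbX (inv_mem hnX)
  have h1 : ρ t • π (b * n⁻¹) = π (b * n⁻¹) := (r.fix_iff htN heX).2 (ht.2 _ ⟨he.2, he.1⟩)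
  rw [r.mulπ b hbX _ (inv_mem hnX), r.inv_π hnX, smul_mul', smul_inv', mul_inv_eq_iff_eq_mul] at h1
  -- `h1 : ρ t • π b = π b * (π n)⁻¹ * ρ t • π n`
  have h2 : ρ t • π b * (π b)⁻¹ = ρ t • π n * (π n)⁻¹ := by
    rw [h1, mul_assoc (π b), mul_comm (π b), mul_inv_cancel_right, mul_comm]
  have h3 : ρ t • π b * (π b)⁻¹ ∈ r.mp B :=
    mul_mem (smul_B h hE hL hex r c htN htR hb) (inv_mem ⟨b, hb, hbX, rfl⟩)
  obtain ⟨u, hu, huX, hu'⟩ := h3
  have hw : t * n * t⁻¹ * n⁻¹ ∈ Rh V Z R L := by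
    refine mul_mem ?_ (inv_mem hn)
    have h4 := conj_mem_Rh (g := t) hn
    rwa [htR, cj_eq_iff.2 htN] at h4
  have h4 : π u = π (t * n * t⁻¹ * n⁻¹) := by rw [hu', h2, r.π_comm htN hnX]
  rw [r.π_eq huX (le_XL hR c.RL hw)] at h4
  have h5 : u ∈ Rh V Z R L := by
    have e : u = u * (t * n * t⁻¹ * n⁻¹)⁻¹ * (t * n * t⁻¹ * n⁻¹) := by group
    rw [e]
    exact mul_mem (line_le_Rh h hE hex hL hR c.RL h4) hw
  have h6 := c.B_inf_Rh h hE hu h5
  rw [h6, r.one_π] at hu'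
  refine ⟨mul_inv_eq_one.1 hu'.symm, n, hn, he, ?_⟩
  rw [h2] at hu'
  exact mul_inv_eq_one.1 hu'.symm

/-- **Claim 3**: `t` centralises `K_R` on `L` -/
theorem cent_K {A R B N J : Subgroup G} (c : Cfg V Z A R B L N J) {t : G} (ht : t ∈ EL V A R L)
    (htA : cj t A = A) (htR : cj t R = R) {k : G} (hk : k ∈ kx V R) :
    k⁻¹ * (t * k * t⁻¹) ∈ centralizer (L : Set G) := by
  have hR := c.hR h hE
  have hA := c.hA h hE
  have hne := c.hc.l.ne
  have htN : t ∈ normalizer (L : Set G) := ht.1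
  obtain ⟨B', hc'⟩ := exists_cr h hex hL hR c.RL hA c.AL hne.symm
  obtain ⟨N', hN', hAN', hBN'⟩ := hc'.r.line
  obtain ⟨J', c'⟩ := exists_cfg h hE hc' hL c.RL c.AL hN' hAN' hBN'
  have ht' : t ∈ EL V R A L := ⟨ht.1, fun e he => ht.2 e ⟨he.2, he.1⟩⟩
  obtain ⟨b, hb, hb1⟩ := h.pt_ne_bot (c'.hB h hE)
  obtain ⟨-, n, hn, he, hfix⟩ := fix_of_EL h hE hL hex r c' ht' htA hb
  have hnX : n ∈ XL V Z L := le_XL hA c.AL hn
  have hnR : n ∉ ws V R := by
    intro e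
    refine hb1 (h.star' hc' hb ?_)
    have e1 : b = b * n⁻¹ * n := by group
    rw [e1]
    exact mul_mem he.2 e
  have hkN : k ∈ normalizer (L : Set G) := cj_eq_iff.1 (kx_norm_line h hL c.RL hk)
  have hk' : t * k * t⁻¹ ∈ kx V R := by
    have := conj_mem_cj (g := t) hk
    rwa [← kx_cj, htR] at this
  have hkN' : t * k * t⁻¹ ∈ normalizer (L : Set G) := mul_mem (mul_mem htN hkN) (inv_mem htN)
  -- `[k, n]` is fixed by `t`
  obtain ⟨b₁, hb₁, hb₁X, e1⟩ := comm_mem h hE hL hex r c hk (π n)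
  have h1 := (fix_of_EL h hE hL hex r c ht htR hb₁).1
  have hfix' : ρ t⁻¹ • π n = π n := by
    rw [r.inv_ρ htN, inv_smul_eq_iff, hfix]
  have h2 : ρ (t * k * t⁻¹) • π n = ρ k • π n := by
    rw [r.mulρ _ (mul_mem htN hkN) _ (inv_mem htN), mul_smul, hfix', r.mulρ _ htN _ hkN, mul_smul]
    have e2 : ρ k • π n = π b₁ * π n := by rw [e1, inv_mul_cancel_right]
    rw [e2, smul_mul', h1, hfix]
  by_contra hcon
  refine hnR (mem_ws_of_fix h hE hL hex r c (mul_mem (inv_mem hk) hk') hcon hn ?_)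
  rw [r.mulρ _ (inv_mem hkN) _ hkN', mul_smul, h2, r.inv_ρ hkN, inv_smul_smul]

end XM

section

variable [Finite G] {S : Sylow 2 G} {P V Z : Subgroup G}

theorem kx_le_EL (h : Mid S P V Z) {A R L : Subgroup G} (hL : IsCj V L) (hAL : A ≤ L) {k : G} (hk : k ∈ kx V A) :
    k ∈ EL V A R L :=
  ⟨cj_eq_iff.1 (kx_norm_line h hL hAL hk), fun e he => hAL ((mem_kx.1 hk).2 e he.1)⟩

theorem kx_le_EL' (h : Mid S P V Z) {A R L : Subgroup G} (hL : IsCj V L) (hRL : R ≤ L) {k : G} (hk : k ∈ kx V R) :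
    k ∈ EL V A R L :=
  ⟨cj_eq_iff.1 (kx_norm_line h hL hRL hk), fun e he => hRL ((mem_kx.1 hk).2 e he.2)⟩

/-- an element `a b a`, `a ∈ K_R`, `b ∈ K_A`, which interchanges `z ∈ R` and `x ∈ A` -/
theorem exists_aba (h : Mid S P V Z) {A R L : Subgroup G} (hL : IsCj V L) (hA : IsCj Z A) (hAL : A ≤ L)
    (hR : IsCj Z R) (hRL : R ≤ L) (hne : A ≠ R) {z x : G} (hz : z ∈ R) (hz1 : z ≠ 1) (hx : x ∈ A) (hx1 : x ≠ 1) :
    ∃ a ∈ kx V R, ∃ b ∈ kx V A, (a * b * a) * z * (a * b * a)⁻¹ = x ∧ (a * b * a) * x * (a * b * a)⁻¹ = z ∧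
      cj (a * b * a) R = A ∧ cj (a * b * a) A = R := by
  have hxR : x ∉ R := fun e => hx1 (h.pt_inf hA hR hne hx e)
  have hzA : z ∉ A := fun e => hz1 (h.pt_inf hA hR hne e hz)
  obtain ⟨a, ha, ha'⟩ := h.K_act hR hL hRL (hAL hx) hxR hz
  obtain ⟨b, hb, hb'⟩ := h.K_act hA hL hAL (hRL hz) hzA hx
  have haz : a * z * a⁻¹ = z := by rw [(mem_kx.1 ha).1 z hz, mul_inv_cancel_right]
  have hbx : b * x * b⁻¹ = x := by rw [(mem_kx.1 hb).1 x hx, mul_inv_cancel_right]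
  have hax : a * x * a⁻¹ = z * x := by rw [mul_inv_eq_iff_eq_mul] at ha'; exact ha'
  have hbz : b * z * b⁻¹ = x * z := by rw [mul_inv_eq_iff_eq_mul] at hb'; exact hb'
  have hzz : z * z = 1 := h.pt_sq hR hz
  have hxx : x * x = 1 := h.pt_sq hA hx
  have hzx : z * x = x * z := h.ws_comm hR (le_ws hL hRL (hRL hz)) (le_ws hL hRL (hAL hx))
  have e1 : (a * b * a) * z * (a * b * a)⁻¹ = x := by
    calc (a * b * a) * z * (a * b * a)⁻¹ = a * (b * (a * z * a⁻¹) * b⁻¹) * a⁻¹ := by group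
      _ = a * (x * z) * a⁻¹ := by rw [haz, hbz]
      _ = (a * x * a⁻¹) * (a * z * a⁻¹) := by group
      _ = x := by rw [hax, haz, hzx, mul_assoc, hzz, mul_one]
  have e2 : (a * b * a) * x * (a * b * a)⁻¹ = z := by
    calc (a * b * a) * x * (a * b * a)⁻¹ = a * (b * (a * x * a⁻¹) * b⁻¹) * a⁻¹ := by group
      _ = a * ((b * z * b⁻¹) * (b * x * b⁻¹)) * a⁻¹ := by rw [hax]; group
      _ = a * z * a⁻¹ := by rw [hbz, hbx, ← hzx, mul_assoc z x x, hxx, mul_one]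
      _ = z := haz
  refine ⟨a, ha, b, hb, e1, e2, ?_, ?_⟩
  · refine h.pts_eq (hR.cj _) hA (z := x) ?_ hx hx1
    rw [← e1]
    exact conj_mem_cj hz
  · refine h.pts_eq (hA.cj _) hR (z := z) ?_ hz hz1
    rw [← e2]
    exact conj_mem_cj hx

/-- **THE END** -/
theorem EndH.false (h : Mid S P V Z) (hE : EndH V Z) (hq : 3 ≤ Nat.card Z) (hex : ∃ A R B, Cr V Z A R B) : False := by
  obtain ⟨A, R, B, hc⟩ := id hex
  have hA := hc.l.left
  have hR := hc.l.right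
  have hne := hc.l.ne
  obtain ⟨L, hL, hAL, hRL⟩ := hc.l.line
  obtain ⟨N, hN, hRN, hBN⟩ := hc.r.line
  obtain ⟨J, c⟩ := exists_cfg h hE hc hL hAL hRL hN hRN hBN
  obtain ⟨B', hc'⟩ := exists_cr h hex hL hR hRL hA hAL hne.symm
  obtain ⟨N', hN', hAN', hBN'⟩ := hc'.r.line
  obtain ⟨J', c'⟩ := exists_cfg h hE hc' hL hRL hAL hN' hAN' hBN'
  obtain ⟨H, M, i1, i2, i3, ρ, π, r⟩ := exists_xm h hL
  obtain ⟨z, hz, hz1⟩ := h.pt_ne_bot hR
  obtain ⟨x, hx, hx1⟩ := h.pt_ne_bot hA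
  -- a second element of `A`
  obtain ⟨x', hx', hx'1, hxx'⟩ : ∃ x' ∈ A, x' ≠ 1 ∧ x' ≠ x := by
    by_contra hcon
    push Not at hcon
    have h1 : (A : Set G) ⊆ {1, x} := by
      intro y hy
      by_cases hy1 : y = 1
      · rw [hy1]; exact Set.mem_insert _ _
      · rw [hcon y hy hy1]; exact Set.mem_insert_of_mem _ rfl
    have h2 : Nat.card A ≤ 2 := by
      have h3 := Set.ncard_le_ncard h1 (Set.toFinite _)
      have h4 : ({1, x} : Set G).ncard ≤ 2 := by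
        have h5 := Set.ncard_insert_le (1 : G) {x}
        rwa [Set.ncard_singleton] at h5
      exact h3.trans h4
    have h3 := h.pl.card_pt hA
    omega
  obtain ⟨a, ha, b, hb, w1, w2, w3, w4⟩ := exists_aba h hL hA hAL hR hRL hne hz hz1 hx hx1
  obtain ⟨a', ha', b', hb', w1', w2', w3', w4'⟩ := exists_aba h hL hA hAL hR hRL hne hz hz1 hx' hx'1
  set w := a * b * a with hw
  set w' := a' * b' * a' with hw'
  set t := w' * w with ht
  have haE : a ∈ EL V A R L := kx_le_EL' h hL hRL ha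
  have hbE : b ∈ EL V A R L := kx_le_EL h hL hAL hb
  have haE' : a' ∈ EL V A R L := kx_le_EL' h hL hRL ha'
  have hbE' : b' ∈ EL V A R L := kx_le_EL h hL hAL hb'
  have htE : t ∈ EL V A R L := mul_mem (mul_mem (mul_mem haE' hbE') haE') (mul_mem (mul_mem haE hbE) haE)
  have htA : cj t A = A := by rw [ht, ← cj_cj, w4, w3']
  have htR : cj t R = R := by rw [ht, ← cj_cj, w3, w4']
  have htx : t * x * t⁻¹ = x' := by
    calc t * x * t⁻¹ = w' * (w * x * w⁻¹) * w'⁻¹ := by rw [ht]; group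
      _ = x' := by rw [w2, w1']
  have htE' : t ∈ EL V R A L := ⟨htE.1, fun e he => htE.2 e ⟨he.2, he.1⟩⟩
  have cR : ∀ {k : G}, k ∈ kx V R → k⁻¹ * (t * k * t⁻¹) ∈ centralizer (L : Set G) := fun hk =>
    XM.cent_K h hE hL hex r c htE htA htR hk
  have cA : ∀ {k : G}, k ∈ kx V A → k⁻¹ * (t * k * t⁻¹) ∈ centralizer (L : Set G) := fun hk =>
    XM.cent_K h hE hL hex r c' htE' htR htA hk
  -- the action on `L`
  let N₀ : Subgroup G := normalizer (L : Set G)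
  let C₀ : Subgroup N₀ := (centralizer (L : Set G)).subgroupOf N₀
  have hC₀ : C₀.Normal := by
    refine ⟨fun g hg n => mem_subgroupOf.2 ?_⟩
    have h1 := conj_mem_cj (g := (n : G)) (mem_subgroupOf.1 hg)
    rwa [cj_centralizer, cj_eq_iff.2 n.2] at h1
  let f : N₀ →* N₀ ⧸ C₀ := QuotientGroup.mk' C₀
  have hf : ∀ g g' : N₀, f g = f g' ↔ (g : G)⁻¹ * g' ∈ centralizer (L : Set G) := by
    intro g g'
    show (QuotientGroup.mk g : N₀ ⧸ C₀) = QuotientGroup.mk g' ↔ _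
    rw [QuotientGroup.eq, mem_subgroupOf]
    rfl
  have hf1 : ∀ g : N₀, f g = 1 ↔ (g : G) ∈ centralizer (L : Set G) := by
    intro g
    show (QuotientGroup.mk g : N₀ ⧸ C₀) = 1 ↔ _
    rw [QuotientGroup.eq_one_iff, mem_subgroupOf]
  let ta : N₀ := ⟨a, haE.1⟩
  let tb : N₀ := ⟨b, hbE.1⟩
  let ta' : N₀ := ⟨a', haE'.1⟩
  let tb' : N₀ := ⟨b', hbE'.1⟩
  let tt : N₀ := ⟨t, htE.1⟩
  have sq : ∀ {X : Subgroup G}, IsCj Z X → X ≤ L → ∀ k : N₀, (k : G) ∈ kx V X → f k * f k = 1 := by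
    intro X hX hXL k hk
    rw [← map_mul, hf1]
    exact kx_sq_line h hX hL hXL hk
  have fa := sq hR hRL ta ha
  have fb := sq hA hAL tb hb
  have fa' := sq hR hRL ta' ha'
  have fb' := sq hA hAL tb' hb'
  have ft : f tt = (f ta' * f tb' * f ta') * (f ta * f tb * f ta) := by
    rw [← map_mul, ← map_mul, ← map_mul, ← map_mul, ← map_mul]
    congr 1
  have com : ∀ k : N₀, (k : G)⁻¹ * (t * k * t⁻¹) ∈ centralizer (L : Set G) → f tt * f k = f k * f tt := by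
    intro k hk
    have h1 : f k = f (tt * k * tt⁻¹) := (hf _ _).2 hk
    rw [map_mul, map_mul, map_inv, eq_mul_inv_iff_mul_eq] at h1
    exact h1.symm
  have ca : f tt * f ta = f ta * f tt := com ta (cR ha)
  have cb : f tt * f tb = f tb * f tt := com tb (cA hb)
  set W := f ta * f tb * f ta with hW
  set W' := f ta' * f tb' * f ta' with hW'
  have hWW : W * W = 1 := by
    calc W * W = f ta * f tb * (f ta * f ta) * f tb * f ta := by rw [hW]; group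
      _ = f ta * (f tb * f tb) * f ta := by rw [fa]; group
      _ = 1 := by rw [fb, mul_one, fa]
  have hWW' : W' * W' = 1 := by
    calc W' * W' = f ta' * f tb' * (f ta' * f ta') * f tb' * f ta' := by rw [hW']; group
      _ = f ta' * (f tb' * f tb') * f ta' := by rw [fa']; group
      _ = 1 := by rw [fb', mul_one, fa']
  have cW : f tt * W = W * f tt := by
    have h1 : Commute (f tt) (f ta) := ca
    have h2 : Commute (f tt) (f tb) := cb
    exact ((h1.mul_right h2).mul_right h1).eq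
  have h1 : W' = W * W' * W := by
    have h2 : W' * W * W = W * (W' * W) := by rw [← ft]; exact cW
    rwa [mul_assoc, hWW, mul_one, ← mul_assoc] at h2
  have htt : f tt * f tt = 1 := by
    rw [ft]
    calc W' * W * (W' * W) = W' * (W * W' * W) := by group
      _ = 1 := by rw [← h1, hWW']
  have ht2 : t * t ∈ centralizer (L : Set G) := by
    rw [← map_mul, hf1] at htt
    exact htt
  -- a fixed element of `R`
  obtain ⟨z₀, hz₀, hz₀1, hz₀t⟩ : ∃ z₀ ∈ R, z₀ ≠ 1 ∧ t * z₀ * t⁻¹ = z₀ := by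
    have hzt : t * z * t⁻¹ ∈ R := by
      have := conj_mem_cj (g := t) hz
      rwa [htR] at this
    have e1 : t * (t * z * t⁻¹) * t⁻¹ = z := by
      have := conj_of_centralizer ht2 (hRL hz)
      rw [← this]
      nth_rewrite 2 [← this]
      group
    have hcom := h.ws_comm hR (h.pt_le_ws hR hz) (h.pt_le_ws hR hzt)
    by_cases e2 : z * (t * z * t⁻¹) = 1
    · refine ⟨z, hz, hz1, ?_⟩
      have e3 := h.pt_sq hR hz
      rw [← e3] at e2
      exact mul_left_cancel e2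
    · refine ⟨z * (t * z * t⁻¹), mul_mem hz hzt, e2, ?_⟩
      calc t * (z * (t * z * t⁻¹)) * t⁻¹ = (t * z * t⁻¹) * (t * (t * z * t⁻¹) * t⁻¹) := by group
        _ = z * (t * z * t⁻¹) := by rw [e1, ← hcom]
  have hxR : x ∉ R := fun e => hx1 (h.pt_inf hA hR hne hx e)
  obtain ⟨a₀, ha₀, ha₀x⟩ := h.K_act hR hL hRL (hAL hx) hxR hz₀
  have h2 := cR ha₀
  have e1 : a₀ * x' * a₀⁻¹ * x'⁻¹ = z₀ := by
    have e2 : t * a₀ * t⁻¹ = a₀ * (a₀⁻¹ * (t * a₀ * t⁻¹)) := by group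
    have e3 : (t * a₀ * t⁻¹) * x' * (t * a₀ * t⁻¹)⁻¹ = a₀ * x' * a₀⁻¹ := by
      rw [e2]
      calc a₀ * (a₀⁻¹ * (t * a₀ * t⁻¹)) * x' * (a₀ * (a₀⁻¹ * (t * a₀ * t⁻¹)))⁻¹
          = a₀ * ((a₀⁻¹ * (t * a₀ * t⁻¹)) * x' * (a₀⁻¹ * (t * a₀ * t⁻¹))⁻¹) * a₀⁻¹ := by group
        _ = a₀ * x' * a₀⁻¹ := by rw [conj_of_centralizer h2 (hAL hx')]
    rw [← e3, ← htx]
    calc (t * a₀ * t⁻¹) * (t * x * t⁻¹) * (t * a₀ * t⁻¹)⁻¹ * (t * x * t⁻¹)⁻¹
        = t * (a₀ * x * a₀⁻¹ * x⁻¹) * t⁻¹ := by group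
      _ = z₀ := by rw [ha₀x, hz₀t]
  have h3 : x⁻¹ * x' ∈ A := mul_mem (inv_mem hx) hx'
  have h4 : x⁻¹ * x' ∉ R := fun e => hxx' (inv_mul_eq_one.1 (h.pt_inf hA hR hne h3 e)).symm
  have h5 : a₀ ∈ centralizer (L : Set G) := by
    refine cent_line_of h hR hL hRL (kx_le_cent ha₀) (hAL h3) h4 ?_
    rw [mul_inv_eq_iff_eq_mul] at ha₀x e1
    have e4 : a₀ * (x⁻¹ * x') * a₀⁻¹ = x⁻¹ * x' := by
      calc a₀ * (x⁻¹ * x') * a₀⁻¹ = (a₀ * x * a₀⁻¹)⁻¹ * (a₀ * x' * a₀⁻¹) := by group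
        _ = x⁻¹ * x' := by rw [ha₀x, e1]; group
    rwa [mul_inv_eq_iff_eq_mul] at e4
  rw [conj_of_centralizer h5 (hAL hx), mul_inv_cancel] at ha₀x
  exact hz₀1 ha₀x.symm

end

end Cfsg.Agent.Omega.NO3S.MidB.No
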