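import Cfsg.Agent.Omega.NO3S.MidB.No.Defs
import Cfsg.Agent.Omega.NO3S.OneS.TwoFlag
import Cfsg.Agent.Omega.NO3S.FarQ.Real

/-!
# NO-3S, natural lines, critical distance 2: THEOREM INN, the realisation of `N_G(Z)` on `W_Z / Z`

`RN V Z ρ π` : `ρ : N_G(Z) → H`, `π : W_Z → M`, `M = W_Z / Z`, `H = N_G(Z) / {g : [g, W_Z] ≤ Z}`;
`RN.mp K ≤ M`, `RN.mr K ≤ H` are the images of `K`.
-/

set_option autoImplicit false
set_option linter.unusedSectionVars false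

namespace Cfsg.Agent.Omega.NO3S.MidB.No

open Subgroup Cfsg.Agent.Omega.NO3S.PT Cfsg.Agent.Omega.NoFF.Basic Cfsg.Agent.ZN
open Cfsg.Agent.Omega.NO3S.MidQ (Adj Com Cr UU ws_of kx_of isCj_iff adj_iff com_iff cr_iff)
open Cfsg.Agent.Omega.NO3S.OneS (IsBB)
open scoped Pointwise

universe u

variable {G : Type u} [Group G]

/-- the realisation of `N_G(Z)` on `W_Z / Z` -/
structure RN (V Z : Subgroup G) {H M : Type*} [Group H] [CommGroup M] [MulDistribMulAction H M] (ρ : G → H)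
    (π : G → M) : Prop where
  mulρ : ∀ a ∈ normalizer (Z : Set G), ∀ b ∈ normalizer (Z : Set G), ρ (a * b) = ρ a * ρ b
  surjρ : ∀ x, ∃ a ∈ normalizer (Z : Set G), ρ a = x
  kerρ : ∀ a ∈ normalizer (Z : Set G), (ρ a = 1 ↔ ∀ w ∈ ws V Z, a * w * a⁻¹ * w⁻¹ ∈ Z)
  mulπ : ∀ a ∈ ws V Z, ∀ b ∈ ws V Z, π (a * b) = π a * π b
  surjπ : ∀ m, ∃ a ∈ ws V Z, π a = m
  kerπ : ∀ a ∈ ws V Z, (π a = 1 ↔ a ∈ Z)
  act : ∀ g ∈ normalizer (Z : Set G), ∀ w ∈ ws V Z, π (g * w * g⁻¹) = ρ g • π w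
  le : Z ≤ ws V Z
  com : ws V Z ≤ centralizer ((ws V Z : Subgroup G) : Set G)

/-- **existence** -/
theorem exists_rn {V Z : Subgroup G} (h1 : Z ≤ ws V Z) (h2 : ws V Z ≤ centralizer ((ws V Z : Subgroup G) : Set G)) :
    ∃ (H M : Type u) (_ : Group H) (_ : CommGroup M) (_ : MulDistribMulAction H M) (ρ : G → H) (π : G → M),
      RN V Z ρ π := by
  obtain ⟨H, M, i1, i2, i3, ρ, π, a1, a2, a3, a4, a5, a6, a7⟩ :=
    FarQ.exists_mod (C := normalizer (Z : Set G)) (W := ws V Z) (R := Z)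
      (fun c hc w hw => (mem_normalizer_iff.1 (normalizer_le_ws V Z hc) w).1 hw)
      (fun c hc w hw => (mem_normalizer_iff.1 hc w).1 hw)
      (fun a ha b hb => (mem_centralizer_iff.1 (h2 ha) b hb).symm)
  exact ⟨H, M, i1, i2, i3, ρ, π, a1, a2, a3, a4, a5, a6, a7, h1, h2⟩

namespace RN

variable {V Z : Subgroup G} {H M : Type*} [Group H] [CommGroup M] [MulDistribMulAction H M] {ρ : G → H} {π : G → M}
variable (r : RN V Z ρ π)
include r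

theorem conj_ws {g w : G} (hg : g ∈ normalizer (Z : Set G)) (hw : w ∈ ws V Z) : g * w * g⁻¹ ∈ ws V Z :=
  (mem_normalizer_iff.1 (normalizer_le_ws V Z hg) w).1 hw

theorem one_ρ : ρ 1 = 1 := by
  have h1 := r.mulρ 1 (one_mem _) 1 (one_mem _)
  rw [mul_one] at h1
  exact left_eq_mul.1 h1

theorem inv_ρ {a : G} (ha : a ∈ normalizer (Z : Set G)) : ρ a⁻¹ = (ρ a)⁻¹ := by
  have h1 := r.mulρ a ha a⁻¹ (inv_mem ha)
  rw [mul_inv_cancel, r.one_ρ] at h1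
  exact (inv_eq_of_mul_eq_one_right h1.symm).symm

theorem pow_ρ {a : G} (ha : a ∈ normalizer (Z : Set G)) (n : ℕ) : ρ (a ^ n) = (ρ a) ^ n := by
  induction n with
  | zero => rw [pow_zero, pow_zero, r.one_ρ]
  | succ n ih => rw [pow_succ, pow_succ, r.mulρ _ (pow_mem ha n) _ ha, ih]

theorem one_π : π 1 = 1 := by
  have h1 := r.mulπ 1 (one_mem _) 1 (one_mem _)
  rw [mul_one] at h1
  exact left_eq_mul.1 h1

theorem inv_π {a : G} (ha : a ∈ ws V Z) : π a⁻¹ = (π a)⁻¹ := by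
  have h1 := r.mulπ a ha a⁻¹ (inv_mem ha)
  rw [mul_inv_cancel, r.one_π] at h1
  exact (inv_eq_of_mul_eq_one_right h1.symm).symm

/-- the homomorphism `N_G(Z) → H` -/
def rh : normalizer (Z : Set G) →* H where
  toFun a := ρ a
  map_one' := r.one_ρ
  map_mul' a b := r.mulρ a a.2 b b.2

theorem rh_apply (a : normalizer (Z : Set G)) : r.rh a = ρ a := rfl

theorem rh_surj : Function.Surjective r.rh := by
  intro x
  obtain ⟨a, ha, e⟩ := r.surjρ x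
  exact ⟨⟨a, ha⟩, e⟩

/-- the homomorphism `W_Z → M` -/
def ph : ws V Z →* M where
  toFun a := π a
  map_one' := r.one_π
  map_mul' a b := r.mulπ a a.2 b b.2

theorem ph_apply (a : ws V Z) : r.ph a = π a := rfl

theorem ph_surj : Function.Surjective r.ph := by
  intro x
  obtain ⟨a, ha, e⟩ := r.surjπ x
  exact ⟨⟨a, ha⟩, e⟩

/-- the image of `K` in `M` -/
def mp (K : Subgroup G) : Subgroup M := (K.subgroupOf (ws V Z)).map r.ph

/-- the image of `K` in `H` -/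
def mr (K : Subgroup G) : Subgroup H := (K.subgroupOf (normalizer (Z : Set G))).map r.rh

theorem mem_mp {K : Subgroup G} {m : M} : m ∈ r.mp K ↔ ∃ a ∈ K, a ∈ ws V Z ∧ π a = m := by
  constructor
  · rintro ⟨a, ha, e⟩
    exact ⟨a, mem_subgroupOf.1 ha, a.2, e⟩
  · rintro ⟨a, ha, ha', e⟩
    exact ⟨⟨a, ha'⟩, mem_subgroupOf.2 ha, e⟩

theorem mem_mr {K : Subgroup G} {x : H} : x ∈ r.mr K ↔ ∃ a ∈ K, a ∈ normalizer (Z : Set G) ∧ ρ a = x := by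
  constructor
  · rintro ⟨a, ha, e⟩
    exact ⟨a, mem_subgroupOf.1 ha, a.2, e⟩
  · rintro ⟨a, ha, ha', e⟩
    exact ⟨⟨a, ha'⟩, mem_subgroupOf.2 ha, e⟩

theorem mp_mem {K : Subgroup G} {a : G} (ha : a ∈ K) (ha' : a ∈ ws V Z) : π a ∈ r.mp K := r.mem_mp.2 ⟨a, ha, ha', rfl⟩

theorem mr_mem {K : Subgroup G} {a : G} (ha : a ∈ K) (ha' : a ∈ normalizer (Z : Set G)) : ρ a ∈ r.mr K :=
  r.mem_mr.2 ⟨a, ha, ha', rfl⟩

/-- `π a = π b` -/
theorem π_eq {a b : G} (ha : a ∈ ws V Z) (hb : b ∈ ws V Z) : π a = π b ↔ a * b⁻¹ ∈ Z := by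
  rw [← r.kerπ _ (mul_mem ha (inv_mem hb)), r.mulπ _ ha _ (inv_mem hb), r.inv_π hb, mul_inv_eq_one]

theorem mp_mem_iff {K : Subgroup G} (hK : Z ≤ K) {a : G} (ha' : a ∈ ws V Z) : π a ∈ r.mp K ↔ a ∈ K := by
  refine ⟨fun h1 => ?_, fun h1 => r.mp_mem h1 ha'⟩
  obtain ⟨b, hb, hb', e⟩ := r.mem_mp.1 h1
  have h2 := (r.π_eq ha' hb').1 e.symm
  have h3 : a = a * b⁻¹ * b := by group
  rw [h3]
  exact mul_mem (hK h2) hb

theorem mp_le_iff {K K' : Subgroup G} (hK' : Z ≤ K') (hK : K ≤ ws V Z) : r.mp K ≤ r.mp K' ↔ K ≤ K' := by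
  constructor
  · intro h1 a ha
    exact (r.mp_mem_iff hK' (hK ha)).1 (h1 (r.mp_mem ha (hK ha)))
  · intro h1 m hm
    obtain ⟨a, ha, ha', rfl⟩ := r.mem_mp.1 hm
    exact r.mp_mem (h1 ha) ha'

theorem mp_inj {K K' : Subgroup G} (hK : Z ≤ K) (hK' : Z ≤ K') (h1 : K ≤ ws V Z) (h2 : K' ≤ ws V Z) :
    r.mp K = r.mp K' ↔ K = K' :=
  ⟨fun e => le_antisymm ((r.mp_le_iff hK' h1).1 e.le) ((r.mp_le_iff hK h2).1 e.ge), fun e => e ▸ rfl⟩

theorem smul_mp {g : G} (hg : g ∈ normalizer (Z : Set G)) (K : Subgroup G) : ρ g • r.mp K = r.mp (cj g K) := by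
  have key : ∀ {g : G} (_ : g ∈ normalizer (Z : Set G)) (K : Subgroup G), ρ g • r.mp K ≤ r.mp (cj g K) := by
    intro g hg K
    rintro _ ⟨m, hm, rfl⟩
    obtain ⟨a, ha, ha', rfl⟩ := r.mem_mp.1 hm
    change ρ g • π a ∈ _
    rw [← r.act g hg a ha']
    exact r.mp_mem (conj_mem_cj ha) (r.conj_ws hg ha')
  refine le_antisymm (key hg K) ?_
  have h1 := key (inv_mem hg) (cj g K)
  rw [cj_cj, inv_mul_cancel, cj_one, r.inv_ρ hg] at h1
  rwa [Subgroup.pointwise_smul_subset_iff, inv_inv] at h1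

theorem card_mp [Finite G] {K : Subgroup G} (hK : Z ≤ K) (h1 : K ≤ ws V Z) :
    Nat.card (r.mp K) * Nat.card Z = Nat.card K := by
  have h2 := Subgroup.card_mul_index (r.ph.ker.subgroupOf (K.subgroupOf (ws V Z)))
  have e1 : Nat.card (K.subgroupOf (ws V Z)) = Nat.card K := Nat.card_congr (Subgroup.subgroupOfEquivOfLe h1).toEquiv
  have e2 : (r.ph.ker.subgroupOf (K.subgroupOf (ws V Z))).index = Nat.card (r.mp K) := by
    rw [mp, ← Subgroup.relIndex, Subgroup.relIndex_ker]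
  have e3 : Nat.card (r.ph.ker.subgroupOf (K.subgroupOf (ws V Z))) = Nat.card Z := by
    refine Nat.card_congr ⟨fun x => ⟨((x : K.subgroupOf (ws V Z)) : ws V Z), ?_⟩,
      fun x => ⟨⟨⟨x, r.le x.2⟩, mem_subgroupOf.2 (hK x.2)⟩, ?_⟩, fun x => rfl, fun x => rfl⟩
    · exact (r.kerπ _ ((x : K.subgroupOf (ws V Z)) : ws V Z).2).1 (MonoidHom.mem_ker.1 (mem_subgroupOf.1 x.2))
    · exact mem_subgroupOf.2 (MonoidHom.mem_ker.2 ((r.kerπ _ (r.le x.2)).2 x.2))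
  rw [e1, e2, e3, mul_comm] at h2
  exact h2

theorem card_M [Finite G] : Nat.card M * Nat.card Z = Nat.card (ws V Z) := by
  have h1 := r.card_mp r.le le_rfl
  have h2 : r.mp (ws V Z) = ⊤ := by
    rw [eq_top_iff]
    intro m _
    obtain ⟨a, ha, rfl⟩ := r.surjπ m
    exact r.mp_mem ha ha
  rwa [h2, Nat.card_congr Subgroup.topEquiv.toEquiv] at h1

theorem finite_M [Finite G] : Finite M := Finite.of_surjective _ r.ph_surj

theorem finite_H [Finite G] : Finite H := Finite.of_surjective _ r.rh_surj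

/-- `[g, w]` -/
theorem π_comm {g w : G} (hg : g ∈ normalizer (Z : Set G)) (hw : w ∈ ws V Z) (sq : ∀ m : M, m * m = 1) :
    ρ g • π w * π w = π (g * w * g⁻¹ * w⁻¹) := by
  have h1 : π w⁻¹ = π w := by
    rw [r.inv_π hw]
    exact inv_eq_of_mul_eq_one_right (sq _)
  rw [r.mulπ _ (r.conj_ws hg hw) _ (inv_mem hw), r.act g hg w hw, h1]

theorem fix_iff {g w : G} (hg : g ∈ normalizer (Z : Set G)) (hw : w ∈ ws V Z) :
    ρ g • π w = π w ↔ g * w * g⁻¹ * w⁻¹ ∈ Z := by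
  rw [← r.act g hg w hw, r.π_eq (r.conj_ws hg hw) hw]

/-- `C_H(U) ∩ C_H(M/U)` -/
theorem isBB_iff {g : G} (hg : g ∈ normalizer (Z : Set G)) {U : Subgroup G} (hU : Z ≤ U) (hUW : U ≤ ws V Z)
    (sq : ∀ m : M, m * m = 1) :
    IsBB (r.mp U) (ρ g) ↔ (∀ u ∈ U, g * u * g⁻¹ * u⁻¹ ∈ Z) ∧ ∀ w ∈ ws V Z, g * w * g⁻¹ * w⁻¹ ∈ U := by
  constructor
  · rintro ⟨h1, h2⟩
    refine ⟨fun u hu => ?_, fun w hw => ?_⟩
    · exact (r.fix_iff hg (hUW hu)).1 (h1 _ (r.mp_mem hu (hUW hu)))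
    · have h3 := h2 (π w)
      rw [r.π_comm hg hw sq] at h3
      exact (r.mp_mem_iff hU (mul_mem (r.conj_ws hg hw) (inv_mem hw))).1 h3
  · rintro ⟨h1, h2⟩
    refine ⟨fun m hm => ?_, fun m => ?_⟩
    · obtain ⟨a, ha, ha', rfl⟩ := r.mem_mp.1 hm
      exact (r.fix_iff hg ha').2 (h1 a ha)
    · obtain ⟨w, hw, rfl⟩ := r.surjπ m
      rw [r.π_comm hg hw sq]
      exact r.mp_mem (h2 w hw) (mul_mem (r.conj_ws hg hw) (inv_mem hw))

theorem faith (x : H) (hx : ∀ m : M, x • m = m) : x = 1 := by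
  obtain ⟨g, hg, rfl⟩ := r.surjρ x
  exact (r.kerρ g hg).2 fun w hw => (r.fix_iff hg hw).1 (hx _)

theorem ρ_one_of_kx {k : G} (hk : k ∈ kx V Z) : ρ k = 1 :=
  (r.kerρ k (centralizer_le_normalizer _ (kx_le_cent hk))).2 (mem_kx.1 hk).2

end RN

end Cfsg.Agent.Omega.NO3S.MidB.No
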