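import Cfsg.Agent.Omega.NO3S.MidB.No.InnG1

/-!
# NO-3S, natural lines, critical distance 2: THEOREM INN, the frame `Fr` at the base flag
-/

set_option autoImplicit false
set_option linter.unusedSectionVars false

namespace Cfsg.Agent.Omega.NO3S.MidB.No

open Subgroup Cfsg.Agent.Omega.NO3S.PT Cfsg.Agent.Omega.NoFF.Basic Cfsg.Agent.ZN
open Cfsg.Agent.Omega.NO3S.MidQ (Adj Com Cr UU ws_of kx_of isCj_iff adj_iff com_iff cr_iff)
open Cfsg.Agent.Omega.NO3S.OneS (IsBB)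
open scoped Pointwise

universe u

variable {G : Type u} [Group G]

namespace InnG

variable [Finite G] {S : Sylow 2 G} {P V Z : Subgroup G} (h : Mid S P V Z)
include h

theorem le_ws_base : V ≤ ws V Z := h.pl.V_le_ws h.pl.ZV

/-- `I_L` -/
theorem IV_eq {L R : Subgroup G} (hL : IsCj V L) (hZL : Z ≤ L) (hR : IsCj Z R) (hRL : R ≤ L) (hne : R ≠ Z) :
    IV L Z = ws V Z ⊓ ws V R := by
  obtain ⟨T, Q, h'⟩ := h.flag h.pl.isCj_self hL hZL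
  have h1 := h'.pl.IV_eq h'.hf h'.pl.isCj_self hZL hR hRL hne.symm
  rw [ws_of hL, ws_of hL] at h1
  exact h1.symm

theorem IV_le' {L Y : Subgroup G} (hL : IsCj V L) (hY : IsCj Z Y) (hYL : Y ≤ L) : IV L Z ≤ ws V Y := by
  have h1 := IV_le hY hYL (V := L)
  rwa [ws_of hL] at h1

theorem line_le_IV {L : Subgroup G} (hL : IsCj V L) (hZL : Z ≤ L) : L ≤ IV L Z := by
  obtain ⟨T, Q, h'⟩ := h.flag h.pl.isCj_self hL hZL
  exact h'.pl.V_le_IV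

theorem cj_IV {g : G} (hg : g ∈ normalizer (Z : Set G)) : cj g (IV V Z) = IV (cj g V) Z := by
  have h1 := PB.Geom.IV_conj h.pl h.hf g
  rw [cj_eq_iff.2 hg] at h1
  exact h1.symm

theorem card_IV {g : G} (hg : g ∈ normalizer (Z : Set G)) : Nat.card (IV (cj g V) Z) = Nat.card (IV V Z) := by
  rw [← cj_IV h hg, card_cj]

/-- two lines on `Z` meet in `Z` -/
theorem lines_inf {X L N : Subgroup G} (hX : IsCj Z X) (hL : IsCj V L) (hN : IsCj V N) (hXL : X ≤ L) (hXN : X ≤ N)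
    (hne : L ≠ N) {u : G} (hu : u ∈ L) (hu' : u ∈ N) : u ∈ X := by
  by_contra huX
  have hu1 : u ≠ 1 := fun e => huX (e ▸ one_mem _)
  obtain ⟨A, hA, hAL, huA⟩ := h.exists_point hL hu hu1
  obtain ⟨B, hB, hBN, huB⟩ := h.exists_point hN hu' hu1
  have h1 : A = B := h.pts_eq hA hB huA huB hu1
  subst h1
  exact hne (h.line_unique hX hA (fun e => huX (e ▸ huA)) hL hN hXL hAL hXN hBN)

/-- the line on `Z` is a conjugate of `V` under `N_G(Z)` -/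
theorem exists_norm {L : Subgroup G} (hL : IsCj V L) (hZL : Z ≤ L) : ∃ g ∈ normalizer (Z : Set G), L = cj g V := by
  obtain ⟨g, h1, h2⟩ := h.exists_conj₂ h.pl.isCj_self ⟨1, (cj_one V).symm⟩ h.pl.ZV h.pl.isCj_self hL hZL
  exact ⟨g, cj_eq_iff.1 h1.symm, h2⟩

/-- a point which touches `I_L` outside `L` and is collinear with a point of `L` is collinear with all points of `L` -/
theorem touch {L A B C D Y : Subgroup G} (hL : IsCj V L) (hA : IsCj Z A) (hB : IsCj Z B) (hAL : A ≤ L) (hBL : B ≤ L)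
    (hne : A ≠ B) (hC : IsCj Z C) (hD : IsCj Z D) (hCL : C ≤ L) (hDL : D ≤ L) {u : G} (hu : u ∈ ws V A)
    (hu' : u ∈ ws V B) (huL : u ∉ L) (huY : u ∈ Y) (hY : Adj V Z Y C) : Adj V Z Y D := by
  obtain ⟨x, -, hxu, hxC, -, -, -⟩ := h.F2_swap hL hA hB hAL hBL hne hC hD hCL hDL hu hu' huL
  have h1 : cj x Y = Y := h.fix_of_comm hY.left huY (fun e => huL (e ▸ one_mem _)) hxu
  have h2 := hY.cj x
  rwa [h1, hxC] at h2

/-- (COLL), first part -/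
theorem far_adj {L Y R : Subgroup G} (hL : IsCj V L) (hZL : Z ≤ L) (hne : L ≠ V) (hY : IsCj Z Y) (hYL : Y ≤ L) {a : G}
    (haY : a ∈ Y) (ha : a ∈ IV V Z) (haZ : a ∉ Z) (hR : IsCj Z R) (hRV : R ≤ V) : Adj V Z Y R := by
  have hV : IsCj V V := ⟨1, (cj_one V).symm⟩
  obtain ⟨T, hT, hTV, hTZ⟩ := h.exists_second h.pl.isCj_self hV h.pl.ZV
  have hYZ : Y ≠ Z := fun e => haZ (e ▸ haY)
  refine touch h hV h.pl.isCj_self hT h.pl.ZV hTV hTZ.symm h.pl.isCj_self hR h.pl.ZV hRV (u := a)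
    (h.pl.IV_le_ws ha) (IV_le hT hTV ha) (fun e => haZ (lines_inf h h.pl.isCj_self hL hV hZL h.pl.ZV hne (hYL haY) e))
    haY ⟨hY, h.pl.isCj_self, hYZ, L, hL, hYL, hZL⟩

/-- (COLL) -/
theorem coll_geo {L : Subgroup G} (hL : IsCj V L) (hZL : Z ≤ L) (hne : L ≠ V) {a : G} (haL : a ∈ L) (ha : a ∈ IV V Z)
    (haZ : a ∉ Z) {y v : G} (hy : y ∈ L) (hv : v ∈ V) : ∃ N, IsCj V N ∧ Z ≤ N ∧ y * v ∈ N := by
  have hV : IsCj V V := ⟨1, (cj_one V).symm⟩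
  have hZ := h.pl.isCj_self
  by_cases hvZ : v ∈ Z
  · exact ⟨L, hL, hZL, mul_mem hy (hZL hvZ)⟩
  obtain ⟨Y, hY, hYL, haY⟩ := h.exists_point hL haL (fun e => haZ (e ▸ one_mem _))
  have hYZ : Y ≠ Z := fun e => haZ (e ▸ haY)
  obtain ⟨z, hz, y', hy', rfl⟩ := h.line_eq hZ hY hYZ.symm hL hZL hYL hy
  by_cases hy1 : y' = 1
  · subst hy1
    rw [mul_one]
    exact ⟨V, hV, h.pl.ZV, mul_mem (h.pl.ZV hz) hv⟩
  obtain ⟨R, hR, hRV, hvR⟩ := h.exists_point hV hv (fun e => hvZ (e ▸ one_mem _))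
  have hRZ : R ≠ Z := fun e => hvZ (e ▸ hvR)
  have h1 : Adj V Z Y R := far_adj h hL hZL hne hY hYL haY ha haZ hR hRV
  obtain ⟨N, hN, hYN, hRN⟩ := h1.line
  have h2 : y' * v ∈ N := mul_mem (hYN hy') (hRN hvR)
  have h3 : y' * v ≠ 1 := by
    intro e
    have e1 : y' = v⁻¹ := eq_inv_of_mul_eq_one_left e
    exact hy1 (h.pt_inf hY hR h1.ne hy' (e1 ▸ inv_mem hvR))
  obtain ⟨E, hE, hEN, hE'⟩ := h.exists_point hN h2 h3
  obtain ⟨z₀, hz₀, hz₀1⟩ := h.pt_ne_bot hZ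
  have hZY : Adj V Z Z Y := ⟨hZ, hY, hYZ.symm, L, hL, hZL, hYL⟩
  have hZR : Adj V Z Z R := ⟨hZ, hR, hRZ.symm, V, hV, h.pl.ZV, hRV⟩
  have h4 : z₀ ∉ N := by
    intro e
    obtain ⟨Q, hQ, hQN, hzQ⟩ := h.exists_point hN e hz₀1
    have h5 : Q = Z := h.pts_eq hQ hZ hzQ hz₀ hz₀1
    subst h5
    have h6 : N = L := h.line_unique hQ hY hYZ.symm hN hL hQN hYN hZL hYL
    have h7 : N = V := h.line_unique hQ hR hRZ.symm hN hV hQN hRN h.pl.ZV hRV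
    exact hne (h6.symm.trans h7)
  have h5 : Adj V Z Z E := touch h hN hY hR hYN hRN h1.ne hY hE hYN hEN (h.adj_le_ws hZY.symm hz₀)
    (h.adj_le_ws hZR.symm hz₀) h4 hz₀ hZY
  obtain ⟨N', hN', hZN', hEN'⟩ := h5.line
  refine ⟨N', hN', hZN', ?_⟩
  rw [mul_assoc]
  exact mul_mem (hZN' hz) (hEN' hE')

/-- (SYM) -/
theorem sym_geo {L : Subgroup G} (hL : IsCj V L) (hZL : Z ≤ L) (hne : L ≠ V) {a : G} (haL : a ∈ L) (ha : a ∈ IV V Z)
    (haZ : a ∉ Z) : V ≤ IV L Z := by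
  have hV : IsCj V V := ⟨1, (cj_one V).symm⟩
  have hZ := h.pl.isCj_self
  obtain ⟨Y, hY, hYL, haY⟩ := h.exists_point hL haL (fun e => haZ (e ▸ one_mem _))
  have hYZ : Y ≠ Z := fun e => haZ (e ▸ haY)
  obtain ⟨R, hR, hRV, hRZ⟩ := h.exists_second hZ hV h.pl.ZV
  have h1 : Adj V Z Y R := far_adj h hL hZL hne hY hYL haY ha haZ hR hRV
  rw [IV_eq h hL hZL hY hYL hYZ]
  refine le_inf (le_ws_base h) ?_
  exact h.line_le_of hZ hR hRZ.symm hV h.pl.ZV hRV (h.adj_le_ws ⟨hY, hZ, hYZ, L, hL, hYL, hZL⟩) (h.adj_le_ws h1)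

end InnG

end Cfsg.Agent.Omega.NO3S.MidB.No
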