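import Cfsg.Agent.Omega.NO3S.MidB.No.InnG2

/-!
# NO-3S, natural lines, critical distance 2: THEOREM INN, the frame `Fr` at the base flag
-/

set_option autoImplicit false
set_option linter.unusedSectionVars false

namespace Cfsg.Agent.Omega.NO3S.MidB.No

open Subgroup Cfsg.Agent.Omega.NO3S.PT Cfsg.Agent.Omega.NoFF.Basic Cfsg.Agent.ZN
open Cfsg.Agent.Omega.NO3S.MidQ (Adj Com Cr UU ws_of kx_of isCj_iff adj_iff com_iff cr_iff)
open Cfsg.Agent.Omega.NO3S.OneS (IsBB Fr Lam mem_sup' ne_bot_iff')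
open Cfsg.Agent.ClassTwoFusion.Quad (cv)
open Cfsg.Agent.Omega.NOThree.NoOver (fo)
open scoped Pointwise

universe u

variable {G : Type u} [Group G]

namespace InnG

variable [Finite G] {S : Sylow 2 G} {P V Z : Subgroup G} (h : Mid S P V Z)
variable {H M : Type*} [Group H] [CommGroup M] [MulDistribMulAction H M] {ρ : G → H} {π : G → M} (r : RN V Z ρ π)
include h r

theorem sq (m : M) : m * m = 1 := by
  obtain ⟨w, hw, rfl⟩ := r.surjπ m
  rw [← r.mulπ w hw w hw, h.ws_sq h.pl.isCj_self hw, r.one_π]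

theorem bb_sq {U : Subgroup M} {b : H} (hb : IsBB U b) : b * b = 1 := by
  apply r.faith
  intro m
  have h1 := hb.1 _ (hb.2 m)
  rw [smul_mul', ← mul_smul] at h1
  have h2 : (b * b) • m = (b • m * m) * b • m := by
    rw [← h1, mul_assoc, sq h r, mul_one]
  rw [h2, mul_comm (b • m) m, mul_assoc, sq h r, mul_one]

theorem Z_le_IV : Z ≤ IV V Z := h.pl.ZV.trans h.pl.V_le_IV

theorem bb_iff {g : G} (hg : g ∈ normalizer (Z : Set G)) : IsBB (r.mp (IV V Z)) (ρ g) ↔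
    (∀ u ∈ IV V Z, g * u * g⁻¹ * u⁻¹ ∈ Z) ∧ ∀ w ∈ ws V Z, g * w * g⁻¹ * w⁻¹ ∈ IV V Z :=
  r.isBB_iff hg (Z_le_IV h r) h.pl.IV_le_ws (sq h r)

/-- every element of `C_H(U) ∩ C_H(M/U)` is induced by a 2-element of `C_G(V)` -/
theorem lift {b : H} (hb : IsBB (r.mp (IV V Z)) b) : ∃ t ∈ centralizer (V : Set G), TwoEl t ∧ ρ t = b := by
  obtain ⟨s, hs, rfl⟩ := r.surjρ b
  have hZ := h.pl.isCj_self
  have hV : IsCj V V := ⟨1, (cj_one V).symm⟩
  have hbb := bb_sq h r hb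
  have hpow : ∀ g ∈ normalizer (Z : Set G), ρ g = ρ s → ∀ m : ℕ, Odd m → ρ (g ^ m) = ρ s := by
    rintro g hg e m ⟨j, rfl⟩
    rw [r.pow_ρ hg, e, pow_succ, pow_mul, pow_two, hbb, one_pow, one_mul]
  obtain ⟨m, hm, hsm⟩ := exists_odd_pow s
  set s' := s ^ m with hs'
  have hsN : s' ∈ normalizer (Z : Set G) := pow_mem hs m
  have e1 : ρ s' = ρ s := hpow s hs rfl m hm
  have h1 := (bb_iff h r hsN).1 (by rw [e1]; exact hb)
  obtain ⟨Y, hY, hYV, hYZ⟩ := h.exists_second hZ hV h.pl.ZV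
  have hsV : cj s' V = V := by
    obtain ⟨v, hv, hvZ⟩ := h.pl.exists_out
    refine h.stab hZ hV h.pl.ZV hsN hv hvZ ?_
    have h2 := h1.1 v (h.pl.V_le_IV hv)
    have e2 : s' * v * s'⁻¹ = s' * v * s'⁻¹ * v⁻¹ * v := by group
    rw [e2]
    exact mul_mem (h.pl.ZV h2) hv
  have h2 : cj s' Y ≤ V := by rw [← hsV]; exact cj_le_cj.2 hYV
  have h3 : cj s' Y ≠ Z := by
    intro e
    rw [← cj_eq_iff.2 hsN] at e
    exact hYZ (cj_inj.1 e)
  obtain ⟨k, hk, hkY⟩ := h.K_trans hZ hV h.pl.ZV (hY.cj s') h2 hY hYV h3 hYZ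
  have hkN : k ∈ normalizer (Z : Set G) := centralizer_le_normalizer _ (kx_le_cent hk)
  set t := k * s' with ht
  have htN : t ∈ normalizer (Z : Set G) := mul_mem hkN hsN
  have e2 : ρ t = ρ s := by rw [ht, r.mulρ k hkN s' hsN, r.ρ_one_of_kx hk, one_mul, e1]
  have htY : cj t Y = Y := by rw [ht, ← cj_cj, hkY]
  have h4 := (bb_iff h r htN).1 (by rw [e2]; exact hb)
  have h5 : ∀ y ∈ Y, t * y = y * t := by
    intro y hy
    have h6 : t * y * t⁻¹ * y⁻¹ ∈ Y := by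
      refine mul_mem ?_ (inv_mem hy)
      have := conj_mem_cj (g := t) hy
      rwa [htY] at this
    have h7 := h.pt_inf hY hZ hYZ h6 (h4.1 y (h.pl.V_le_IV (hYV hy)))
    rwa [mul_inv_eq_one, mul_inv_eq_iff_eq_mul] at h7
  obtain ⟨m', hm', htm⟩ := exists_odd_pow t
  have h6 : ∀ y ∈ Y, t ^ m' * y = y * t ^ m' := fun y hy => (Commute.pow_left (show Commute t y from h5 y hy) m').eq
  have h7 := h.t3n ⟨hY, hZ, hYZ, V, hV, hYV, h.pl.ZV⟩ htm h6 (cj_eq_iff.2 (pow_mem htN m'))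
  refine ⟨t ^ m', ?_, htm, hpow t htN e2 m' hm'⟩
  rw [mem_centralizer_iff]
  intro v hv
  obtain ⟨z, hz, y, hy, rfl⟩ := h.line_eq hZ hY hYZ.symm hV h.pl.ZV hYV hv
  rw [mul_assoc, ← h6 y hy, ← mul_assoc, ← h7 z hz, mul_assoc]

theorem mp_line_mem {g : G} (hg : g ∈ normalizer (Z : Set G)) {w : G} (hw : w ∈ ws V Z) :
    π w ∈ ρ g • r.mp V ↔ w ∈ cj g V := by
  rw [r.smul_mp hg]
  refine r.mp_mem_iff ?_ hw
  rw [← cj_eq_iff.2 hg]
  exact cj_le_cj.2 h.pl.ZV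

theorem Z_le_cj {g : G} (hg : g ∈ normalizer (Z : Set G)) {K : Subgroup G} (hK : Z ≤ K) : Z ≤ cj g K := by
  nth_rewrite 1 [← cj_eq_iff.2 hg]
  exact cj_le_cj.2 hK

theorem cj_le_ws {g : G} (hg : g ∈ normalizer (Z : Set G)) {K : Subgroup G} (hK : K ≤ ws V Z) : cj g K ≤ ws V Z := by
  rw [← cj_eq_iff.2 (normalizer_le_ws V Z hg)]
  exact cj_le_cj.2 hK

theorem V_le_ws : V ≤ ws V Z := h.pl.V_le_ws h.pl.ZV

theorem smul_eq_iff {g : G} (hg : g ∈ normalizer (Z : Set G)) : ρ g • r.mp V = r.mp V ↔ cj g V = V := by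
  rw [r.smul_mp hg]
  exact r.mp_inj (Z_le_cj h r hg h.pl.ZV) h.pl.ZV (cj_le_ws h r hg (V_le_ws h r)) (V_le_ws h r)

/-- `v ∈ g • lam` nontrivial -/
theorem exists_of_inf {g : G} (hg : g ∈ normalizer (Z : Set G)) {K : Subgroup G} (hK : Z ≤ K)
    (hne : ρ g • r.mp V ⊓ r.mp K ≠ ⊥) : ∃ a ∈ cj g V, a ∈ K ∧ a ∉ Z := by
  obtain ⟨x, ⟨hx, hx'⟩, hx1⟩ := ne_bot_iff'.1 hne
  obtain ⟨a, ha, rfl⟩ := r.surjπ x
  exact ⟨a, (mp_line_mem h r hg ha).1 hx, (r.mp_mem_iff hK ha).1 hx', fun e => hx1 ((r.kerπ a ha).2 e)⟩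

theorem card_lam : Nat.card (r.mp V) = Nat.card Z := by
  have h1 := r.card_mp h.pl.ZV (V_le_ws h r)
  rw [h.pl.card] at h1
  exact Nat.eq_of_mul_eq_mul_right Nat.card_pos h1

/-- (NO) -/
theorem no_of (hNO : NOg V Z) (X : Subgroup H) (hX : ∀ x ∈ X, IsBB (r.mp (IV V Z)) x) : fo M X ≤ Nat.card M := by
  have hZ := h.pl.isCj_self
  have hV : IsCj V V := ⟨1, (cj_one V).symm⟩
  have hCN : centralizer (V : Set G) ≤ normalizer (Z : Set G) :=
    (centralizer_le h.pl.ZV).trans (centralizer_le_normalizer _)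
  -- `N`
  let N : Subgroup G :=
    { carrier := {g | g ∈ centralizer (V : Set G) ∧ (∀ u ∈ IV V Z, g * u * g⁻¹ * u⁻¹ ∈ Z) ∧
        ∀ w ∈ ws V Z, g * w * g⁻¹ * w⁻¹ ∈ IV V Z}
      one_mem' := ⟨one_mem _, fun u _ => by simp, fun w _ => by simp⟩
      mul_mem' := by
        rintro a b ⟨ha, ha'⟩ ⟨hb, hb'⟩
        refine ⟨mul_mem ha hb, ?_⟩
        rw [← bb_iff h r (hCN (mul_mem ha hb)), r.mulρ a (hCN ha) b (hCN hb)]
        exact (OneS.bb H (sq h r) (r.mp (IV V Z))).mul_mem ((bb_iff h r (hCN ha)).2 ha') ((bb_iff h r (hCN hb)).2 hb')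
      inv_mem' := by
        rintro a ⟨ha, ha'⟩
        refine ⟨inv_mem ha, ?_⟩
        rw [← bb_iff h r (hCN (inv_mem ha)), r.inv_ρ (hCN ha)]
        exact (OneS.bb H (sq h r) (r.mp (IV V Z))).inv_mem ((bb_iff h r (hCN ha)).2 ha') }
  have hN : ∀ g, g ∈ N ↔ g ∈ centralizer (V : Set G) ∧ IsBB (r.mp (IV V Z)) (ρ g) := by
    intro g
    constructor
    · rintro ⟨h1, h2⟩
      exact ⟨h1, (bb_iff h r (hCN h1)).2 h2⟩
    · rintro ⟨h1, h2⟩
      exact ⟨h1, (bb_iff h r (hCN h1)).1 h2⟩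
  let D : Subgroup G :=
    { carrier := {g | g ∈ centralizer (V : Set G) ∧ ρ g ∈ X}
      one_mem' := ⟨one_mem _, by rw [r.one_ρ]; exact one_mem _⟩
      mul_mem' := by
        rintro a b ⟨ha, ha'⟩ ⟨hb, hb'⟩
        refine ⟨mul_mem ha hb, ?_⟩
        rw [r.mulρ a (hCN ha) b (hCN hb)]
        exact mul_mem ha' hb'
      inv_mem' := by
        rintro a ⟨ha, ha'⟩
        refine ⟨inv_mem ha, ?_⟩
        rw [r.inv_ρ (hCN ha)]
        exact inv_mem ha' }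
  have hD : ∀ g, g ∈ D ↔ g ∈ centralizer (V : Set G) ∧ ρ g ∈ X := fun g => Iff.rfl
  let C : Subgroup G :=
    { carrier := {u | u ∈ ws V Z ∧ ∀ d ∈ D, d * u * d⁻¹ * u⁻¹ ∈ Z}
      one_mem' := ⟨one_mem _, fun d _ => by simp⟩
      mul_mem' := by
        rintro a b ⟨ha, ha'⟩ ⟨hb, hb'⟩
        refine ⟨mul_mem ha hb, fun d hd => ?_⟩
        rw [← r.fix_iff (hCN hd.1) (mul_mem ha hb), r.mulπ a ha b hb, smul_mul',
          (r.fix_iff (hCN hd.1) ha).2 (ha' d hd), (r.fix_iff (hCN hd.1) hb).2 (hb' d hd)]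
      inv_mem' := by
        rintro a ⟨ha, ha'⟩
        refine ⟨inv_mem ha, fun d hd => ?_⟩
        rw [← r.fix_iff (hCN hd.1) (inv_mem ha), r.inv_π ha, smul_inv', (r.fix_iff (hCN hd.1) ha).2 (ha' d hd)] }
  have hker : ∀ g ∈ centralizer (V : Set G), ρ g = 1 ↔ g ∈ kx V Z := by
    intro g hg
    constructor
    · intro e
      exact mem_kx.2 ⟨fun z hz => (mem_centralizer_iff.1 hg z (h.pl.ZV hz)).symm, (r.kerρ g (hCN hg)).1 e⟩
    · exact fun e => r.ρ_one_of_kx e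
  have key := hNO Z V N D C hZ hV h.pl.ZV (fun g hg => hg.1) ?_ ?_ ?_ ?_ (fun u => Iff.rfl)
  · -- cardinalities
    have e1 : (kx V Z).relIndex D = Nat.card X := by
      let f : D →* X :=
        { toFun := fun d => ⟨ρ d, d.2.2⟩
          map_one' := Subtype.ext r.one_ρ
          map_mul' := fun a b => Subtype.ext (r.mulρ a (hCN a.2.1) b (hCN b.2.1)) }
      have hf : Function.Surjective f := by
        rintro ⟨x, hx⟩
        obtain ⟨t, ht, -, e⟩ := lift h r (hX x hx)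
        exact ⟨⟨t, ht, by rw [e]; exact hx⟩, Subtype.ext e⟩
      have hk : f.ker = (kx V Z).subgroupOf D := by
        ext d
        rw [MonoidHom.mem_ker, mem_subgroupOf, ← hker d d.2.1]
        exact Subtype.ext_iff
      rw [Subgroup.relIndex, ← hk, Subgroup.index_ker, MonoidHom.range_eq_top.2 hf]
      exact Nat.card_congr Subgroup.topEquiv.toEquiv
    have hZC : Z ≤ C := fun z hz => ⟨r.le hz, fun d hd => by
      rw [← mem_centralizer_iff.1 hd.1 z (h.pl.ZV hz), mul_inv_cancel_right, mul_inv_cancel]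
      exact one_mem _⟩
    have e2 : r.mp C = cv M (X : Set H) := by
      ext m
      constructor
      · intro hm
        obtain ⟨a, ha, ha', rfl⟩ := r.mem_mp.1 hm
        intro x hx
        obtain ⟨t, ht, -, rfl⟩ := lift h r (hX x hx)
        exact (r.fix_iff (hCN ht) ha').2 (ha.2 t ⟨ht, hx⟩)
      · intro hm
        obtain ⟨a, ha, rfl⟩ := r.surjπ m
        exact r.mp_mem ⟨ha, fun d hd => (r.fix_iff (hCN hd.1) ha).1 (hm _ hd.2)⟩ ha
    have e3 := r.card_mp hZC (fun u hu => hu.1)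
    rw [e1, ← e3, e2, ← r.card_M] at key
    refine Nat.le_of_mul_le_mul_right (c := Nat.card Z) ?_ Nat.card_pos
    unfold fo
    rw [mul_assoc]
    exact key
  · intro c hc
    have hcV : cj c V = V := cj_eq_iff.2 (centralizer_le_normalizer _ hc)
    have hcU : cj c (IV V Z) = IV V Z := cj_eq_iff.2 (normalizer_le_IV V Z (centralizer_le_normalizer _ hc))
    have h1 : ∀ c ∈ centralizer (V : Set G), ∀ g ∈ N, c * g * c⁻¹ ∈ N := by
      intro c hc g hg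
      obtain ⟨h1, h2⟩ := (hN g).1 hg
      have hcU : cj c (IV V Z) = IV V Z := cj_eq_iff.2 (normalizer_le_IV V Z (centralizer_le_normalizer _ hc))
      refine (hN _).2 ⟨mul_mem (mul_mem hc h1) (inv_mem hc), ?_⟩
      rw [r.mulρ _ (hCN (mul_mem hc h1)) _ (hCN (inv_mem hc)), r.mulρ _ (hCN hc) _ (hCN h1), r.inv_ρ (hCN hc)]
      have h3 := OneS.isBB_conj (ρ c) h2
      rwa [r.smul_mp (hCN hc), hcU] at h3
    rw [mem_normalizer_iff]
    intro g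
    refine ⟨h1 c hc g, fun hg => ?_⟩
    have h2 := h1 c⁻¹ (inv_mem hc) _ hg
    have e : c⁻¹ * (c * g * c⁻¹) * c⁻¹⁻¹ = g := by group
    rwa [e] at h2
  · intro g hg
    obtain ⟨h1, h2⟩ := (hN g).1 hg
    refine ⟨1, ?_⟩
    rw [← hker _ (pow_mem h1 _), r.pow_ρ (hCN h1), pow_one, pow_two]
    exact bb_sq h r h2
  · intro g hg
    exact (hN g).2 ⟨hg.1, hX _ hg.2⟩
  · intro g hg
    rw [← hker _ (mul_mem hg.1 hg.1), r.mulρ _ (hCN hg.1) _ (hCN hg.1)]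
    exact bb_sq h r (hX _ hg.2)

/-- **the frame** -/
theorem fr (hNO : NOg V Z) (hq : 4 ≤ Nat.card Z) : Fr H (r.mp V) (r.mp (IV V Z)) where
  sq := sq h r
  faith := r.faith
  le := (r.mp_le_iff (Z_le_IV h r) (V_le_ws h r)).2 h.pl.V_le_IV
  stab x hx := by
    obtain ⟨g, hg, rfl⟩ := r.surjρ x
    have h1 := (smul_eq_iff h r hg).1 hx
    rw [r.smul_mp hg, cj_eq_iff.2 (normalizer_le_IV V Z (cj_eq_iff.1 h1))]
  ti x hx := by
    obtain ⟨g, hg, rfl⟩ := r.surjρ x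
    obtain ⟨a, ha, ha', haZ⟩ := exists_of_inf h r hg h.pl.ZV hx
    rw [smul_eq_iff h r hg]
    by_contra hne
    exact haZ (lines_inf h h.pl.isCj_self ⟨g, rfl⟩ ⟨1, (cj_one V).symm⟩ (Z_le_cj h r hg h.pl.ZV) h.pl.ZV hne ha ha')
  coll x hx hx' v hv hv1 := by
    obtain ⟨g, hg, rfl⟩ := r.surjρ x
    obtain ⟨a, ha, ha', haZ⟩ := exists_of_inf h r hg (Z_le_IV h r) hx'
    have hne : cj g V ≠ V := fun e => hx ((smul_eq_iff h r hg).2 e)
    have hZg := Z_le_cj h r hg h.pl.ZV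
    obtain ⟨p, hp, q, hq', rfl⟩ := (mem_sup' (sq h r)).1 hv
    rw [r.smul_mp hg] at hp
    obtain ⟨y, hy, hy', rfl⟩ := r.mem_mp.1 hp
    obtain ⟨w, hw, hw', rfl⟩ := r.mem_mp.1 hq'
    obtain ⟨N, hN, hZN, hyw⟩ := coll_geo h ⟨g, rfl⟩ hZg hne ha ha' haZ hy hw
    obtain ⟨k, hk, rfl⟩ := exists_norm h hN hZN
    refine ⟨hv1, ρ k, ?_⟩
    rw [← r.mulπ y hy' w hw', mp_line_mem h r hk (mul_mem hy' hw')]
    exact hyw
  two b hb x hx v hv := by
    obtain ⟨g, hg, rfl⟩ := r.surjρ x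
    obtain ⟨t, ht, -, rfl⟩ := lift h r hb
    have htZ : t ∈ centralizer (Z : Set G) := centralizer_le h.pl.ZV ht
    have htN : t ∈ normalizer (Z : Set G) := centralizer_le_normalizer _ htZ
    have hZg := Z_le_cj h r hg h.pl.ZV
    obtain ⟨hb1, hb2⟩ := (bb_iff h r htN).1 hb
    have h1 : cj t (cj g V) = cj g V := by
      rw [r.smul_mp hg, r.smul_mp htN] at hx
      exact (r.mp_inj (Z_le_cj h r htN hZg) hZg (cj_le_ws h r htN (cj_le_ws h r hg (V_le_ws h r)))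
        (cj_le_ws h r hg (V_le_ws h r))).1 hx
    rw [r.smul_mp hg] at hv
    obtain ⟨w, hw, hw', rfl⟩ := r.mem_mp.1 hv
    rw [r.fix_iff htN hw']
    -- a fixed vector
    obtain ⟨Y, hY, hYL, hYZ⟩ := h.exists_second h.pl.isCj_self (L := cj g V) ⟨g, rfl⟩ hZg
    obtain ⟨y, hy, hy1⟩ := h.pt_ne_bot hY
    have hyZ : y ∉ Z := fun e => hy1 (h.pt_inf hY h.pl.isCj_self hYZ hy e)
    have hyW : y ∈ ws V Z := cj_le_ws h r hg (V_le_ws h r) (hYL hy)
    have h2 : t * y * t⁻¹ * y⁻¹ ∈ cj g V := by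
      refine mul_mem ?_ (inv_mem (hYL hy))
      have := conj_mem_cj (g := t) (hYL hy)
      rwa [h1] at this
    by_cases h3 : t * y * t⁻¹ * y⁻¹ ∈ Z
    · exact h.lin h.pl.isCj_self ⟨g, rfl⟩ hZg htZ (hYL hy) hyZ h3 w hw
    · exact h.lin h.pl.isCj_self ⟨g, rfl⟩ hZg htZ h2 h3 (hb1 _ (hb2 y hyW)) w hw
  no := no_of h r hNO
  four := by rw [card_lam h r]; exact hq

end InnG

end Cfsg.Agent.Omega.NO3S.MidB.No
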