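import Cfsg.Agent.Omega.NO3S.MidB.No.InnG3
import Cfsg.Agent.Involutions.BaerSuzuki

/-!
# NO-3S, natural lines, critical distance 2: THEOREM INN, the frame `OneS.Inn` of an inner pair
-/

set_option autoImplicit false
set_option linter.unusedSectionVars false

namespace Cfsg.Agent.Omega.NO3S.MidB.No

open Subgroup Cfsg.Agent.Omega.NO3S.PT Cfsg.Agent.Omega.NoFF.Basic Cfsg.Agent.ZN
open Cfsg.Agent.Omega.NO3S.MidQ (Adj Com Cr UU ws_of kx_of isCj_iff adj_iff com_iff cr_iff)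
open Cfsg.Agent.Omega.NO3S.OneS (IsBB Fr Lam mem_sup' ne_bot_iff' TorAct br br_le)
open Cfsg.Agent.ClassTwoFusion.Quad (cv)
open Cfsg.Agent.Omega.NOThree.NoOver (fo)
open scoped Pointwise

universe u

variable {G : Type u} [Group G]

namespace InnG

variable [Finite G] {S : Sylow 2 G} {P V Z : Subgroup G} (h : Mid S P V Z)

section

include h

theorem isCj_V : IsCj V V := ⟨1, (cj_one V).symm⟩

/-- an element of `⟨K_X : X ≤ V⟩` interchanges `z ∈ Z` and `x ∈ X` -/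
theorem exists_swap {X : Subgroup G} (hX : IsCj Z X) (hXV : X ≤ V) (hXZ : X ≠ Z) {z x : G} (hz : z ∈ Z) (hz1 : z ≠ 1)
    (hx : x ∈ X) (hx1 : x ≠ 1) :
    ∃ n ∈ XV V Z, n * z * n⁻¹ = x ∧ n * x * n⁻¹ = z ∧ cj n Z = X ∧ cj n X = Z := by
  have hZ := h.pl.isCj_self
  have hV := isCj_V h
  have hxZ : x ∉ Z := fun e => hx1 (h.pt_inf hX hZ hXZ hx e)
  have hzX : z ∉ X := fun e => hz1 (h.pt_inf hX hZ hXZ e hz)
  obtain ⟨a, ha, ha'⟩ := h.K_act hZ hV h.pl.ZV (hXV hx) hxZ hz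
  obtain ⟨b, hb, hb'⟩ := h.K_act hX hV hXV (h.pl.ZV hz) hzX hx
  have haz : a * z * a⁻¹ = z := by rw [(mem_kx.1 ha).1 z hz, mul_inv_cancel_right]
  have hbx : b * x * b⁻¹ = x := by rw [(mem_kx.1 hb).1 x hx, mul_inv_cancel_right]
  have hax : a * x * a⁻¹ = z * x := by rw [mul_inv_eq_iff_eq_mul] at ha'; exact ha'
  have hbz : b * z * b⁻¹ = x * z := by rw [mul_inv_eq_iff_eq_mul] at hb'; exact hb'
  have hzz : z * z = 1 := h.pt_sq hZ hz
  have hxx : x * x = 1 := h.pt_sq hX hx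
  have hzx : z * x = x * z := h.pl.Vcomm (h.pl.ZV hz) (hXV hx)
  have e1 : (a * b * a) * z * (a * b * a)⁻¹ = x := by
    calc (a * b * a) * z * (a * b * a)⁻¹ = a * (b * (a * z * a⁻¹) * b⁻¹) * a⁻¹ := by group
      _ = a * (x * z) * a⁻¹ := by rw [haz, hbz]
      _ = (a * x * a⁻¹) * (a * z * a⁻¹) := by group
      _ = x := by rw [hax, haz, hzx, mul_assoc, hzz, mul_one]
  have e2 : (a * b * a) * x * (a * b * a)⁻¹ = z := by
    calc (a * b * a) * x * (a * b * a)⁻¹ = a * (b * (a * x * a⁻¹) * b⁻¹) * a⁻¹ := by group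
      _ = a * ((b * z * b⁻¹) * (b * x * b⁻¹)) * a⁻¹ := by rw [hax]; group
      _ = a * z * a⁻¹ := by rw [hbz, hbx, ← hzx, mul_assoc z x x, hxx, mul_one]
      _ = z := haz
  refine ⟨a * b * a, mul_mem (mul_mem (le_XV hZ h.pl.ZV ha) (le_XV hX hXV hb)) (le_XV hZ h.pl.ZV ha), e1, e2, ?_, ?_⟩
  · refine h.pts_eq (hZ.cj _) hX (z := x) ?_ hx hx1
    rw [← e1]
    exact conj_mem_cj hz
  · refine h.pts_eq (hX.cj _) hZ (z := z) ?_ hz hz1
    rw [← e2]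
    exact conj_mem_cj hx

end

variable {H M : Type*} [Group H] [CommGroup M] [MulDistribMulAction H M] {ρ : G → H} {π : G → M} (r : RN V Z ρ π)
include h r

/-- the torus -/
theorem tor_act : TorAct H (r.mp V) (r.mp (IV V Z)) where
  tor m hm hm1 m' hm' hm'1 := by
    have hZ := h.pl.isCj_self
    have hV := isCj_V h
    obtain ⟨X, hX, hXV, hXZ⟩ := h.exists_second hZ hV h.pl.ZV
    have key : ∀ m ∈ r.mp V, m ≠ 1 → ∃ x ∈ X, x ≠ 1 ∧ π x = m := by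
      intro m hm hm1
      obtain ⟨v, hv, hv', rfl⟩ := r.mem_mp.1 hm
      obtain ⟨z, hz, x, hx, rfl⟩ := h.line_eq hZ hX hXZ.symm hV h.pl.ZV hXV hv
      have e : π (z * x) = π x := by
        rw [r.mulπ z (r.le hz) x (V_le_ws h r (hXV hx)), (r.kerπ z (r.le hz)).2 hz, one_mul]
      refine ⟨x, hx, fun e1 => hm1 ?_, e.symm⟩
      rw [e, e1, r.one_π]
    obtain ⟨x, hx, hx1, rfl⟩ := key m hm hm1
    obtain ⟨x', hx', hx'1, rfl⟩ := key m' hm' hm'1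
    obtain ⟨z, hz, hz1⟩ := h.pt_ne_bot hZ
    obtain ⟨n, hn, hnz, hnx, hnZ, hnX⟩ := exists_swap h hX hXV hXZ hz hz1 hx hx1
    obtain ⟨n', hn', hnz', hnx', hnZ', hnX'⟩ := exists_swap h hX hXV hXZ hz hz1 hx' hx'1
    have htX : n' * n ∈ XV V Z := mul_mem hn' hn
    have htN : n' * n ∈ normalizer (Z : Set G) := by
      rw [← cj_eq_iff, ← cj_cj, hnZ, hnX']
    have e : (n' * n) * x * (n' * n)⁻¹ = x' := by
      calc (n' * n) * x * (n' * n)⁻¹ = n' * (n * x * n⁻¹) * n'⁻¹ := by group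
        _ = x' := by rw [hnx, hnz']
    refine ⟨ρ (n' * n), ?_, ?_, ?_⟩
    · rw [smul_eq_iff h r htN]
      exact cj_eq_iff.2 (h.pl.XV_le_N htX)
    · intro u hu
      obtain ⟨w, hw, hw', rfl⟩ := r.mem_mp.1 hu
      rw [r.π_comm htN hw' (sq h r)]
      exact r.mp_mem (h.pl.XV_act htX hw) (mul_mem (r.conj_ws htN hw') (inv_mem hw'))
    · rw [← r.act _ htN x (V_le_ws h r (hXV hx)), e]
  act u hu hu' := by
    obtain ⟨w, hw, hw', rfl⟩ := r.mem_mp.1 hu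
    have hwV : w ∉ V := fun e => hu' (r.mp_mem e hw')
    obtain ⟨v, hv, hvZ⟩ := h.pl.exists_out
    obtain ⟨c, hc, hcV, hcw⟩ := h.pl.F2 h.hf h.hO hw hwV hv
    have hcN : c ∈ normalizer (Z : Set G) := centralizer_le_normalizer _ (centralizer_le h.pl.ZV hcV)
    refine ⟨ρ c, fun m hm => ?_, fun m hm => ?_, fun e => hvZ ?_⟩
    · obtain ⟨a, ha, ha', rfl⟩ := r.mem_mp.1 hm
      rw [← r.act c hcN a ha', ← mem_centralizer_iff.1 hcV a ha, mul_inv_cancel_right]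
    · obtain ⟨a, ha, ha', rfl⟩ := r.mem_mp.1 hm
      rw [r.π_comm hcN ha' (sq h r)]
      exact r.mp_mem (h.pl.XV_act hc ha) (mul_mem (r.conj_ws hcN ha') (inv_mem ha'))
    · rw [← hcw]
      exact (r.fix_iff hcN hw').1 e

/-- (SYM) -/
theorem sym_of (x : H) (hx : x • r.mp V ≠ r.mp V) (hx' : x • r.mp V ⊓ r.mp (IV V Z) ≠ ⊥) :
    r.mp V ≤ x • r.mp (IV V Z) := by
  obtain ⟨g, hg, rfl⟩ := r.surjρ x
  obtain ⟨a, ha, ha', haZ⟩ := exists_of_inf h r hg (Z_le_IV h r) hx'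
  have hne : cj g V ≠ V := fun e => hx ((smul_eq_iff h r hg).2 e)
  have hZg := Z_le_cj h r hg h.pl.ZV
  rw [r.smul_mp hg, cj_IV h hg, r.mp_le_iff (hZg.trans (line_le_IV h ⟨g, rfl⟩ hZg)) (V_le_ws h r)]
  exact sym_geo h ⟨g, rfl⟩ hZg hne ha ha' haZ

/-- a 2-group acting on a 2-group -/
theorem fix_exists {N : Subgroup H} (hN : IsPGroup 2 N) (hlam : ∀ n ∈ N, n • r.mp V = r.mp V) :
    ∃ z ∈ r.mp V, z ≠ 1 ∧ ∀ n ∈ N, n • z = z := by
  have : Fact (Nat.Prime 2) := ⟨Nat.prime_two⟩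
  have := r.finite_M
  have := r.finite_H
  have hmem : ∀ n ∈ N, ∀ m ∈ r.mp V, n • m ∈ r.mp V := by
    intro n hn m hm
    have := smul_mem_pointwise_smul m n _ hm
    rwa [hlam n hn] at this
  let _ : MulAction N (r.mp V) :=
    { smul := fun s d => ⟨(s : H) • (d : M), hmem s s.2 d d.2⟩
      one_smul := fun d => Subtype.ext (one_smul H (d : M))
      mul_smul := fun s t d => Subtype.ext (mul_smul (s : H) (t : H) (d : M)) }
  have h2 : 2 ∣ Nat.card (r.mp V) := by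
    rw [card_lam h r]
    obtain ⟨n, hn⟩ := IsPGroup.iff_card.1 ((h.isPGroup_ws h.pl.isCj_self).to_le r.le)
    rw [hn]
    have h3 := h.pl.one_lt_card
    rw [hn] at h3
    have : n ≠ 0 := by
      rintro rfl
      rw [pow_zero] at h3
      exact lt_irrefl _ h3
    exact dvd_pow_self 2 this
  obtain ⟨d, hd, hd1⟩ := hN.exists_fixed_point_of_prime_dvd_card_of_fixed_point (r.mp V) h2 (a := 1) (by
    intro s
    exact Subtype.ext (smul_one (s : H)))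
  refine ⟨d, d.2, fun e => hd1 (Subtype.ext e.symm), fun n hn => ?_⟩
  have h3 : (⟨n, hn⟩ : N) • d = d := hd _
  exact congrArg Subtype.val h3

/-- `O₂(H) = 1` -/
theorem o2_bot (N : Subgroup H) [hNn : N.Normal] (hN : IsPGroup 2 N) : N = ⊥ := by
  have : Fact (Nat.Prime 2) := ⟨Nat.prime_two⟩
  have := r.finite_M
  have := r.finite_H
  have h1 : N ≤ ((S.subtype h.pl.SN).mapSurjective r.rh_surj : Sylow 2 H) := hN.le_sylow_of_normal _
  have h2 : ∀ n ∈ N, n • r.mp V = r.mp V := by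
    intro n hn
    obtain ⟨s, hs, e⟩ := h1 hn
    have hs' : (s : G) ∈ (S : Subgroup G) := mem_subgroupOf.1 hs
    have e' : ρ (s : G) = n := e
    rw [← e', smul_eq_iff h r s.2]
    exact cj_eq_iff.2 (h.pl.PN (h.pl.SP hs'))
  obtain ⟨z, hz, hz1, hfix⟩ := fix_exists h r hN h2
  -- conjugates
  have h3 : ∀ (x : H) (m : M), (∀ n ∈ N, n • m = m) → ∀ n ∈ N, n • x • m = x • m := by
    intro x m hm n hn
    have h4 := hm _ (hNn.conj_mem n hn x⁻¹)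
    rw [inv_inv, mul_smul, mul_smul] at h4
    rwa [inv_smul_eq_iff] at h4
  have h4 : ∀ z' ∈ r.mp V, ∀ n ∈ N, n • z' = z' := by
    intro z' hz' n hn
    by_cases h5 : z' = 1
    · rw [h5, smul_one]
    obtain ⟨t, -, -, rfl⟩ := (tor_act h r).tor z hz hz1 z' hz' h5
    exact h3 t z hfix n hn
  rw [eq_bot_iff]
  intro n hn
  rw [mem_bot]
  apply r.faith
  intro m
  obtain ⟨w, hw, rfl⟩ := r.surjπ m
  let E : Subgroup G :=
    { carrier := {w | w ∈ ws V Z ∧ n • π w = π w}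
      one_mem' := ⟨one_mem _, by rw [r.one_π, smul_one]⟩
      mul_mem' := by
        rintro a b ⟨ha, ha'⟩ ⟨hb, hb'⟩
        exact ⟨mul_mem ha hb, by rw [r.mulπ a ha b hb, smul_mul', ha', hb']⟩
      inv_mem' := by
        rintro a ⟨ha, ha'⟩
        exact ⟨inv_mem ha, by rw [r.inv_π ha, smul_inv', ha']⟩ }
  have hE : ws V Z ≤ E := by
    refine ws_le fun L hL hZL w hw => ⟨le_ws hL hZL hw, ?_⟩
    obtain ⟨g, hg, rfl⟩ := exists_norm h hL hZL
    have h5 : π w ∈ ρ g • r.mp V := (mp_line_mem h r hg (le_ws hL hZL hw)).2 hw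
    obtain ⟨m, hm, e⟩ := h5
    change ρ g • m = π w at e
    rw [← e]
    exact h3 _ _ (h4 m hm) n hn
  exact (hE hw).2

/-- Baer–Suzuki -/
theorem bs_of (f : H) (hf : f * f = 1) (hf1 : f ≠ 1) : ∃ x : H, x ≠ 1 ∧ Odd (orderOf x) ∧ f * x * f = x⁻¹ := by
  have := r.finite_H
  obtain ⟨x, hx1, hodd, hinv⟩ := Cfsg.Agent.Involutions.BaerSuzuki.exists_odd_inverted f hf (by
    intro h1
    have h2 := o2_bot h r _ h1
    have h3 : f ∈ (normalClosure {f} : Subgroup H) := subset_normalClosure (Set.mem_singleton f)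
    rw [h2, mem_bot] at h3
    exact hf1 h3)
  refine ⟨x, hx1, hodd, ?_⟩
  rw [inv_eq_of_mul_eq_one_left hf] at hinv
  exact hinv

/-! ### The inner pair -/

section

variable {R B L : Subgroup G} (hL : IsCj V L) (hZL : Z ≤ L) (hRL : R ≤ L) (hI : Inn V Z Z R B)
include hL hZL hRL hI

omit r hZL hRL hL in
theorem ws_le_cent_Z : ws V B ≤ centralizer (Z : Set G) := h.ws_le_cent hI.cr.r.symm hI.cr.l.symm

omit r hZL hRL hL in
theorem ws_le_norm_Z : ws V B ≤ normalizer (Z : Set G) := (ws_le_cent_Z h hI).trans (centralizer_le_normalizer _)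

omit r hZL hRL hL in
theorem comm_mem_K {a b : G} (ha : a ∈ ws V B) (hb : b ∈ ws V Z) :
    a * b * a⁻¹ * b⁻¹ ∈ ws V B ⊓ ws V R ⊓ ws V Z := by
  have h1 := h.comm_mem hI.cr.symm ha hb
  refine ⟨⟨h1.1, ?_⟩, h1.2⟩
  have h2 := inv_mem (hI.le b hb a ha)
  have e : (b * a * b⁻¹ * a⁻¹)⁻¹ = a * b * a⁻¹ * b⁻¹ := by group
  rwa [e] at h2

theorem hA_gen : ∀ a ∈ r.mr (ws V B), IsBB (r.mp (IV L Z)) a := by
  intro a ha
  obtain ⟨w, hw, hw', rfl⟩ := r.mem_mr.1 ha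
  have hRZ : R ≠ Z := hI.cr.l.ne.symm
  have e := IV_eq h hL hZL hI.cr.l.right hRL hRZ
  rw [r.isBB_iff hw' (hZL.trans (line_le_IV h hL hZL)) (by rw [e]; exact inf_le_left) (sq h r)]
  rw [e]
  refine ⟨fun u hu => ?_, fun u hu => ?_⟩
  · have h1 := mem_centralizer_iff.1 (h.com B R hI.cr.r.symm hw) u hu.2
    rw [← h1, mul_inv_cancel_right, mul_inv_cancel]
    exact one_mem _
  · have h1 := comm_mem_K h hI hw hu
    exact ⟨h1.2, h1.1.2⟩

theorem br_sup_le : (br (r.mr (ws V B)) ⊔ r.mp L : Subgroup M) ≤ r.mp (ws V B ⊓ ws V R ⊓ ws V Z) := by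
  refine sup_le (br_le fun a ha m => ?_) ?_
  · obtain ⟨w, hw, hw', rfl⟩ := r.mem_mr.1 ha
    obtain ⟨b, hb, rfl⟩ := r.surjπ m
    rw [r.π_comm hw' hb (sq h r)]
    exact r.mp_mem (comm_mem_K h hI hw hb) (comm_mem_K h hI hw hb).2
  · intro m hm
    obtain ⟨l, hl, hl', rfl⟩ := r.mem_mp.1 hm
    obtain ⟨z, hz, x, hx, rfl⟩ := h.line_eq h.pl.isCj_self hI.cr.l.right hI.cr.l.ne hL hZL hRL hl
    have hxW : x ∈ ws V Z := (hRL.trans (le_ws hL hZL)) hx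
    have e : π (z * x) = π x := by
      rw [r.mulπ z (r.le hz) x hxW, (r.kerπ z (r.le hz)).2 hz, one_mul]
    rw [e]
    exact r.mp_mem ⟨⟨h.adj_le_ws hI.cr.r.symm hx, h.pt_le_ws hI.cr.l.right hx⟩, hxW⟩ hxW

omit r in
/-- a point `E` with an element in `W_B ∩ W_R ∩ W_Z` is collinear with `R` and `B` -/
theorem adj_of {N E : Subgroup G} (hN : IsCj V N) (hZN : Z ≤ N) (hE : IsCj Z E) (hEN : E ≤ N) {e : G} (he : e ∈ E)
    (heZ : e ∉ Z) (he' : e ∈ ws V B ⊓ ws V R ⊓ ws V Z) (hER : E ≠ R) : Adj V Z E R ∧ Adj V Z E B := by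
  have hZ := h.pl.isCj_self
  have hEZ : E ≠ Z := fun e1 => heZ (e1 ▸ he)
  have he1 : e ≠ 1 := fun e1 => heZ (e1 ▸ one_mem _)
  have hc := hI.cr
  have h1 : Adj V Z E R := by
    by_cases hNL : N = L
    · subst hNL
      exact ⟨hE, hc.l.right, hER, N, hN, hEN, hRL⟩
    · exact touch h hL hZ hc.l.right hZL hRL hc.l.ne hZ hc.l.right hZL hRL he'.2 he'.1.2
        (fun e1 => heZ (lines_inf h hZ hL hN hZL hZN (fun e2 => hNL e2.symm) e1 (hEN he))) he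
        ⟨hE, hZ, hEZ, N, hN, hEN, hZN⟩
  refine ⟨h1, ?_⟩
  obtain ⟨M₀, hM₀, hRM, hBM⟩ := hc.r.line
  by_cases h2 : e ∈ M₀
  · obtain ⟨E', hE', hEM, heE⟩ := h.exists_point hM₀ h2 he1
    have h3 : E' = E := h.pts_eq hE' hE heE he he1
    subst h3
    exact ⟨hE, hc.r.right, fun e1 => he1 (h.star' hc (e1 ▸ he) he'.2), M₀, hM₀, hEM, hBM⟩
  · exact touch h hM₀ hc.r.right hc.r.left hBM hRM hc.r.ne.symm hc.r.left hc.r.right hRM hBM he'.1.1 he'.1.2 h2 he h1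

omit r in
theorem com_of {N E : Subgroup G} (hN : IsCj V N) (hZN : Z ≤ N) (hE : IsCj Z E) (hEN : E ≤ N) {e : G} (he : e ∈ E)
    (heZ : e ∉ Z) (he' : e ∈ ws V B ⊓ ws V R ⊓ ws V Z) : Com V B E := by
  by_cases hER : E = R
  · rw [hER]
    exact h.com B R hI.cr.r.symm
  · exact h.com B E (adj_of h hL hZL hRL hI hN hZN hE hEN he heZ he' hER).2.symm

/-- (***) -/
theorem cen_gen (v : M) (hv : v ∈ br (r.mr (ws V B)) ⊔ r.mp L) (hv1 : v ≠ 1) (x : H) (hx : v ∈ x • r.mp V) :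
    ∀ a ∈ r.mr (ws V B), ∀ u ∈ x • r.mp (IV V Z), a • u = u := by
  obtain ⟨g, hg, rfl⟩ := r.surjρ x
  obtain ⟨e, he, heW, rfl⟩ := r.mem_mp.1 (br_sup_le h r hL hZL hRL hI hv)
  have heZ : e ∉ Z := fun e1 => hv1 ((r.kerπ e heW).2 e1)
  have heN : e ∈ cj g V := (mp_line_mem h r hg heW).1 hx
  have hZN := Z_le_cj h r hg h.pl.ZV
  obtain ⟨E, hE, hEN, heE⟩ := h.exists_point (L := cj g V) ⟨g, rfl⟩ heN (fun e1 => heZ (e1 ▸ one_mem _))
  have hcom : Com V B E := com_of h hL hZL hRL hI (N := cj g V) ⟨g, rfl⟩ hZN hE hEN heE heZ he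
  intro a ha u hu
  obtain ⟨w, hw, hw', rfl⟩ := r.mem_mr.1 ha
  rw [r.smul_mp hg, cj_IV h hg] at hu
  obtain ⟨b, hb, hb', rfl⟩ := r.mem_mp.1 hu
  have hbE : b ∈ ws V E := IV_le' h ⟨g, rfl⟩ hE hEN hb
  have h1 := mem_centralizer_iff.1 (hcom hw) b hbE
  rw [r.fix_iff hw' hb', ← h1, mul_inv_cancel_right, mul_inv_cancel]
  exact one_mem _

end

/-- **the frame of an inner pair** -/
theorem inn_base (hNO : NOg V Z) (hq : 4 ≤ Nat.card Z) {R B : Subgroup G} (hRV : R ≤ V) (hI : Inn V Z Z R B) :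
    OneS.Inn H (r.mp V) (r.mp (IV V Z)) (r.mr (ws V B)) where
  F := fr h r hNO hq
  sym := sym_of h r
  bs := bs_of h r
  hA := hA_gen h r (isCj_V h) h.pl.ZV hRV hI
  cen v hv hv1 x hx := cen_gen h r (isCj_V h) h.pl.ZV hRV hI v hv hv1 x hx

end InnG

end Cfsg.Agent.Omega.NO3S.MidB.No
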