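import Cfsg.Agent.Omega.NO3S.MidB.No.InnG4

/-!
# NO-3S, natural lines, critical distance 2: THEOREM INN, `JJ`, exactness

* `InnG.exists_jj` : (F2') : a 2-group `J` inducing all `u ↦ u + φ(u)` on `I_V / Z`;
* `InnG.fo_eq`, `InnG.hex` : `|A| |C_M(A)| = |M|` for `A = W_B` mod its kernel.
-/

set_option autoImplicit false
set_option linter.unusedSectionVars false

namespace Cfsg.Agent.Omega.NO3S.MidB.No

open Subgroup Cfsg.Agent.Omega.NO3S.PT Cfsg.Agent.Omega.NoFF.Basic Cfsg.Agent.ZN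
open Cfsg.Agent.Omega.NO3S.MidQ (Adj Com Cr UU ws_of kx_of isCj_iff adj_iff com_iff cr_iff)
open Cfsg.Agent.Omega.NO3S.OneS (IsBB Fr Lam mem_sup' ne_bot_iff' TorAct br br_le JJ)
open Cfsg.Agent.ClassTwoFusion.Quad (cv)
open Cfsg.Agent.Omega.NOThree.NoOver (fo)
open scoped Pointwise

universe u

variable {G : Type u} [Group G]

/-- a Sylow 2-subgroup covers a 2-quotient -/
theorem exists_sylow_cover {H : Type*} [Group H] [Finite H] {J₀ K : Subgroup H}
    (hn : ∀ x ∈ J₀, ∀ k ∈ K, x * k * x⁻¹ ∈ K) (h2 : ∀ x ∈ J₀, x * x ∈ K) :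
    ∃ J ≤ J₀, IsPGroup 2 J ∧ ∀ x ∈ J₀, ∃ j ∈ J, ∃ k ∈ K, x = j * k := by
  have : Fact (Nat.Prime 2) := ⟨Nat.prime_two⟩
  have hnorm : (K.subgroupOf J₀).Normal := ⟨fun k hk x => mem_subgroupOf.2 (hn x x.2 k (mem_subgroupOf.1 hk))⟩
  let f : J₀ →* J₀ ⧸ K.subgroupOf J₀ := QuotientGroup.mk' _
  have hf : Function.Surjective f := QuotientGroup.mk'_surjective _
  have hq : IsPGroup 2 (J₀ ⧸ K.subgroupOf J₀) := by
    intro x
    obtain ⟨y, rfl⟩ := hf x
    refine ⟨1, ?_⟩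
    rw [pow_one, pow_two, ← map_mul]
    exact (QuotientGroup.eq_one_iff _).2 (mem_subgroupOf.2 (h2 y y.2))
  obtain ⟨T⟩ : Nonempty (Sylow 2 J₀) := inferInstance
  have h3 : (⊤ : Subgroup (J₀ ⧸ K.subgroupOf J₀)) = (T.mapSurjective hf : Sylow 2 _) :=
    (T.mapSurjective hf).is_maximal' (hq.to_subgroup ⊤) le_top
  refine ⟨(T : Subgroup J₀).map J₀.subtype, ?_, T.isPGroup'.map _, fun x hx => ?_⟩
  · rintro _ ⟨y, -, rfl⟩
    exact y.2
  · have h4 : f ⟨x, hx⟩ ∈ (T.mapSurjective hf : Subgroup _) := by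
      rw [← h3]
      exact mem_top _
    obtain ⟨j, hj, e⟩ := h4
    refine ⟨j, ⟨j, hj, rfl⟩, (j : H)⁻¹ * x, ?_, by group⟩
    exact mem_subgroupOf.1 (QuotientGroup.eq.1 e)

theorem NOg.of {V Z L X : Subgroup G} (hL : IsCj V L) (hX : IsCj Z X) (hNO : NOg V Z) : NOg L X := by
  intro Y N D E C hY hN hYN h1 h2 h3 h4 h5 h6
  rw [kx_of hL] at h3 h5 ⊢
  rw [ws_of hL] at h6 ⊢
  exact hNO Y N D E C ((isCj_iff hX).1 hY) ((isCj_iff hL).1 hN) hYN h1 h2 h3 h4 h5 h6

theorem Inn.of {V Z L X A R B : Subgroup G} (hL : IsCj V L) (hX : IsCj Z X) (hI : Inn V Z A R B) : Inn L X A R B := by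
  refine ⟨(cr_iff hL hX).2 hI.cr, ?_⟩
  rw [ws_of hL, ws_of hL, ws_of hL]
  exact hI.le

theorem Inn.symm {V Z A R B : Subgroup G} (hI : Inn V Z A R B) : Inn V Z B R A := by
  refine ⟨hI.cr.symm, fun b hb a ha => ?_⟩
  have h1 := inv_mem (hI.le a ha b hb)
  have e : (a * b * a⁻¹ * b⁻¹)⁻¹ = b * a * b⁻¹ * a⁻¹ := by group
  rwa [e] at h1

namespace InnG

variable [Finite G] {S : Sylow 2 G} {P V Z : Subgroup G} (h : Mid S P V Z)

section

include h

/-- `|I_L|` -/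
theorem card_inf {X Y : Subgroup G} (hXY : Adj V Z X Y) :
    Nat.card (ws V X ⊓ ws V Y : Subgroup G) = Nat.card (IV V Z) := by
  obtain ⟨hX, hY, hne, L, hL, hXL, hYL⟩ := hXY
  rw [PB.Geom.inf_eq h.pl h.hf hL hX hXL hY hYL hne]
  obtain ⟨g, rfl, rfl⟩ := h.exists_conj hX hL hXL
  rw [PB.Geom.IV_conj h.pl h.hf g, card_cj]

end

variable {H M : Type*} [Group H] [CommGroup M] [MulDistribMulAction H M] {ρ : G → H} {π : G → M} (r : RN V Z ρ π)

section

include h r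

/-- **(F2')** -/
theorem exists_jj : ∃ J : Subgroup H, JJ J (r.mp V) (r.mp (IV V Z)) := by
  have := r.finite_H
  set J₀ : Subgroup H := r.mr (XV V Z ⊓ centralizer (V : Set G)) with hJ₀
  have hCN : centralizer (V : Set G) ≤ normalizer (Z : Set G) :=
    (centralizer_le h.pl.ZV).trans (centralizer_le_normalizer _)
  have hlamU : r.mp V ≤ r.mp (IV V Z) := (r.mp_le_iff (Z_le_IV h r) (V_le_ws h r)).2 h.pl.V_le_IV
  have fx : ∀ k ∈ J₀, ∀ z ∈ r.mp V, k • z = z := by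
    intro k hk m hm
    obtain ⟨c, hc, hcN, rfl⟩ := r.mem_mr.1 hk
    obtain ⟨a, ha, ha', rfl⟩ := r.mem_mp.1 hm
    rw [← r.act c hcN a ha', ← mem_centralizer_iff.1 hc.2 a ha, mul_inv_cancel_right]
  have cl : ∀ k ∈ J₀, ∀ u ∈ r.mp (IV V Z), k • u * u ∈ r.mp V := by
    intro k hk m hm
    obtain ⟨c, hc, hcN, rfl⟩ := r.mem_mr.1 hk
    obtain ⟨a, ha, ha', rfl⟩ := r.mem_mp.1 hm
    rw [r.π_comm hcN ha' (sq h r)]
    exact r.mp_mem (h.pl.XV_act hc.1 ha) (mul_mem (r.conj_ws hcN ha') (inv_mem ha'))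
  have on : ∀ u ∈ r.mp (IV V Z), u ∉ r.mp V → ∀ z ∈ r.mp V, ∃ k ∈ J₀, k • u = u * z := by
    intro u hu hu' z hz
    obtain ⟨w, hw, hw', rfl⟩ := r.mem_mp.1 hu
    obtain ⟨v, hv, hv', rfl⟩ := r.mem_mp.1 hz
    have hwV : w ∉ V := fun e => hu' (r.mp_mem e hw')
    obtain ⟨c, hc, hcV, hcw⟩ := h.pl.F2 h.hf h.hO hw hwV hv
    refine ⟨ρ c, r.mr_mem ⟨hc, hcV⟩ (hCN hcV), ?_⟩
    have e : c * w * c⁻¹ = v * w := by rw [← hcw]; group
    rw [← r.act c (hCN hcV) w hw', e, r.mulπ v hv' w hw', mul_comm]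
  let K : Subgroup H :=
    { carrier := {k | k ∈ J₀ ∧ ∀ u ∈ r.mp (IV V Z), k • u = u}
      one_mem' := ⟨one_mem _, fun u _ => one_smul _ _⟩
      mul_mem' := by
        rintro a b ⟨ha, ha'⟩ ⟨hb, hb'⟩
        exact ⟨mul_mem ha hb, fun u hu => by rw [mul_smul, hb' u hu, ha' u hu]⟩
      inv_mem' := by
        rintro a ⟨ha, ha'⟩
        exact ⟨inv_mem ha, fun u hu => by rw [inv_smul_eq_iff, ha' u hu]⟩ }
  have hinv : ∀ x ∈ J₀, ∀ u ∈ r.mp (IV V Z), x • u ∈ r.mp (IV V Z) := by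
    intro x hx u hu
    have e : x • u = (x • u * u) * u := by rw [mul_assoc, sq h r, mul_one]
    rw [e]
    exact mul_mem (hlamU (cl x hx u hu)) hu
  obtain ⟨J, hJ, hJ2, hcov⟩ := exists_sylow_cover (J₀ := J₀) (K := K) (by
    rintro x hx k ⟨hk, hk'⟩
    refine ⟨mul_mem (mul_mem hx hk) (inv_mem hx), fun u hu => ?_⟩
    rw [mul_smul, mul_smul, hk' _ (hinv _ (inv_mem hx) u hu), smul_inv_smul]) (by
    intro x hx
    refine ⟨mul_mem hx hx, fun u hu => ?_⟩
    have h1 := fx x hx _ (cl x hx u hu)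
    rw [smul_mul', ← mul_smul] at h1
    have h2 : (x * x) • u = (x • u * u) * x • u := by
      rw [← h1, mul_assoc, sq h r, mul_one]
    rw [h2, mul_comm (x • u) u, mul_assoc, sq h r, mul_one])
  refine ⟨J, hJ2, fun k hk => fx k (hJ hk), fun k hk => cl k (hJ hk), fun u hu hu' z hz => ?_⟩
  obtain ⟨x, hx, e⟩ := on u hu hu' z hz
  obtain ⟨j, hj, k, hk, rfl⟩ := hcov x hx
  refine ⟨j, hj, ?_⟩
  rw [← e, mul_smul, hk.2 u hu]

/-- `|A| |C_M(A)| |C_{W_B}(W_Z)| |Z| = |W_B| |C_{W_Z}(W_B)|` -/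
theorem fo_eq {R B : Subgroup G} (hc : Cr V Z Z R B) :
    fo M (r.mr (ws V B)) * (Nat.card (ws V B ⊓ centralizer ((ws V Z : Subgroup G) : Set G) : Subgroup G) *
      Nat.card Z) =
    Nat.card (ws V B) * Nat.card (ws V Z ⊓ centralizer ((ws V B : Subgroup G) : Set G) : Subgroup G) := by
  have hBN : ws V B ≤ normalizer (Z : Set G) :=
    (h.ws_le_cent hc.r.symm hc.l.symm).trans (centralizer_le_normalizer _)
  -- `A`
  have e1 : Nat.card (r.mr (ws V B)) *
      Nat.card (ws V B ⊓ centralizer ((ws V Z : Subgroup G) : Set G) : Subgroup G) = Nat.card (ws V B) := by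
    let f : ws V B →* H := r.rh.comp (inclusion hBN)
    have h1 : f.range = r.mr (ws V B) := by
      ext x
      constructor
      · rintro ⟨w, rfl⟩
        exact r.mr_mem w.2 (hBN w.2)
      · intro hx
        obtain ⟨w, hw, hw', rfl⟩ := r.mem_mr.1 hx
        exact ⟨⟨w, hw⟩, rfl⟩
    have h2 := Subgroup.card_mul_index f.ker
    rw [Subgroup.index_ker, h1, mul_comm] at h2
    rw [← h2]
    congr 1
    have hk : ∀ w : ws V B, w ∈ f.ker ↔ (w : G) ∈ centralizer ((ws V Z : Subgroup G) : Set G) := by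
      intro w
      rw [MonoidHom.mem_ker]
      constructor
      · intro e
        have h3 := (r.kerρ w (hBN w.2)).1 e
        rw [mem_centralizer_iff]
        exact fun x hx => (h.cent_of_mod hc w.2 h3 x hx).symm
      · intro e
        refine (r.kerρ w (hBN w.2)).2 fun x hx => ?_
        rw [← mem_centralizer_iff.1 e x hx, mul_inv_cancel_right, mul_inv_cancel]
        exact one_mem _
    exact Nat.card_congr ⟨fun x => ⟨⟨x, x.2.1⟩, (hk _).2 x.2.2⟩, fun x => ⟨(x : ws V B), (x : ws V B).2,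
      (hk _).1 x.2⟩, fun x => rfl, fun x => rfl⟩
  have e2 : Nat.card (cv M ((r.mr (ws V B) : Subgroup H) : Set H)) * Nat.card Z =
      Nat.card (ws V Z ⊓ centralizer ((ws V B : Subgroup G) : Set G) : Subgroup G) := by
    have hZK : Z ≤ ws V Z ⊓ centralizer ((ws V B : Subgroup G) : Set G) := by
      refine le_inf r.le ?_
      exact comm_symm (h.ws_le_cent hc.r.symm hc.l.symm)
    rw [← r.card_mp hZK inf_le_left]
    suffices e3 : cv M ((r.mr (ws V B) : Subgroup H) : Set H) =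
        r.mp (ws V Z ⊓ centralizer ((ws V B : Subgroup G) : Set G)) by rw [e3]
    ext m
    constructor
    · intro hm
      obtain ⟨x, hx, rfl⟩ := r.surjπ m
      have h3 : x ∈ centralizer ((ws V B : Subgroup G) : Set G) := by
        rw [mem_centralizer_iff]
        refine h.cent_of_mod' hc hx fun w hw => ?_
        exact (r.fix_iff (hBN hw) hx).1 (hm _ (r.mr_mem hw (hBN hw)))
      exact r.mp_mem ⟨hx, h3⟩ hx
    · intro hm
      obtain ⟨x, hx, hx', rfl⟩ := r.mem_mp.1 hm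
      intro a ha
      obtain ⟨w, hw, hw', rfl⟩ := r.mem_mr.1 ha
      have h3 := mem_centralizer_iff.1 hx.2 w hw
      rw [r.fix_iff hw' hx', h3, mul_inv_cancel_right, mul_inv_cancel]
      exact one_mem _
  unfold fo
  rw [← e1, ← e2]
  ring

/-- `|C_{W_Z}(W_B)| ≤ |C_{W_B}(W_Z)|` -/
theorem card_cent_le (hNO : NOg V Z) {R B : Subgroup G} (hRV : R ≤ V) (hI : Inn V Z Z R B) :
    Nat.card (ws V Z ⊓ centralizer ((ws V B : Subgroup G) : Set G) : Subgroup G) ≤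
      Nat.card (ws V B ⊓ centralizer ((ws V Z : Subgroup G) : Set G) : Subgroup G) := by
  have h1 := no_of h r hNO _ (hA_gen h r (isCj_V h) h.pl.ZV hRV hI)
  have h2 := fo_eq h r hI.cr
  have h3 : Nat.card (ws V B) = Nat.card (ws V Z) := by
    obtain ⟨g, hg⟩ := hI.cr.r.right
    rw [hg, ws_cj, card_cj]
  rw [h3, ← r.card_M] at h2
  have h4 : Nat.card M * Nat.card Z *
      Nat.card (ws V Z ⊓ centralizer ((ws V B : Subgroup G) : Set G) : Subgroup G) ≤
      Nat.card M * Nat.card Z *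
        Nat.card (ws V B ⊓ centralizer ((ws V Z : Subgroup G) : Set G) : Subgroup G) := by
    rw [← h2]
    calc _ ≤ Nat.card M * (Nat.card (ws V B ⊓ centralizer ((ws V Z : Subgroup G) : Set G) : Subgroup G) *
          Nat.card Z) := Nat.mul_le_mul_right _ h1
      _ = _ := by ring
  have := r.finite_M
  exact Nat.le_of_mul_le_mul_left h4 (Nat.mul_pos Nat.card_pos Nat.card_pos)

end

section

include h

/-- the same, `Z` any point -/
theorem card_cent_le' (hNO : NOg V Z) {X R B : Subgroup G} (hI : Inn V Z X R B) :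
    Nat.card (ws V X ⊓ centralizer ((ws V B : Subgroup G) : Set G) : Subgroup G) ≤
      Nat.card (ws V B ⊓ centralizer ((ws V X : Subgroup G) : Set G) : Subgroup G) := by
  obtain ⟨hX, hR, hne, L, hL, hXL, hRL⟩ := hI.cr.l
  obtain ⟨T, Q, h'⟩ := h.flag hX hL hXL
  obtain ⟨H, M, i1, i2, i3, ρ, π, r⟩ := exists_rn (h'.pt_le_ws h'.pl.isCj_self) (h'.com_self h'.pl.isCj_self)
  have h1 := card_cent_le h' r (hNO.of hL hX) hRL (hI.of hL hX)
  rwa [ws_of hL, ws_of hL] at h1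

end

include h r

/-- **exactness** -/
theorem hex (hNO : NOg V Z) {R B : Subgroup G} (hI : Inn V Z Z R B) : fo M (r.mr (ws V B)) = Nat.card M := by
  have h1 := fo_eq h r hI.cr
  have h2 := le_antisymm (card_cent_le' h hNO hI) (card_cent_le' h hNO hI.symm)
  have h3 : Nat.card (ws V B) = Nat.card (ws V Z) := by
    obtain ⟨g, hg⟩ := hI.cr.r.right
    rw [hg, ws_cj, card_cj]
  rw [h2, h3, ← r.card_M] at h1
  have := r.finite_M
  have h4 : 0 < Nat.card (ws V B ⊓ centralizer ((ws V Z : Subgroup G) : Set G) : Subgroup G) * Nat.card Z :=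
    Nat.mul_pos Nat.card_pos Nat.card_pos
  refine Nat.eq_of_mul_eq_mul_right h4 ?_
  rw [h1]
  ring

end InnG

end Cfsg.Agent.Omega.NO3S.MidB.No
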