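import Cfsg.Agent.Omega.NO3S.MidB.No.InnG5

/-!
# NO-3S, natural lines, critical distance 2: **THEOREM INN** (49's `OneS`), geometric form

`innN_of : Mid S P V Z → 4 ≤ |Z| → NOg V Z → InnN V Z`.
-/

set_option autoImplicit false
set_option linter.unusedSectionVars false

namespace Cfsg.Agent.Omega.NO3S.MidB.No

open Subgroup Cfsg.Agent.Omega.NO3S.PT Cfsg.Agent.Omega.NoFF.Basic Cfsg.Agent.ZN
open Cfsg.Agent.Omega.NO3S.MidQ (Adj Com Cr UU ws_of kx_of isCj_iff adj_iff com_iff cr_iff)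
open Cfsg.Agent.Omega.NO3S.OneS (IsBB Fr Lam mem_sup' ne_bot_iff' TorAct br br_le JJ Fatt)
open Cfsg.Agent.ClassTwoFusion.Quad (cv)
open Cfsg.Agent.Omega.NOThree.NoOver (fo)
open scoped Pointwise

universe u

variable {G : Type u} [Group G]

namespace InnG

variable [Finite G] {S : Sylow 2 G} {P V Z : Subgroup G} (h : Mid S P V Z)

section

variable {H M : Type*} [Group H] [CommGroup M] [MulDistribMulAction H M] {ρ : G → H} {π : G → M} (r : RN V Z ρ π)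
include h r

/-- `π [W_B, W_Z] ≤ [M, A]` -/
theorem mem_br_of {R B : Subgroup G} (hI : Inn V Z Z R B) {e : G} (he : e ∈ ⁅ws V B, ws V Z⁆) :
    π e ∈ br (r.mr (ws V B)) := by
  let E : Subgroup G :=
    { carrier := {w | w ∈ ws V Z ∧ π w ∈ br (r.mr (ws V B))}
      one_mem' := ⟨one_mem _, by rw [r.one_π]; exact one_mem _⟩
      mul_mem' := by
        rintro a b ⟨ha, ha'⟩ ⟨hb, hb'⟩
        exact ⟨mul_mem ha hb, by rw [r.mulπ a ha b hb]; exact mul_mem ha' hb'⟩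
      inv_mem' := by
        rintro a ⟨ha, ha'⟩
        exact ⟨inv_mem ha, by rw [r.inv_π ha]; exact inv_mem ha'⟩ }
  have h1 : ⁅ws V B, ws V Z⁆ ≤ E := by
    rw [commutator_le]
    intro b hb z hz
    have hbN := ws_le_norm_Z h hI hb
    refine ⟨mul_mem (r.conj_ws hbN hz) (inv_mem hz), ?_⟩
    have h2 := OneS.mem_br (r.mr_mem hb hbN) (π z)
    rwa [r.π_comm hbN hz (sq h r)] at h2
  exact (h1 he).2

/-- `[M, A] ≤ π [W_B, W_Z]` -/
theorem exists_of_mem_br {R B : Subgroup G} (hI : Inn V Z Z R B) {m : M} (hm : m ∈ br (r.mr (ws V B))) :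
    ∃ e ∈ ⁅ws V B, ws V Z⁆, e ∈ ws V Z ∧ π e = m := by
  have h1 : (br (r.mr (ws V B)) : Subgroup M) ≤ r.mp ⁅ws V B, ws V Z⁆ := by
    refine br_le fun a ha m => ?_
    obtain ⟨w, hw, hw', rfl⟩ := r.mem_mr.1 ha
    obtain ⟨b, hb, rfl⟩ := r.surjπ m
    rw [r.π_comm hw' hb (sq h r)]
    exact r.mp_mem (commutator_mem_commutator hw hb) (comm_mem_K h hI hw hb).2
  exact r.mem_mp.1 (h1 hm)

end

section

include h

/-- a point with an element in `[W_B, W_Z]` has the same `I_L` -/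
theorem flag_mid (hNO : NOg V Z) (hq : 4 ≤ Nat.card Z) {R E B : Subgroup G} (hRV : R ≤ V) (hI : Inn V Z Z R B)
    (hE : Adj V Z Z E) {e : G} (he : e ∈ E) (heZ : e ∉ Z) (he' : e ∈ ⁅ws V B, ws V Z⁆) :
    ws V Z ⊓ ws V E = ws V Z ⊓ ws V R := by
  have hZ := h.pl.isCj_self
  obtain ⟨H, M, i1, i2, i3, ρ, π, r⟩ := exists_rn (h.pt_le_ws hZ) (h.com_self hZ)
  have := r.finite_M
  have := r.finite_H
  obtain ⟨N, hN, hZN, hEN⟩ := hE.line
  obtain ⟨g, hg, rfl⟩ := exists_norm h hN hZN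
  have e1 : IV V Z = ws V Z ⊓ ws V R := IV_eq h (isCj_V h) h.pl.ZV hI.cr.l.right hRV hI.cr.l.ne.symm
  have e2 : IV (cj g V) Z = ws V Z ⊓ ws V E := IV_eq h hN hZN hE.right hEN hE.ne.symm
  have hA : r.mr (ws V B) ≠ ⊥ := by
    intro e
    apply hI.cr.symm.ne
    intro w hw
    have hw' := ws_le_norm_Z h hI hw
    have h1 : ρ w ∈ r.mr (ws V B) := r.mr_mem hw hw'
    rw [e, mem_bot] at h1
    rw [mem_centralizer_iff]
    exact fun x hx => (h.cent_of_mod hI.cr hw ((r.kerρ w hw').1 h1) x hx).symm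
  have heW : e ∈ ws V Z := h.adj_le_ws hE he
  have h0 := mem_br_of h r hI he'
  have h1 := (inn_base h r hNO hq hRV hI).flag_eq hA (hex h r hNO hI) h0
    (fun e1 => heZ ((r.kerπ e heW).1 e1)) ((mp_line_mem h r hg heW).2 (hEN he))
  have hZI := Z_le_IV h r
  rw [r.smul_mp hg, r.mp_inj (Z_le_cj h r hg hZI) hZI (cj_le_ws h r hg h.pl.IV_le_ws) h.pl.IV_le_ws, cj_IV h hg,
    e1, e2] at h1
  exact h1

/-- the same at any point -/
theorem flag_mid' (hNO : NOg V Z) (hq : 4 ≤ Nat.card Z) {X R E B : Subgroup G} (hI : Inn V Z X R B)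
    (hE : Adj V Z X E) {e : G} (he : e ∈ E) (heX : e ∉ X) (he' : e ∈ ⁅ws V B, ws V X⁆) :
    ws V X ⊓ ws V E = ws V X ⊓ ws V R := by
  obtain ⟨hX, hR, hne, L, hL, hXL, hRL⟩ := hI.cr.l
  obtain ⟨T, Q, h'⟩ := h.flag hX hL hXL
  have hq' : 4 ≤ Nat.card X := by
    rw [h.pl.card_pt hX]
    exact hq
  have h1 := flag_mid h' (hNO.of hL hX) hq' hRL (hI.of hL hX) ((adj_iff hL hX).2 hE) he heX (by
    rw [ws_of hL, ws_of hL]
    exact he')
  rwa [ws_of hL, ws_of hL, ws_of hL] at h1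

end

variable {H M : Type*} [Group H] [CommGroup M] [MulDistribMulAction H M] {ρ : G → H} {π : G → M} (r : RN V Z ρ π)
include h r

/-- (T) -/
theorem fatt (hNO : NOg V Z) (hq : 4 ≤ Nat.card Z) {R B : Subgroup G} (hRV : R ≤ V) (hI : Inn V Z Z R B) :
    Fatt (r.mp V) (r.mp (IV V Z)) (r.mr (ws V B)) := by
  intro x hx v hv hv1 hvx
  obtain ⟨g, hg, rfl⟩ := r.surjρ x
  rw [smul_eq_iff h r hg]
  by_contra hne
  have hZ := h.pl.isCj_self
  have hZI := Z_le_IV h r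
  have hZN := Z_le_cj h r hg h.pl.ZV
  have hN : IsCj V (cj g V) := ⟨g, rfl⟩
  rw [r.smul_mp hg, r.mp_inj (Z_le_cj h r hg hZI) hZI (cj_le_ws h r hg h.pl.IV_le_ws) h.pl.IV_le_ws, cj_IV h hg] at hx
  obtain ⟨e, hec, heW, rfl⟩ := exists_of_mem_br h r hI hv
  have he : e ∈ ws V B ⊓ ws V R ⊓ ws V Z := by
    have h1 : ⁅ws V B, ws V Z⁆ ≤ ws V B ⊓ ws V R ⊓ ws V Z := by
      rw [commutator_le]
      exact fun b hb z hz => comm_mem_K h hI hb hz
    exact h1 hec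
  have heZ : e ∉ Z := fun e1 => hv1 ((r.kerπ e heW).2 e1)
  have heN : e ∈ cj g V := (mp_line_mem h r hg heW).1 hvx
  obtain ⟨E, hE, hEN, heE⟩ := h.exists_point hN heN (fun e1 => heZ (e1 ▸ one_mem _))
  have hEZ : E ≠ Z := fun e1 => heZ (e1 ▸ heE)
  have hER : E ≠ R := by
    rintro rfl
    exact hne (h.line_unique hZ hE hEZ.symm hN (isCj_V h) hZN hEN h.pl.ZV hRV)
  obtain ⟨h1, h2⟩ := adj_of h (isCj_V h) h.pl.ZV hRV hI hN hZN hE hEN heE heZ he hER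
  have e1 : IV V Z = ws V Z ⊓ ws V R := IV_eq h (isCj_V h) h.pl.ZV hI.cr.l.right hRV hI.cr.l.ne.symm
  have e2 : IV (cj g V) Z = ws V Z ⊓ ws V E := IV_eq h hN hZN hE hEN hEZ
  rw [e1, e2] at hx
  have h3 := flag_mid' h hNO hq hI.symm h2.symm heE
    (fun e1 => heZ (by rw [h.star' hI.cr e1 heW]; exact one_mem _)) (by rw [commutator_comm]; exact hec)
  -- the three `I_L`
  have h4 : ws V Z ⊓ ws V R = ws V E ⊓ ws V R := by
    refine eq_of_le_of_card_ge (le_inf (hx ▸ inf_le_right) inf_le_right) ?_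
    rw [card_inf h h1, card_inf h hI.cr.l]
  have h5 : ws V B ⊓ ws V R = ws V E ⊓ ws V R := by
    refine eq_of_le_of_card_ge (le_inf (h3 ▸ inf_le_right) inf_le_right) ?_
    rw [card_inf h h1, card_inf h hI.cr.r.symm]
  have h6 : B ≤ ws V Z := by
    have h7 : B ≤ ws V B ⊓ ws V R := le_inf (h.pt_le_ws hI.cr.r.right) (h.adj_le_ws hI.cr.r)
    rw [h5, ← h4] at h7
    exact h7.trans inf_le_left
  obtain ⟨b, hb, hb1⟩ := h.pt_ne_bot hI.cr.r.right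
  exact hb1 (h.star' hI.cr hb (h6 hb))

end InnG

variable [Finite G] {S : Sylow 2 G} {P V Z : Subgroup G}

/-- **THEOREM INN** at the base flag -/
theorem inn_base_of (h : Mid S P V Z) (hq : 4 ≤ Nat.card Z) (hNO : NOg V Z) {R B : Subgroup G} (hRV : R ≤ V)
    (hI : Inn V Z Z R B) : ∀ a ∈ ws V Z, ∀ b ∈ ws V B, a * b * a⁻¹ * b⁻¹ ∈ R := by
  have hZ := h.pl.isCj_self
  obtain ⟨H, M, i1, i2, i3, ρ, π, r⟩ := exists_rn (h.pt_le_ws hZ) (h.com_self hZ)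
  have := r.finite_M
  have := r.finite_H
  obtain ⟨J, hJ⟩ := InnG.exists_jj h r
  have h1 := (InnG.inn_base h r hNO hq hRV hI).br_le_lam hJ (InnG.fatt h r hNO hq hRV hI) (InnG.hex h r hNO hI)
  intro a ha b hb
  have hbN := InnG.ws_le_norm_Z h hI hb
  have hK := InnG.comm_mem_K h hI hb ha
  have e0 : a * b * a⁻¹ * b⁻¹ = (b * a * b⁻¹ * a⁻¹)⁻¹ := by group
  rw [e0]
  apply inv_mem
  set e := b * a * b⁻¹ * a⁻¹ with he
  have heV : e ∈ V := by
    have h2 := h1 (OneS.mem_br (r.mr_mem hb hbN) (π a))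
    rw [r.π_comm hbN ha (InnG.sq h r)] at h2
    exact (r.mp_mem_iff h.pl.ZV hK.2).1 h2
  by_cases he1 : e = 1
  · rw [he1]; exact one_mem _
  have heZ : e ∉ Z := fun e1 => he1 (h.star hI.cr e1 hK.1.1)
  obtain ⟨E, hE, hEV, heE⟩ := h.exists_point (InnG.isCj_V h) heV he1
  by_cases hER : E = R
  · rw [← hER]; exact heE
  exfalso
  obtain ⟨-, h3⟩ := InnG.adj_of h (InnG.isCj_V h) h.pl.ZV hRV hI (InnG.isCj_V h) h.pl.ZV hE hEV heE heZ hK hER
  have h4 : V ≤ ws V B := h.line_le_of hE hI.cr.l.right hER (InnG.isCj_V h) hEV hRV (h.adj_le_ws h3.symm)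
    (h.adj_le_ws hI.cr.r.symm)
  obtain ⟨z, hz, hz1⟩ := h.pt_ne_bot hZ
  exact hz1 (h.star hI.cr hz (h4 (h.pl.ZV hz)))

/-- **THEOREM INN** -/
theorem innN_of (h : Mid S P V Z) (hq : 4 ≤ Nat.card Z) (hNO : NOg V Z) : InnN V Z := by
  intro X R Y hI a ha b hb
  obtain ⟨hX, hR, hne, L, hL, hXL, hRL⟩ := hI.cr.l
  obtain ⟨T, Q, h'⟩ := h.flag hX hL hXL
  have hq' : 4 ≤ Nat.card X := by
    rw [h.pl.card_pt hX]
    exact hq
  refine inn_base_of h' hq' (hNO.of hL hX) hRL (hI.of hL hX) a ?_ b ?_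
  · rwa [ws_of hL]
  · rwa [ws_of hL]

end Cfsg.Agent.Omega.NO3S.MidB.No
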