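import Cfsg.Agent.Omega.NO3S.MidB.No.UT

/-!
# NO-3S, the `(R, B)`-frame, `n = 2`: the instance of `McL` on `W_R / R` for the flat groups

`h : TT S P V Z`.  `PhiT V Z R π A` : the endomorphisms of `W_R / R` induced by the elements of `UT V Z R A` (minus 1).

* `TT.mcl` : **the instance**;
* `TT.big` : `Big`, from `w ∈ W_C`, `m ∈ W_R` commuting, `w ∉ C(W_R)`, `m ∉ C(W_C)`;
* `TT.dist` : `Dist`, from `NF V Z`.
-/

set_option autoImplicit false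
set_option linter.unusedSectionVars false

namespace Cfsg.Agent.Omega.NO3S.MidB.No

open Subgroup Cfsg.Agent.Omega.NO3S.PT Cfsg.Agent.Omega.NoFF.Basic Cfsg.Agent.ZN
open Cfsg.Agent.Omega.NO3S.MidQ (Adj Com Cr UU ws_of kx_of isCj_iff adj_iff com_iff cr_iff UU_of isCj_symm isCj_trans
  com_cj UU_cj le_UU normalizer_le_UU isPGroup_sSup McL JJ Kl Dist surj_of_inj comm_inj)
open scoped Pointwise

universe u

variable {G : Type u} [Group G] {V Z X Y R L A A' B B' C : Subgroup G}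
variable {M : Type*} [AddCommGroup M] {π : G → M}

/-- the endomorphisms induced by `g - 1`, `g ∈ UT V Z R A` -/
def PhiT (V Z R : Subgroup G) (π : G → M) (A : Subgroup G) : AddSubgroup (AddMonoid.End M) :=
  AddSubgroup.closure {φ | ∃ g ∈ UT V Z R A, ∀ w ∈ ws V R, φ (π w) = π (g * w * g⁻¹ * w⁻¹)}

/-- a `C_G(R)`-invariant subgroup of `W_R` over `R` which meets a line on `R` in `R`, is `R` -/
def NF (V Z : Subgroup G) : Prop :=
  ∀ X L N : Subgroup G, IsCj Z X → IsCj V L → X ≤ L → X ≤ N → N ≤ ws V X → centralizer (X : Set G) ≤ normalizer (N : Set G) →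
    N ⊓ L = X → N = X

namespace TT

variable [Finite G] {S : Sylow 2 G} {P : Subgroup G} (h : TT S P V Z)
include h

/-! ### `UT` on `W_R` -/

theorem u_R (hA : Adj V Z A R) {g : G} (hg : g ∈ UT V Z R A) {r : G} (hr : r ∈ R) : g * r = r * g :=
  (mem_centralizer_iff.1 (h.UU_le_cent_adj hA.symm (UT_le_UU hg)) r hr).symm

theorem u_A (hA : Adj V Z A R) {g : G} (hg : g ∈ UT V Z R A) {a : G} (ha : a ∈ A) : g * a = a * g :=
  (mem_centralizer_iff.1 (h.UU_le_cent_pt hA.left (UT_le_UU hg)) a ha).symm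

theorem u_ws (hA : Adj V Z A R) {g : G} (hg : g ∈ UT V Z R A) {w : G} (hw : w ∈ ws V R) : g * w * g⁻¹ ∈ ws V R :=
  (mem_normalizer_iff.1 (h.UU_norm hA.symm (UT_le_UU hg)) w).1 hw

theorem adj_ws (hA : Adj V Z A R) : A ≤ ws V R := h.adj_le_ws hA.symm

theorem c_ws (hA : Adj V Z A R) {g : G} (hg : g ∈ UT V Z R A) {w : G} (hw : w ∈ ws V R) :
    g * w * g⁻¹ * w⁻¹ ∈ ws V R := h.adj_ws hA (h.ut_comm hA hg hw)

theorem c_mul (hA : Adj V Z A R) {g : G} (hg : g ∈ UT V Z R A) {w w' : G} (hw : w ∈ ws V R) (hw' : w' ∈ ws V R) :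
    g * (w * w') * g⁻¹ * (w * w')⁻¹ = g * w * g⁻¹ * w⁻¹ * (g * w' * g⁻¹ * w'⁻¹) := by
  have h1 := h.ws_comm hA.right hw (h.c_ws hA hg hw')
  calc g * (w * w') * g⁻¹ * (w * w')⁻¹ = g * w * g⁻¹ * w⁻¹ * (w * (g * w' * g⁻¹ * w'⁻¹)) * w⁻¹ := by group
    _ = g * w * g⁻¹ * w⁻¹ * (g * w' * g⁻¹ * w'⁻¹) := by rw [h1]; group

theorem c_mul' (hA : Adj V Z A R) {g g' : G} (hg : g ∈ UT V Z R A) (hg' : g' ∈ UT V Z R A) {w : G}
    (hw : w ∈ ws V R) : g * g' * w * (g * g')⁻¹ * w⁻¹ = g * w * g⁻¹ * w⁻¹ * (g' * w * g'⁻¹ * w⁻¹) := by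
  have h1 := h.u_A hA hg (h.ut_comm hA hg' hw)
  have h2 := h.ws_comm hA.right (h.c_ws hA hg hw) (h.c_ws hA hg' hw)
  calc g * g' * w * (g * g')⁻¹ * w⁻¹ = g * (g' * w * g'⁻¹ * w⁻¹) * (w * g⁻¹ * w⁻¹) := by group
    _ = g' * w * g'⁻¹ * w⁻¹ * (g * w * g⁻¹ * w⁻¹) := by rw [h1]; group
    _ = _ := h2.symm

theorem c_inv (hA : Adj V Z A R) {g : G} (hg : g ∈ UT V Z R A) {w : G} (hw : w ∈ ws V R) :
    g⁻¹ * w * g⁻¹⁻¹ * w⁻¹ = (g * w * g⁻¹ * w⁻¹)⁻¹ := by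
  have h1 := h.u_A hA (inv_mem hg) (inv_mem (h.ut_comm hA hg hw))
  calc g⁻¹ * w * g⁻¹⁻¹ * w⁻¹ = g⁻¹ * (g * w * g⁻¹ * w⁻¹)⁻¹ * g := by group
    _ = _ := by rw [h1]; group

theorem inf_R (hA : Adj V Z A R) {a : G} (ha : a ∈ A) (hR : a ∈ R) : a = 1 := h.pt_inf hA.left hA.right hA.ne ha hR

theorem not_comm_iff (hA : Adj V Z A R) {g w : G} (hg : g ∈ UT V Z R A) (hw : w ∈ ws V R) :
    g * w * g⁻¹ * w⁻¹ ∈ R ↔ g * w = w * g := by
  constructor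
  · intro e
    exact Mid.comm_eq (h.inf_R hA (h.ut_comm hA hg hw) e)
  · intro e
    rw [Mid.comm_one e]
    exact one_mem _

/-- elements of `UT` fix `R` -/
theorem cj_ut (hA : Adj V Z A R) {g : G} (hg : g ∈ UT V Z R A) : PT.cj g R = R :=
  cj_eq_iff.2 (centralizer_le_normalizer _ (h.UU_le_cent_adj hA.symm (UT_le_UU hg)))

theorem twoEl_ut {g : G} (hg : g ∈ UT V Z R A) : TwoEl g := h.twoEl_UU (UT_le_UU hg)

/-! ### Translation -/

section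

variable (hM : Md V R π)
include hM

theorem exists_phi (hA : Adj V Z A R) {g : G} (hg : g ∈ UT V Z R A) :
    ∃ φ ∈ PhiT V Z R π A, ∀ w ∈ ws V R, φ (π w) = π (g * w * g⁻¹ * w⁻¹) := by
  obtain ⟨φ, hφ⟩ := hM.exists_lift (fun w => g * w * g⁻¹ * w⁻¹) (fun w hw => h.c_ws hA hg hw)
    (fun a ha b hb => h.c_mul hA hg ha hb) (fun r _ hr => by
      show g * r * g⁻¹ * r⁻¹ ∈ R
      rw [h.u_R hA hg hr, mul_inv_cancel_right, mul_inv_cancel]
      exact one_mem _)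
  exact ⟨φ, AddSubgroup.subset_closure ⟨g, hg, hφ⟩, hφ⟩

theorem mem_phi (hA : Adj V Z A R) {φ : AddMonoid.End M} :
    φ ∈ PhiT V Z R π A ↔ ∃ g ∈ UT V Z R A, ∀ w ∈ ws V R, φ (π w) = π (g * w * g⁻¹ * w⁻¹) := by
  constructor
  · intro hφ
    let K : AddSubgroup (AddMonoid.End M) :=
      { carrier := {φ | ∃ g ∈ UT V Z R A, ∀ w ∈ ws V R, φ (π w) = π (g * w * g⁻¹ * w⁻¹)}
        zero_mem' := ⟨1, one_mem _, fun w _ => by
          have e : (1 : G) * w * 1⁻¹ * w⁻¹ = 1 := by group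
          rw [e, hM.map_one]
          rfl⟩
        add_mem' := by
          rintro φ ψ ⟨g, hg, e⟩ ⟨g', hg', e'⟩
          refine ⟨g * g', mul_mem hg hg', fun w hw => ?_⟩
          rw [h.c_mul' hA hg hg' hw, hM.mul _ (h.c_ws hA hg hw) _ (h.c_ws hA hg' hw), ← e w hw, ← e' w hw]
          rfl
        neg_mem' := by
          rintro φ ⟨g, hg, e⟩
          refine ⟨g⁻¹, inv_mem hg, fun w hw => ?_⟩
          rw [h.c_inv hA hg hw, hM.map_inv (h.c_ws hA hg hw), ← e w hw]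
          rfl }
    have h1 : PhiT V Z R π A ≤ K := by
      rw [PhiT, AddSubgroup.closure_le]
      intro φ hφ
      exact hφ
    exact h1 hφ
  · intro hφ
    exact AddSubgroup.subset_closure hφ

theorem mem_lam (hA : Adj V Z A R) {m : M} : m ∈ lamR π A ↔ ∃ a ∈ A, π a = m := mem_lamR hM (h.adj_ws hA)

theorem pi_mem (hA : Adj V Z A R) {a : G} (ha : a ∈ A) : π a ∈ lamR π A := (h.mem_lam hM hA).2 ⟨a, ha, rfl⟩

theorem pi_ne (hA : Adj V Z A R) {a : G} (ha : a ∈ A) (ha1 : a ≠ 1) : π a ≠ 0 := fun e =>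
  ha1 (h.inf_R hA ha ((hM.ker a (h.adj_ws hA ha)).1 e))

theorem pi_inj (hA : Adj V Z A R) {a a' : G} (ha : a ∈ A) (ha' : a' ∈ A) (e : π a = π a') : a = a' := by
  have h1 := hM.mem_of (h.adj_ws hA ha) (h.adj_ws hA ha') e
  exact mul_inv_eq_one.1 (h.inf_R hA (mul_mem ha (inv_mem ha')) h1)

/-- `φ (π w) = 0` iff `g` commutes with `w` -/
theorem phi_zero_iff (hA : Adj V Z A R) {g : G} (hg : g ∈ UT V Z R A) {φ : AddMonoid.End M}
    (hφ : ∀ w ∈ ws V R, φ (π w) = π (g * w * g⁻¹ * w⁻¹)) {w : G} (hw : w ∈ ws V R) :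
    φ (π w) = 0 ↔ g * w = w * g := by
  rw [hφ w hw, hM.ker _ (h.c_ws hA hg hw), h.not_comm_iff hA hg hw]

theorem kl_iff (hA : Adj V Z A R) (hB : Adj V Z B R) {g : G} (hg : g ∈ UT V Z R A) {φ : AddMonoid.End M}
    (hφ : ∀ w ∈ ws V R, φ (π w) = π (g * w * g⁻¹ * w⁻¹)) :
    (∀ b ∈ lamR π B, φ b = 0) ↔ ∀ b ∈ B, g * b = b * g := by
  constructor
  · intro e b hb
    exact (h.phi_zero_iff hM hA hg hφ (h.adj_ws hB hb)).1 (e _ (h.pi_mem hM hB hb))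
  · intro e m hm
    obtain ⟨b, hb, rfl⟩ := (h.mem_lam hM hB).1 hm
    exact (h.phi_zero_iff hM hA hg hφ (h.adj_ws hB hb)).2 (e b hb)

theorem card_lam (hA : Adj V Z A R) : Nat.card (lamR π A) = Nat.card Z := by
  rw [← h.card_pt hA.left]
  let f : A → lamR π A := fun a => ⟨π a, h.pi_mem hM hA a.2⟩
  refine (Nat.card_congr (Equiv.ofBijective f ⟨fun a b e => ?_, ?_⟩)).symm
  · exact Subtype.ext (h.pi_inj hM hA a.2 b.2 (congrArg Subtype.val e))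
  · rintro ⟨m, hm⟩
    obtain ⟨a, ha, rfl⟩ := (h.mem_lam hM hA).1 hm
    exact ⟨⟨a, ha⟩, rfl⟩

/-! ### Conjugation -/

omit h hM in
theorem conj_ws {n : G} (hn : PT.cj n R = R) {w : G} (hw : w ∈ ws V R) : n * w * n⁻¹ ∈ ws V R := by
  have h1 : n * w * n⁻¹ ∈ PT.cj n (ws V R) := conj_mem_cj hw
  rwa [← ws_cj, hn] at h1

omit h hM in
theorem conj_R {n : G} (hn : PT.cj n R = R) {w : G} (hw : w ∈ R) : n * w * n⁻¹ ∈ R := by
  have h1 : n * w * n⁻¹ ∈ PT.cj n R := conj_mem_cj hw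
  rwa [hn] at h1

omit h in
/-- conjugation by `n ∈ N(R)` -/
theorem exists_conj_end {n : G} (hn : PT.cj n R = R) : ∃ ν : AddMonoid.End M, ∀ w ∈ ws V R, ν (π w) = π (n * w * n⁻¹) :=
  hM.exists_lift (fun w => n * w * n⁻¹) (fun _ hw => conj_ws hn hw) (fun a _ b _ => by group)
    (fun _ _ ha => conj_R hn ha)

theorem card_phi_le (hA : Adj V Z A R) (hB : Adj V Z B R) :
    Nat.card (PhiT V Z R π A) ≤ Nat.card (PhiT V Z R π B) := by
  have hfin := hM.fin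
  have : Finite (AddMonoid.End M) := DFunLike.finite _
  obtain ⟨n, hnR, hnA⟩ := h.exists_adj hA hB
  have hnR' : PT.cj n⁻¹ R = R := by
    nth_rewrite 1 [← hnR]
    rw [cj_cj, inv_mul_cancel, cj_one]
  obtain ⟨ν, hν⟩ := exists_conj_end hM hnR
  obtain ⟨ν', hν'⟩ := exists_conj_end hM hnR'
  have e1 : ν' * ν = 1 := by
    refine hM.end_ext fun w hw => ?_
    show ν' (ν (π w)) = π w
    rw [hν w hw, hν' _ (conj_ws hnR hw)]
    congr 1
    group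
  have key : ∀ φ ∈ PhiT V Z R π A, ν * φ * ν' ∈ PhiT V Z R π B := by
    intro φ hφ
    obtain ⟨g, hg, e⟩ := (h.mem_phi hM hA).1 hφ
    refine (h.mem_phi hM hB).2 ⟨n * g * n⁻¹, ?_, fun w hw => ?_⟩
    · have h1 := UT_cj V Z R A n
      rw [hnR, hnA] at h1
      rw [h1]
      exact conj_mem_cj hg
    · show ν (φ (ν' (π w))) = _
      have hw' := conj_ws hnR' hw
      rw [hν' w hw, e _ hw', hν _ (h.c_ws hA hg hw')]
      congr 1
      group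
  let f : PhiT V Z R π A → PhiT V Z R π B := fun φ => ⟨ν * φ.1 * ν', key φ.1 φ.2⟩
  have e2 : ν * ν' = 1 := by
    refine hM.end_ext fun w hw => ?_
    show ν (ν' (π w)) = π w
    rw [hν' w hw, hν _ (conj_ws hnR' hw)]
    congr 1
    group
  refine Nat.card_le_card_of_injective f fun φ ψ e => ?_
  have h1 : ν * φ.1 * ν' = ν * ψ.1 * ν' := congrArg Subtype.val e
  have h2 : ν' * (ν * φ.1 * ν') * ν = ν' * (ν * ψ.1 * ν') * ν := by rw [h1]
  have e3 : ∀ φ : AddMonoid.End M, ν' * (ν * φ * ν') * ν = φ := by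
    intro φ
    calc ν' * (ν * φ * ν') * ν = ν' * ν * φ * (ν' * ν) := by simp only [mul_assoc]
      _ = φ := by rw [e1, one_mul, mul_one]
  rw [e3, e3] at h2
  exact Subtype.ext h2

/-- points on one line through `R` -/
theorem same_line (hA : Adj V Z A R) (hB : Adj V Z B R) (hL : IsCj V L) (hRL : R ≤ L) (hAL : A ≤ L) (hBL : B ≤ L) :
    lamR π A ≤ lamR π B ∧ PhiT V Z R π A ≤ PhiT V Z R π B := by
  obtain ⟨k, hk, rfl⟩ := h.K_trans hA.right hL hRL hA.left hAL hB.left hBL hA.ne hB.ne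
  have hkW : ∀ w ∈ ws V R, k * w * k⁻¹ * w⁻¹ ∈ R := (mem_kx.1 hk).2
  have hk' := inv_mem hk
  have hkW' : ∀ w ∈ ws V R, k⁻¹ * w * k⁻¹⁻¹ * w⁻¹ ∈ R := (mem_kx.1 hk').2
  have hRW := h.pt_le_ws hA.right
  have hkw : ∀ w ∈ ws V R, k * w * k⁻¹ ∈ ws V R := fun w hw => by
    have e : k * w * k⁻¹ = k * w * k⁻¹ * w⁻¹ * w := by group
    rw [e]
    exact mul_mem (hRW (hkW w hw)) hw
  have hkw' : ∀ w ∈ ws V R, k⁻¹ * w * k⁻¹⁻¹ ∈ ws V R := fun w hw => by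
    have e : k⁻¹ * w * k⁻¹⁻¹ = k⁻¹ * w * k⁻¹⁻¹ * w⁻¹ * w := by group
    rw [e]
    exact mul_mem (hRW (hkW' w hw)) hw
  have hkR : PT.cj k R = R := cj_eq_iff.2 (kx_normalizes le_rfl hRW hk)
  constructor
  · intro m hm
    obtain ⟨a, ha, rfl⟩ := (h.mem_lam hM hA).1 hm
    refine (h.mem_lam hM hB).2 ⟨k * a * k⁻¹, conj_mem_cj ha, ?_⟩
    exact hM.eq_of (hkw a (h.adj_ws hA ha)) (h.adj_ws hA ha) (hkW a (h.adj_ws hA ha))
  · intro φ hφ
    obtain ⟨g, hg, e⟩ := (h.mem_phi hM hA).1 hφ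
    refine (h.mem_phi hM hB).2 ⟨k * g * k⁻¹, ?_, fun w hw => ?_⟩
    · have h1 := UT_cj V Z R A k
      rw [hkR] at h1
      rw [h1]
      exact conj_mem_cj hg
    · have h1 := hkw' w hw
      have h2 : π w = π (k⁻¹ * w * k⁻¹⁻¹) := (hM.eq_of h1 hw (hkW' w hw)).symm
      rw [h2, e _ h1]
      have h3 := h.c_ws hA hg h1
      have h4 : k * (g * (k⁻¹ * w * k⁻¹⁻¹) * g⁻¹ * (k⁻¹ * w * k⁻¹⁻¹)⁻¹) * k⁻¹ =
          k * g * k⁻¹ * w * (k * g * k⁻¹)⁻¹ * w⁻¹ := by group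
      rw [← h4]
      exact (hM.eq_of (hkw _ h3) h3 (hkW _ h3)).symm

/-- a common element of the points of `A`, `B`: they are on one line through `R` -/
theorem line_of (hA : Adj V Z A R) (hC : Adj V Z C R) {m : M} (hm : m ∈ lamR π A) (hm' : m ∈ lamR π C)
    (h0 : m ≠ 0) : ∃ L, IsCj V L ∧ R ≤ L ∧ A ≤ L ∧ C ≤ L := by
  obtain ⟨α, hα, rfl⟩ := (h.mem_lam hM hA).1 hm
  obtain ⟨β, hβ, e⟩ := (h.mem_lam hM hC).1 hm'
  have h1 : α * β⁻¹ ∈ R := hM.mem_of (h.adj_ws hA hα) (h.adj_ws hC hβ) e.symm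
  obtain ⟨L, hL, hjL, hRL⟩ := hC.line
  have hα1 : α ≠ 1 := fun e => h0 (by rw [e, hM.map_one])
  have hαL : α ∈ L := by
    have e1 : α = α * β⁻¹ * β := by group
    rw [e1]
    exact mul_mem (hRL h1) (hjL hβ)
  obtain ⟨T, hT, hTL, hαT⟩ := h.exists_point hL hαL hα1
  exact ⟨L, hL, hRL, (h.pts_eq hA.left hT hα hαT hα1) ▸ hTL, hjL⟩

theorem adj_cj_ut (hA : Adj V Z A R) (hB : Adj V Z B R) {g : G} (hg : g ∈ UT V Z R A) : Adj V Z (PT.cj g B) R := by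
  have h1 := hB.cj g
  rwa [h.cj_ut hA hg] at h1

/-- **the instance of `McL`** -/
theorem mcl (hR : IsCj Z R) : McL (fun i : {A // Adj V Z A R} => lamR π i.1) (fun i => PhiT V Z R π i.1) where
  fin := hM.fin
  two m := by
    obtain ⟨w, hw, rfl⟩ := hM.surj m
    rw [← hM.mul w hw w hw, h.ws_sq hR hw, hM.map_one]
  val i φ hφ m := by
    obtain ⟨g, hg, e⟩ := (h.mem_phi hM i.2).1 hφ
    obtain ⟨w, hw, rfl⟩ := hM.surj m
    rw [e w hw]
    exact h.pi_mem hM i.2 (h.ut_comm i.2 hg hw)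
  ker i φ hφ a ha := by
    obtain ⟨g, hg, e⟩ := (h.mem_phi hM i.2).1 hφ
    exact (h.kl_iff hM i.2 i.2 hg e).2 (fun a ha => h.u_A i.2 hg ha) a ha
  ti i j φ hφ b hb hb0 hφb := by
    obtain ⟨g, hg, e⟩ := (h.mem_phi hM i.2).1 hφ
    refine (h.kl_iff hM i.2 j.2 hg e).2 ?_
    obtain ⟨β, hβ, rfl⟩ := (h.mem_lam hM j.2).1 hb
    have hβ1 : β ≠ 1 := fun e => hb0 (by rw [e, hM.map_one])
    have h1 := (h.phi_zero_iff hM i.2 hg e (h.adj_ws j.2 hβ)).1 hφb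
    exact h.t3 j.2.symm (h.twoEl_ut hg) (fun r hr => h.u_R i.2 hg hr) hβ hβ1 h1
  card i j := by rw [h.card_lam hM i.2, h.card_lam hM j.2]
  surj i j b hb := by
    rintro ⟨φ, hφ, hφb⟩ a ha
    obtain ⟨g, hg, e⟩ := (h.mem_phi hM i.2).1 hφ
    obtain ⟨β, hβ, rfl⟩ := (h.mem_lam hM j.2).1 hb
    obtain ⟨α, hα, rfl⟩ := (h.mem_lam hM i.2).1 ha
    have h1 : g * β ≠ β * g := fun e1 => hφb ((h.phi_zero_iff hM i.2 hg e (h.adj_ws j.2 hβ)).2 e1)
    obtain ⟨g', hg', e'⟩ := h.ut_val i.2 (h.adj_ws j.2 hβ) ⟨g, hg, h1⟩ hα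
    obtain ⟨ψ, hψ, e2⟩ := h.exists_phi hM i.2 hg'
    exact ⟨ψ, hψ, by rw [e2 β (h.adj_ws j.2 hβ), e']⟩
  cardΦ i j := le_antisymm (h.card_phi_le hM i.2 j.2) (h.card_phi_le hM j.2 i.2)
  mv i j φ hφ := by
    obtain ⟨g, hg, e⟩ := (h.mem_phi hM i.2).1 hφ
    have hk : Adj V Z (PT.cj g j.1) R := h.adj_cj_ut hM i.2 j.2 hg
    have hg' := inv_mem hg
    -- the action of `1 + φ`
    have e1 : ∀ w ∈ ws V R, (1 + φ) (π w) = π (g * w * g⁻¹) := by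
      intro w hw
      show π w + φ (π w) = _
      rw [e w hw, ← hM.mul w hw _ (h.c_ws i.2 hg hw), h.ws_comm hR hw (h.c_ws i.2 hg hw)]
      congr 1
      group
    have e2 : ∀ w ∈ ws V R, (1 + φ) (π w) = π (g⁻¹ * w * g) := by
      intro w hw
      show π w + φ (π w) = _
      have h1 := h.c_ws i.2 hg hw
      have h2 : φ (π w) = π (g⁻¹ * w * g⁻¹⁻¹ * w⁻¹) := by
        rw [h.c_inv i.2 hg hw, e w hw, h.ws_inv hR h1]
      rw [h2, ← hM.mul w hw _ (h.c_ws i.2 hg' hw), h.ws_comm hR hw (h.c_ws i.2 hg' hw)]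
      congr 1
      group
    refine ⟨⟨PT.cj g j.1, hk⟩, fun m hm => ?_, fun ψ hψ => ?_⟩
    · obtain ⟨b, hb, rfl⟩ := (h.mem_lam hM j.2).1 hm
      have h1 := e1 b (h.adj_ws j.2 hb)
      have h2 : π b + φ (π b) = π (g * b * g⁻¹) := h1
      rw [h2]
      exact h.pi_mem hM hk (conj_mem_cj hb)
    · obtain ⟨k, hk', e3⟩ := (h.mem_phi hM j.2).1 hψ
      refine (h.mem_phi hM hk).2 ⟨g * k * g⁻¹, ?_, fun w hw => ?_⟩
      · have h1 := UT_cj V Z R j.1 g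
        rw [h.cj_ut i.2 hg] at h1
        rw [h1]
        exact conj_mem_cj hk'
      · show (1 + φ) (ψ ((1 + φ) (π w))) = _
        have hw1 : g⁻¹ * w * g ∈ ws V R := by
          have := h.u_ws i.2 hg' hw
          rwa [inv_inv] at this
        rw [e2 w hw, e3 _ hw1, e1 _ (h.c_ws j.2 hk' hw1)]
        congr 1
        group
  lne i := by
    obtain ⟨a, ha, ha1⟩ := h.pt_ne_bot i.2.left
    exact ⟨π a, h.pi_mem hM i.2 ha, h.pi_ne hM i.2 ha ha1⟩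
  ne i := by
    obtain ⟨C, hc, hf⟩ := h.exists_flat i.2
    obtain ⟨g, hg, w, hw, hgw⟩ : ∃ g ∈ ws V C, ∃ w ∈ ws V R, g * w ≠ w * g := by
      by_contra hcon
      push Not at hcon
      exact hc.ne fun g hg => mem_centralizer_iff.2 fun w hw => (hcon g hg w hw).symm
    have hgU : g ∈ UT V Z R i.1 := le_UT hc.l hf hg
    obtain ⟨φ, hφ, e⟩ := h.exists_phi hM i.2 hgU
    refine ⟨φ, hφ, fun e1 => hgw ?_⟩
    refine (h.phi_zero_iff hM i.2 hgU e hw).1 ?_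
    rw [e1]
    rfl
  gen φ hφ := by
    refine hM.end_ext fun w hw => ?_
    show φ (π w) = 0
    let K : Subgroup G :=
      { carrier := {w | w ∈ ws V R ∧ φ (π w) = 0}
        one_mem' := ⟨one_mem _, by rw [hM.map_one, map_zero]⟩
        mul_mem' := by
          rintro a b ⟨ha, ha'⟩ ⟨hb, hb'⟩
          exact ⟨mul_mem ha hb, by rw [hM.mul a ha b hb, map_add, ha', hb', add_zero]⟩
        inv_mem' := by
          rintro a ⟨ha, ha'⟩
          exact ⟨inv_mem ha, by rw [hM.map_inv ha, map_neg, ha', neg_zero]⟩ }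
    have hK : ws V R ≤ K := by
      refine h.ws_le_of hR (fun r hr => ⟨h.pt_le_ws hR hr, ?_⟩) (fun B hB b hb => ⟨h.adj_ws hB hb, ?_⟩)
      · rw [(hM.ker r (h.pt_le_ws hR hr)).2 hr, map_zero]
      · exact hφ ⟨B, hB⟩ _ (h.pi_mem hM hB hb)
    exact (hK hw).2
  same i j a ha ha' ha0 := by
    obtain ⟨L, hL, hRL, hiL, hjL⟩ := h.line_of hM i.2 j.2 ha ha' ha0
    have h2 := h.same_line hM i.2 j.2 hL hRL hiL hjL
    have h3 := h.same_line hM j.2 i.2 hL hRL hjL hiL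
    exact ⟨le_antisymm h2.1 h3.1, le_antisymm h2.2 h3.2⟩

/-- **`Big`** -/
theorem big (hc : Cr V Z C A R) (hf : Flat V C A R) {w m : G} (hw : w ∈ ws V C) (hm : m ∈ ws V R) (hwm : w * m = m * w)
    (hw' : ∃ b ∈ ws V R, w * b ≠ b * w) (hm' : ∃ a ∈ ws V C, a * m ≠ m * a) :
    McL.Big (fun i : {A // Adj V Z A R} => lamR π i.1) (fun i => PhiT V Z R π i.1) := by
  have hA : Adj V Z A R := hc.r
  have hR := hA.right
  have h0 := h.mcl hM hR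
  have hfin := hM.fin
  have hfinE : Finite (AddMonoid.End M) := DFunLike.finite _
  -- evaluation at `m` on `Φ_A` : onto, with a kernel
  obtain ⟨φ₀, hφ₀, e₀⟩ := h.exists_phi hM hA (le_UT hc.l hf hw)
  have hφ₀m : φ₀ (π m) = 0 := (h.phi_zero_iff hM hA (le_UT hc.l hf hw) e₀ hm).2 hwm
  have hφ₀0 : φ₀ ≠ 0 := by
    intro e
    obtain ⟨b, hb, hne⟩ := hw'
    refine hne ((h.phi_zero_iff hM hA (le_UT hc.l hf hw) e₀ hb).1 ?_)
    rw [e]
    rfl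
  have hlt : Nat.card (lamR π A) < Nat.card (PhiT V Z R π A) := by
    let f : PhiT V Z R π A → lamR π A := fun φ => ⟨φ.1 (π m), h0.val ⟨A, hA⟩ φ.1 φ.2 (π m)⟩
    have hs : Function.Surjective f := by
      rintro ⟨a, ha⟩
      obtain ⟨α, hα, rfl⟩ := (h.mem_lam hM hA).1 ha
      obtain ⟨g, hg, e⟩ := h.flat_val hA hc.l hf hm hm' hα
      obtain ⟨φ, hφ, e'⟩ := h.exists_phi hM hA (le_UT hc.l hf hg)
      exact ⟨⟨φ, hφ⟩, Subtype.ext (by show φ (π m) = π α; rw [e' m hm, e])⟩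
    by_contra hle
    have hb : Function.Bijective f := hs.bijective_of_nat_card_le (not_lt.1 hle)
    have h2 : f ⟨φ₀, hφ₀⟩ = f ⟨0, zero_mem _⟩ := Subtype.ext (by
      show φ₀ (π m) = (0 : AddMonoid.End M) (π m)
      rw [hφ₀m]
      rfl)
    exact hφ₀0 (congrArg Subtype.val (hb.1 h2))
  -- a joined point
  obtain ⟨j, hj⟩ := h0.exists_not_kl (i := ⟨A, hA⟩) hφ₀ hφ₀0
  have hJ : JJ (fun i : {A // Adj V Z A R} => lamR π i.1) (fun i => PhiT V Z R π i.1) ⟨A, hA⟩ j := h0.jj hφ₀ hj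
  obtain ⟨β, hβ, hβ0⟩ := h0.lne j
  obtain ⟨φ, hφ, hφ0, hφβ⟩ : ∃ φ ∈ PhiT V Z R π A, φ ≠ 0 ∧ φ β = 0 := by
    by_contra hcon
    push Not at hcon
    let f : PhiT V Z R π A → lamR π A := fun φ => ⟨φ.1 β, h0.val ⟨A, hA⟩ φ.1 φ.2 β⟩
    refine absurd (Nat.card_le_card_of_injective f fun φ ψ e => ?_) (not_le.2 hlt)
    have h2 : φ.1 β = ψ.1 β := congrArg Subtype.val e
    by_contra hne
    refine hcon (φ.1 - ψ.1) (sub_mem φ.2 ψ.2) (fun e => hne (Subtype.ext (sub_eq_zero.1 e))) ?_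
    show φ.1 β - ψ.1 β = 0
    rw [h2, sub_self]
  exact h0.big_of hJ hφ (h0.kl_of (i := ⟨A, hA⟩) hφ hβ hβ0 hφβ) hφ0

/-- **`Dist`** -/
theorem dist (hNF : NF V Z) (hR : IsCj Z R) :
    Dist (fun i : {A // Adj V Z A R} => lamR π i.1) (fun i => PhiT V Z R π i.1) := by
  have h0 := h.mcl hM hR
  -- the common centraliser
  let N : Subgroup G :=
    { carrier := {w | w ∈ ws V R ∧ ∀ B, Adj V Z B R → ∀ u ∈ UT V Z R B, u * w = w * u}
      one_mem' := ⟨one_mem _, fun _ _ u _ => by rw [mul_one, one_mul]⟩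
      mul_mem' := by
        rintro a b ⟨ha, ha'⟩ ⟨hb, hb'⟩
        exact ⟨mul_mem ha hb, fun Y hY u hu => by rw [← mul_assoc, ha' Y hY u hu, mul_assoc, hb' Y hY u hu, mul_assoc]⟩
      inv_mem' := by
        rintro a ⟨ha, ha'⟩
        exact ⟨inv_mem ha, fun Y hY u hu => by
          rw [mul_inv_eq_iff_eq_mul, mul_assoc, ha' Y hY u hu, inv_mul_cancel_left]⟩ }
  have hRN : R ≤ N := fun r hr => ⟨h.pt_le_ws hR hr, fun B hB u hu => h.u_R hB hu hr⟩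
  have hcen : centralizer (R : Set G) ≤ normalizer (N : Set G) := by
    have key : ∀ n ∈ centralizer (R : Set G), ∀ w ∈ N, n * w * n⁻¹ ∈ N := by
      intro n hn w hw
      have hnR : PT.cj n R = R := cj_eq_iff.2 (centralizer_le_normalizer _ hn)
      have hnR' : PT.cj n⁻¹ R = R := cj_eq_iff.2 (centralizer_le_normalizer _ (inv_mem hn))
      refine ⟨conj_ws hnR hw.1, fun B hB u hu => ?_⟩
      have h1 : Adj V Z (PT.cj n⁻¹ B) R := by
        have h2 := hB.cj n⁻¹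
        rwa [hnR'] at h2
      have h3 : n⁻¹ * u * n ∈ UT V Z R (PT.cj n⁻¹ B) := by
        have h4 := UT_cj V Z R B n⁻¹
        rw [hnR'] at h4
        rw [h4]
        have := conj_mem_cj (g := n⁻¹) hu
        rwa [inv_inv] at this
      have h4 := hw.2 _ h1 _ h3
      calc u * (n * w * n⁻¹) = n * ((n⁻¹ * u * n) * w) * n⁻¹ := by group
        _ = n * w * n⁻¹ * u := by rw [h4]; group
    intro n hn
    rw [mem_normalizer_iff]
    intro w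
    refine ⟨key n hn w, fun hw => ?_⟩
    have h1 := key n⁻¹ (inv_mem hn) _ hw
    have e : n⁻¹ * (n * w * n⁻¹) * n⁻¹⁻¹ = w := by group
    rwa [e] at h1
  have hNR : N = R := by
    obtain ⟨L, hL, hRL⟩ := h.exists_line hR
    refine hNF R L N hR hL hRL hRN (fun w hw => hw.1) hcen (le_antisymm ?_ (le_inf hRN hRL))
    rintro v ⟨hv, hvL⟩
    by_contra hvR
    have hv1 : v ≠ 1 := fun e => hvR (e ▸ one_mem _)
    obtain ⟨B, hB, hBL, hvB⟩ := h.exists_point hL hvL hv1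
    have hBR : Adj V Z B R := ⟨hB, hR, fun e => hvR (e ▸ hvB), L, hL, hBL, hRL⟩
    -- `Φ_B` moves something, so something moves `B`
    obtain ⟨φ, hφ, hφ0⟩ := h0.ne ⟨B, hBR⟩
    obtain ⟨j, hj⟩ := h0.exists_not_kl hφ hφ0
    have hJ := h0.symm (h0.jj hφ hj)
    obtain ⟨ψ, hψ, hne⟩ := h0.moves hJ (h.pi_mem hM hBR hvB) (h.pi_ne hM hBR hvB hv1)
    obtain ⟨g, hg, e⟩ := (h.mem_phi hM j.2).1 hψ
    exact hne ((h.phi_zero_iff hM j.2 hg e (h.adj_ws hBR hvB)).2 (hv.2 j.1 j.2 g hg))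
  rintro ⟨A, hA⟩ ⟨B, hB⟩ a ha b hb hk
  obtain ⟨α, hα, rfl⟩ := (h.mem_lam hM hA).1 ha
  obtain ⟨β, hβ, rfl⟩ := (h.mem_lam hM hB).1 hb
  have h1 := h.adj_ws hA hα
  have h2 := h.adj_ws hB hβ
  rw [← hM.mul _ h1 _ h2, hM.ker _ (mul_mem h1 h2), ← hNR]
  refine ⟨mul_mem h1 h2, fun X hX u hu => ?_⟩
  obtain ⟨φ, hφ, e⟩ := h.exists_phi hM hX hu
  have h3 := hk ⟨X, hX⟩ φ hφ
  rw [← hM.mul _ h1 _ h2] at h3
  exact (h.phi_zero_iff hM hX hu e (mul_mem h1 h2)).1 h3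

end

end TT

end Cfsg.Agent.Omega.NO3S.MidB.No
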