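import Cfsg.Agent.Omega.NO3S.MidB.No.Defs
import Cfsg.Agent.Omega.NO3S.PB.Syl
import Cfsg.Agent.Involutions.BaerSuzuki

/-!
# NO-3S, natural lines, critical distance 2: movers (bb OMEGA #20170 (D))

* `o2_le_kx` : a normal 2-subgroup of `C_G(X)` lies in `K_X` (`O₂(C_G(X)/K_X) = 1`);
* `UU_le_o2_line` : `U_R ≤ O₂(C_G(L))` for the lines `L` on `R`;
* `not_line` : an odd element `k ≠ 1` inverted by `f ∈ O₂(C_G(L))` moves `L`;
* `exists_mv` : `f ∈ W_B - C(W_A)` has a mover `k`: `Mv V Z A R B f k`;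
* `Mv.pow`, `Mv.swap`, `Mv.inv'`, `Mv.pow_ne_one`, `Mv.mv_iff`.
-/

set_option autoImplicit false
set_option linter.unusedSectionVars false

namespace Cfsg.Agent.Omega.NO3S.MidB.No

open Subgroup Cfsg.Agent.Omega.NO3S.PT Cfsg.Agent.Omega.NoFF.Basic Cfsg.Agent.ZN
open Cfsg.Agent.Omega.NO3S.MidQ (Adj Com Cr UU isCj_iff le_UU normalizer_le_UU)
open Cfsg.Agent.MinSimple.VModule (le_o2 o2_isPGroup)
open scoped Pointwise

variable {G : Type*} [Group G]

/-! ### Elements of odd order inverted by `f` -/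

/-- an element of odd order is a power of its square -/
theorem mov_sq {h : G} (ho : Odd (orderOf h)) : ∃ k : ℕ, (h * h) ^ k = h := by
  obtain ⟨k, hk⟩ := ho
  refine ⟨k + 1, ?_⟩
  rw [← pow_two, ← pow_mul, show 2 * (k + 1) = orderOf h + 1 by omega, pow_succ, pow_orderOf_eq_one, one_mul]

theorem mov_mem {h : G} (ho : Odd (orderOf h)) {N : Subgroup G} (h2 : h * h ∈ N) : h ∈ N := by
  obtain ⟨k, hk⟩ := mov_sq ho
  rw [← hk]
  exact pow_mem h2 k

theorem mov_inv {f h : G} (hi : f * h * f⁻¹ = h⁻¹) : f * h⁻¹ * f⁻¹ = h := by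
  have := congrArg (fun x => x⁻¹) hi
  simpa [mul_assoc] using this

/-- `h f h⁻¹ f⁻¹ = h²` if `f` inverts `h` -/
theorem mov_conj {f h : G} (hi : f * h * f⁻¹ = h⁻¹) : h * f * h⁻¹ * f⁻¹ = h * h := by
  calc h * f * h⁻¹ * f⁻¹ = h * (f * h⁻¹ * f⁻¹) := by group
    _ = h * h := by rw [mov_inv hi]

theorem mov_pow {f h : G} (hi : f * h * f⁻¹ = h⁻¹) (i : ℕ) : f * h ^ i * f⁻¹ = (h ^ i)⁻¹ := by
  rw [← conj_pow, hi, inv_pow]

theorem mov_odd {h : G} (ho : Odd (orderOf h)) (i : ℕ) : Odd (orderOf (h ^ i)) :=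
  Odd.of_dvd_nat ho (orderOf_pow_dvd i)

/-- a 2-element of odd order is trivial -/
theorem mov_one {h : G} (ho : Odd (orderOf h)) {N : Subgroup G} (hN : IsPGroup 2 N) (h1 : h ∈ N) : h = 1 := by
  obtain ⟨k, hk⟩ := hN ⟨h, h1⟩
  have hk' : h ^ 2 ^ k = 1 := congrArg Subtype.val hk
  have h4 : orderOf h ∣ 2 ^ k := orderOf_dvd_of_pow_eq_one hk'
  have h5 : Nat.Coprime (orderOf h) (2 ^ k) := Nat.Coprime.pow_right _ (Nat.coprime_two_right.2 ho)
  exact orderOf_eq_one_iff.1 (Nat.eq_one_of_dvd_coprimes h5 dvd_rfl h4)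

theorem mov_norm_cent {A : Subgroup G} :
    normalizer (A : Set G) ≤ normalizer ((centralizer (A : Set G) : Subgroup G) : Set G) := by
  intro g hg
  rw [mem_normalizer_iff]
  have key : ∀ g ∈ normalizer (A : Set G), ∀ a ∈ centralizer (A : Set G), g * a * g⁻¹ ∈ centralizer (A : Set G) := by
    intro g hg a ha
    rw [mem_centralizer_iff] at ha ⊢
    intro w hw
    have hw' : g⁻¹ * w * g ∈ A := by
      have := (mem_normalizer_iff.1 (inv_mem hg) w).1 hw
      rwa [inv_inv] at this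
    have h3 := ha _ hw'
    calc w * (g * a * g⁻¹) = g * (g⁻¹ * w * g * a) * g⁻¹ := by group
      _ = g * (a * (g⁻¹ * w * g)) * g⁻¹ := by rw [h3]
      _ = g * a * g⁻¹ * w := by group
  intro x
  refine ⟨key g hg x, fun hx => ?_⟩
  have := key g⁻¹ (inv_mem hg) _ hx
  have e : g⁻¹ * (g * x * g⁻¹) * g⁻¹⁻¹ = x := by group
  rwa [e] at this

/-- an odd element `k ≠ 1` inverted by `f ∈ O₂(C_G(L))` does not normalise `L` -/
theorem not_line [Finite G] {L : Subgroup G} {f k : G} (hf : f ∈ o2 (centralizer (L : Set G)))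
    (ho : Odd (orderOf k)) (hi : f * k * f⁻¹ = k⁻¹) (h1 : k ≠ 1) : cj k L ≠ L := by
  intro hL
  have : Fact (Nat.Prime 2) := ⟨Nat.prime_two⟩
  have hn : k ∈ normalizer (L : Set G) := cj_eq_iff.1 hL
  have hN : normalizer (L : Set G) ≤ normalizer ((o2 (centralizer (L : Set G)) : Subgroup G) : Set G) :=
    mov_norm_cent.trans (Omega.normalizer_le_normalizer_o2' _)
  have h2 : k * f * k⁻¹ * f⁻¹ ∈ o2 (centralizer (L : Set G)) :=
    mul_mem ((mem_normalizer_iff.1 (hN hn) f).1 hf) (inv_mem hf)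
  rw [mov_conj hi] at h2
  exact h1 (mov_one ho (o2_isPGroup _) (mov_mem ho h2))

variable [Finite G] {S : Sylow 2 G} {P V Z X Y R A B L : Subgroup G}

/-- **`O₂(C_G(X)/K_X) = 1`** : a normal 2-subgroup of `C_G(X)` lies in `K_X` -/
theorem o2_le_kx (h : Mid S P V Z) (hX : IsCj Z X) {N : Subgroup G} (hN : IsPGroup 2 N)
    (hNX : N ≤ centralizer (X : Set G)) (hn : centralizer (X : Set G) ≤ normalizer (N : Set G)) : N ≤ kx V X := by
  intro q hq
  refine mem_kx.2 ⟨fun x hx => (mem_centralizer_iff.1 (hNX hq) x hx).symm, ?_⟩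
  -- `{w ∈ C_G(X) | [q, w] ∈ X}`
  let D : Subgroup G :=
    { carrier := {w | w ∈ centralizer (X : Set G) ∧ q * w * q⁻¹ * w⁻¹ ∈ X}
      one_mem' := ⟨one_mem _, by
        have : q * 1 * q⁻¹ * 1⁻¹ = 1 := by group
        rw [this]; exact one_mem _⟩
      mul_mem' := by
        rintro a b ⟨ha, ha1⟩ ⟨hb, hb1⟩
        refine ⟨mul_mem ha hb, ?_⟩
        have h1 := mem_centralizer_iff.1 ha _ hb1
        have e : q * (a * b) * q⁻¹ * (a * b)⁻¹ = (q * a * q⁻¹ * a⁻¹) * (a * (q * b * q⁻¹ * b⁻¹) * a⁻¹) := by group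
        rw [e, ← h1, mul_inv_cancel_right]
        exact mul_mem ha1 hb1
      inv_mem' := by
        rintro a ⟨ha, ha1⟩
        refine ⟨inv_mem ha, ?_⟩
        have h1 := mem_centralizer_iff.1 (inv_mem ha) _ (inv_mem ha1)
        have e : q * a⁻¹ * q⁻¹ * a⁻¹⁻¹ = a⁻¹ * (q * a * q⁻¹ * a⁻¹)⁻¹ * a⁻¹⁻¹ := by group
        rw [e, ← h1, mul_inv_cancel_right]
        exact inv_mem ha1 }
  have hD : ws V X ≤ D := by
    refine ws_le fun L hL hXL => ?_
    obtain ⟨T, Q, h'⟩ := h.flag hX hL hXL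
    have hB := h'.pl.B_le
    obtain ⟨m, hm, hle⟩ := h'.pl.exists_le_conj (H := centralizer (X : Set G)) hB le_rfl hN hNX
    have hNB : N ≤ (T : Subgroup G) ⊓ centralizer (X : Set G) := by
      have h1 := cj_eq_iff.2 (hn hm)
      rw [← h1] at hle
      exact cj_le_cj.1 hle
    intro v hv
    refine ⟨mem_centralizer_iff.2 fun x hx => h'.pl.Vcomm (hXL hx) hv, ?_⟩
    exact h'.pl.act q (hNB hq) v hv
  exact fun w hw => (hD hw).2

/-- `U_R ≤ O₂(C_G(L))` for the lines `L` on `R` -/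
theorem UU_le_o2_line (h : Mid S P V Z) (hL : IsCj V L) (hRL : R ≤ L) :
    UU V Z R ≤ o2 (centralizer (L : Set G)) := by
  have h1 : UU V Z R ≤ centralizer (L : Set G) :=
    (h.UU_le_centralizer R).trans (centralizer_le (le_ws hL hRL))
  refine le_o2 h1 (h.isPGroup_UU R) ?_
  exact (centralizer_le hRL).trans ((centralizer_le_normalizer _).trans (normalizer_le_UU V Z R))

/-- **existence of movers** -/
theorem exists_mv (h : Mid S P V Z) (hc : Cr V Z A R B) {f : G} (hf : f ∈ ws V B)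
    (hn : ¬ ∀ x ∈ ws V A, f * x = x * f) : ∃ k, Mv V Z A R B f k := by
  have : Fact (Nat.Prime 2) := ⟨Nat.prime_two⟩
  have hA := hc.l.left
  have hff : f * f = 1 := h.ws_sq hc.r.right hf
  have hfA : f ∈ centralizer (A : Set G) := h.ws_le_cent hc.r.symm hc.l.symm hf
  -- `f` is in no normal 2-subgroup of `C_G(A)`
  let C : Subgroup G := centralizer (A : Set G)
  obtain ⟨k, hk1, hko, hki⟩ := Cfsg.Agent.Involutions.BaerSuzuki.exists_odd_inverted (G := C) ⟨f, hfA⟩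
    (Subtype.ext hff) (by
      intro hP
      have hmap : IsPGroup 2 ((normalClosure {(⟨f, hfA⟩ : C)} : Subgroup C).map C.subtype) := hP.map _
      have hle : (normalClosure {(⟨f, hfA⟩ : C)} : Subgroup C).map C.subtype ≤ kx V A := by
        refine o2_le_kx h hA hmap (by
          rintro _ ⟨x, -, rfl⟩
          exact x.2) ?_
        intro c hc'
        have key : ∀ c ∈ C, ∀ x ∈ (normalClosure {(⟨f, hfA⟩ : C)} : Subgroup C).map C.subtype,
            c * x * c⁻¹ ∈ (normalClosure {(⟨f, hfA⟩ : C)} : Subgroup C).map C.subtype := by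
          rintro c hc' _ ⟨x, hx, rfl⟩
          refine ⟨⟨c, hc'⟩ * x * ⟨c, hc'⟩⁻¹, ?_, rfl⟩
          exact (inferInstance : (normalClosure {(⟨f, hfA⟩ : C)} : Subgroup C).Normal).conj_mem x hx _
        rw [mem_normalizer_iff]
        refine fun x => ⟨key c hc' x, fun hx => ?_⟩
        have := key c⁻¹ (inv_mem hc') _ hx
        have e : c⁻¹ * (c * x * c⁻¹) * c⁻¹⁻¹ = x := by group
        rwa [e] at this
      have hfk : f ∈ kx V A := hle ⟨⟨f, hfA⟩, subset_normalClosure rfl, rfl⟩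
      exact hn (h.cent_of_mod hc hf (mem_kx.1 hfk).2))
  have hki' : f * (k : G) * f⁻¹ = (k : G)⁻¹ := congrArg Subtype.val hki
  have hko' : Odd (orderOf (k : G)) := by rwa [Subgroup.orderOf_coe]
  refine ⟨k, hc, hf, hn, fun x hx => (mem_centralizer_iff.1 k.2 x hx).symm, hko', fun e => hk1 (Subtype.ext e), hki', ?_⟩
  intro i hi L hL _ hRL
  exact not_line (UU_le_o2_line h hL hRL (le_UU hc.r.symm hf)) (mov_odd hko' i) (mov_pow hki' i) hi

/-! ### API for `Mv` -/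

namespace Mv

variable {f k : G}

omit [Finite G] in
/-- the powers of a mover -/
theorem pow (m : Mv V Z A R B f k) {i : ℕ} (hi : k ^ i ≠ 1) : Mv V Z A R B f (k ^ i) where
  cr := m.cr
  mem := m.mem
  ncent := m.ncent
  cent x hx := by
    have h1 : Commute k x := m.cent x hx
    exact (h1.pow_left i).eq
  odd := mov_odd m.odd i
  ne := hi
  inv := mov_pow m.inv i
  mv j hj L hL hA hR := by
    rw [← pow_mul] at hj ⊢
    exact m.mv _ hj L hL hA hR

omit [Finite G] in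
/-- the square of a mover is a mover -/
theorem sq_ne (m : Mv V Z A R B f k) : k * k ≠ 1 := by
  intro h1
  obtain ⟨j, hj⟩ := mov_sq m.odd
  rw [h1, one_pow] at hj
  exact m.ne hj.symm

omit [Finite G] in
theorem sq (m : Mv V Z A R B f k) : Mv V Z A R B f (k * k) := by
  have h1 := m.pow (i := 2) (by rw [pow_two]; exact m.sq_ne)
  rwa [pow_two] at h1

omit [Finite G] in
/-- the inverse of a mover -/
theorem symm (m : Mv V Z A R B f k) : Mv V Z A R B f k⁻¹ where
  cr := m.cr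
  mem := m.mem
  ncent := m.ncent
  cent x hx := by
    have h1 : Commute k x := m.cent x hx
    exact h1.inv_left.eq
  odd := by rw [orderOf_inv]; exact m.odd
  ne := inv_ne_one.2 m.ne
  inv := by rw [mov_inv m.inv, inv_inv]
  mv i hi L hL hA hR := by
    intro e
    rw [inv_pow] at hi e
    refine m.mv i (fun e' => hi (by rw [e', inv_one])) L hL hA hR ?_
    rw [cj_eq_iff] at e ⊢
    have := inv_mem e
    rwa [inv_inv] at this

omit [Finite G] in
/-- every mover has a square root among its powers -/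
theorem exists_sqrt (m : Mv V Z A R B f k) : ∃ i, Mv V Z A R B f (k ^ i) ∧ k ^ i * k ^ i = k := by
  obtain ⟨j, hj⟩ := mov_sq m.odd
  refine ⟨j, m.pow (fun e => ?_), ?_⟩
  · apply m.ne
    rw [← hj, ← pow_two, ← pow_mul, mul_comm, pow_mul, e, one_pow]
  · rw [← pow_add, ← two_mul, pow_mul, pow_two, hj]

omit [Finite G] in
/-- `k` fixes `A` -/
theorem cj_A (m : Mv V Z A R B f k) : cj k A = A :=
  cj_eq_iff.2 (centralizer_le_normalizer _ (mem_centralizer_iff.2 fun x hx => (m.cent x hx).symm))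

omit [Finite G] in
/-- `A ~ R^k` -/
theorem adj (m : Mv V Z A R B f k) : Adj V Z A (cj k R) := by
  obtain ⟨h1, h2, h3, L, h4, h5, h6⟩ := m.cr.l
  refine ⟨h1, h2.cj k, fun e => h3 ?_, cj k L, h4.cj k, ?_, cj_le_cj.2 h6⟩
  · rw [← m.cj_A] at e
    exact cj_inj.1 e
  · rw [← m.cj_A]; exact cj_le_cj.2 h5

omit [Finite G] in
/-- `R^k ≠ R` -/
theorem cj_ne (m : Mv V Z A R B f k) (hu : ∀ L M, IsCj V L → IsCj V M → A ≤ L → R ≤ L → A ≤ M → R ≤ M → L = M) :
    cj k R ≠ R := by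
  intro e
  obtain ⟨L, h4, h5, h6⟩ := m.cr.l.line
  refine m.mv 1 (by rw [pow_one]; exact m.ne) L h4 h5 h6 ?_
  rw [pow_one]
  refine hu _ _ (h4.cj k) h4 ?_ ?_ h5 h6
  · rw [← m.cj_A]; exact cj_le_cj.2 h5
  · rw [← e]; exact cj_le_cj.2 h6

/-- `f` centralises `W_R` -/
theorem f_cent (h : Mid S P V Z) (m : Mv V Z A R B f k) : f ∈ centralizer ((ws V R : Subgroup G) : Set G) :=
  h.com B R m.cr.r.symm m.mem

/-- `f` centralises `A` -/
theorem f_cent_A (h : Mid S P V Z) (m : Mv V Z A R B f k) : f ∈ centralizer (A : Set G) :=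
  h.ws_le_cent m.cr.r.symm m.cr.l.symm m.mem

/-- `f` fixes `R` -/
theorem f_R (h : Mid S P V Z) (m : Mv V Z A R B f k) : cj f R = R :=
  cj_eq_iff.2 (centralizer_le_normalizer _ (centralizer_le (h.pt_le_ws m.cr.l.right) (m.f_cent h)))

/-- `(R^k)^f = R^(k⁻¹)` -/
theorem f_cj (h : Mid S P V Z) (m : Mv V Z A R B f k) : cj f (cj k R) = cj k⁻¹ R := by
  have e : f * k = k⁻¹ * f := by rw [← m.inv]; group
  rw [cj_cj, e, ← cj_cj, m.f_R h]

/-- `f^(k)` centralises `W_{R^k}` -/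
theorem f_cent_cj (h : Mid S P V Z) (m : Mv V Z A R B f k) :
    k * f * k⁻¹ ∈ centralizer ((ws V (cj k R) : Subgroup G) : Set G) := by
  rw [ws_cj, ← cj_centralizer]
  exact conj_mem_cj (m.f_cent h)

/-- the line on `A`, `R^k` is not the line on `A`, `R` -/
theorem line_ne (m : Mv V Z A R B f k) {L : Subgroup G} (hL : IsCj V L) (hA : A ≤ L) (hR : R ≤ L) :
    cj k L ≠ L := by
  have h1 := m.mv 1 (by rw [pow_one]; exact m.ne) L hL hA hR
  rwa [pow_one] at h1

/-- `R^k` is not on the line `AR` -/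
theorem not_le (h : Mid S P V Z) (m : Mv V Z A R B f k) {L : Subgroup G} (hL : IsCj V L) (hA : A ≤ L) (hR : R ≤ L) :
    ¬ cj k R ≤ L := by
  intro e
  refine m.line_ne hL hA hR ?_
  have h1 := m.adj
  refine h.line_unique m.cr.l.left h1.right h1.ne (hL.cj k) hL ?_ (cj_le_cj.2 hR) hA e
  rw [← m.cj_A]; exact cj_le_cj.2 hA

theorem cj_ne_R (h : Mid S P V Z) (m : Mv V Z A R B f k) : cj k R ≠ R := by
  intro e
  obtain ⟨L, h4, h5, h6⟩ := m.cr.l.line
  exact m.not_le h h4 h5 h6 (by rw [e]; exact h6)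

/-- `R^(k⁻¹)` is not on the line `A R^k` -/
theorem not_le' (h : Mid S P V Z) (m : Mv V Z A R B f k) {L : Subgroup G} (hL : IsCj V L) (hA : A ≤ L)
    (hR : cj k R ≤ L) : ¬ cj k⁻¹ R ≤ L := by
  intro e
  have hA' : A ≤ cj k⁻¹ L := by
    rw [← m.symm.cj_A]; exact cj_le_cj.2 hA
  have h1 : R ≤ cj k⁻¹ L := by
    have := (cj_le_cj (g := k⁻¹)).2 hR
    rwa [cj_cj, inv_mul_cancel, cj_one] at this
  refine (m.sq.symm).not_le h (hL.cj k⁻¹) hA' h1 ?_
  have := (cj_le_cj (g := k⁻¹)).2 e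
  rwa [cj_cj, ← mul_inv_rev] at this

end Mv


end Cfsg.Agent.Omega.NO3S.MidB.No
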