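import Cfsg.Agent.Omega.NO3S.MidB.No.DistT
import Cfsg.Agent.Omega.NO3S.MidB.No.BadPlug
import Cfsg.Agent.Omega.NO3S.MidB.No.Mov
import Cfsg.Agent.Omega.NO3S.MidB.No.EndB
import Cfsg.Agent.Omega.NO3S.MidB.No.InnG6

/-!
# NO-3S, natural lines, critical distance 2: `Mid` + (NO) gives `TypN` (bb OMEGA #19438, #20170): the assembly

* `Mid.typN_of_innN` : `Mid`, (NO), `FullK` and THEOREM INN give TYPE N;
* `Mid.typN_of_no` : `Mid`, `q ≥ 4`, (NO) and `FullK` give TYPE N.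
-/

set_option autoImplicit false

namespace Cfsg.Agent.Omega.NO3S.MidB

open Subgroup Cfsg.Agent.Omega.NO3S.PT Cfsg.Agent.Omega.NoFF.Basic Cfsg.Agent.ZN Cfsg.Agent.Omega.NO3S.MidB.No
open Cfsg.Agent.Omega.NO3S.MidQ (Adj Com Cr UU TypN)

variable {G : Type*} [Group G] [Finite G] {S : Sylow 2 G} {P V Z : Subgroup G}

/-- **`Mid` + (NO) + `FullK` + INN gives TYPE N** -/
theorem Mid.typN_of_innN (h : Mid S P V Z) (hNO : NOg V Z) (hF : FullK V Z) (hI : InnN V Z) : TypN V Z := by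
  by_contra hcon
  have hex : ∃ A R B, Cr V Z A R B ∧ ¬ ∀ a ∈ ws V A, ∀ b ∈ ws V B, a * b * a⁻¹ * b⁻¹ ∈ R := by
    by_contra hn
    push Not at hn
    exact hcon fun A R B hc a ha b hb => hn A R B hc a ha b hb
  obtain ⟨A, R, B, hc, hne⟩ := hex
  obtain ⟨f, hf, ⟨w, hw, hfw⟩, ⟨k, hk⟩, hD⟩ := h.exists_DD hF hNO hc
    (fun f hf ⟨w, hw, hfw⟩ => exists_mv h hc hf fun hcom => hfw (hcom w hw)) hne
  have hk1 : k ^ 1 ≠ 1 := by
    rw [pow_one]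
    exact hk.ne
  obtain ⟨C, hcC, hflat, w, hw, u, hu, hwu, hb, ha⟩ := Mv.flat_of h hk hk1 (hD k hk) hNO hI hne
  exact hcon (h.typN_of_flat' hcC hflat hw hu hwu hb ha)

/-- **`Mid` + `q ≥ 4` + (NO) + `FullK` gives TYPE N** -/
theorem Mid.typN_of_no (h : Mid S P V Z) (hq : 4 ≤ Nat.card Z) (hNO : NOg V Z) (hF : FullK V Z) : TypN V Z :=
  h.typN_of_innN hNO hF (innN_of h hq hNO)

end Cfsg.Agent.Omega.NO3S.MidB
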