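import Cfsg.Agent.Omega.NO3S.MidB.Main
import Cfsg.Agent.Omega.NO3S.MidB.No.DistT
import Cfsg.Agent.Omega.NO3S.MidB.No.EndB
import Cfsg.Agent.Omega.NO3S.MidB.No.InnG6

/-!
# NO-3S, natural lines, `n = 2`, `q ≥ 4`: no (D)-mover, WITHOUT `FullK` / `NFree`

* `Mid.not_typN` : `TypN` is impossible as soon as there is a critical pair;
* `Mid.flat_one` : a flat critical pair `(X, Y)` (`[W_X, W_Y] ≤ R`) has rank one: commuting elements of `W_X`, `W_Y` :
  one of them is central;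
* `Mid.no_dd` : a critical pair which is not flat has no (D)-mover.
-/

set_option autoImplicit false
set_option linter.unusedSectionVars false

namespace Cfsg.Agent.Omega.NO3S.MidB.No

open Subgroup Cfsg.Agent.Omega.NO3S.PT
open Cfsg.Agent.Omega.NO3S.MidQ (Adj Com Cr TypN)

universe u

variable {G : Type u} [Group G] [Finite G] {S : Sylow 2 G} {P V Z A R B : Subgroup G}

/-- a flat pair has rank one -/
theorem flat_one (h : Mid S P V Z) (hc : Cr V Z A R B) (hi : ∀ a ∈ ws V A, ∀ b ∈ ws V B, a * b * a⁻¹ * b⁻¹ ∈ R)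
    {w m : G} (hw : w ∈ ws V A) (hm : m ∈ ws V B) (hwm : w * m = m * w) :
    (∀ b ∈ ws V B, w * b = b * w) ∨ ∀ a ∈ ws V A, a * m = m * a := by
  by_contra hcon
  push Not at hcon
  obtain ⟨h1, h2⟩ := hcon
  exact h.no_typN (Mid.typN_of_flat' h hc hi hw hm hwm h1 h2) ⟨_, _, _, hc⟩

/-- **no (D)-mover** (no `FullK`) -/
theorem no_dd (h : Mid S P V Z) (hq : 4 ≤ Nat.card Z) (hno : NOg V Z) {f k : G} (m : Mv V Z A R B f k) {i : ℕ}
    (hi : k ^ i ≠ 1) (hbad : ¬ ∀ a ∈ ws V A, ∀ b ∈ ws V B, a * b * a⁻¹ * b⁻¹ ∈ R) : ¬ DD V A R k i := by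
  intro hd
  obtain ⟨C, hc, hf, w, hw, u, hu, hwu, hw', hu'⟩ := m.flat_of h hi hd hno (innN_of h hq hno) hbad
  exact h.no_typN (Mid.typN_of_flat' h hc hf hw hu hwu hw' hu') ⟨_, _, _, hc⟩

/-- an inner critical pair is flat -/
theorem flat_of_inn (h : Mid S P V Z) (hq : 4 ≤ Nat.card Z) (hno : NOg V Z) (hc : Inn V Z A R B) :
    ∀ a ∈ ws V A, ∀ b ∈ ws V B, a * b * a⁻¹ * b⁻¹ ∈ R := innN_of h hq hno _ _ _ hc

end Cfsg.Agent.Omega.NO3S.MidB.No
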