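import Cfsg.Agent.Omega.NO3S.MidB.Trans

/-!
# NO-3S, the `(R, B)`-frame, `n = 2`: the groups `W_C` which act on `W_R` by transvections with centre `A`

* `Flat V C A R` : `[W_C, W_R] ≤ A`; `UT V Z R A` : the group generated by the `W_C`, `C ~ A`, `Flat V C A R`;
* `TT S P V Z` : `Mid` and there is a critical triple `(C, A, R)` with `Flat V C A R`;
* `Mid.ut_comm` : `[UT, W_R] ≤ A`;
* `Mid.ut_val` : if `UT V Z R A` moves `β ∈ B ~ R`, then `[UT, β] = A` elementwise;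
* `Mid.flat_val` : `w ∈ W_R`, `w ∉ C(W_C)`: `[W_C, w] = A` elementwise;
* `TT.exists_flat` : for `R ~ A` there is a critical `(C, A, R)` with `Flat V C A R`.
-/

set_option autoImplicit false
set_option linter.unusedSectionVars false

namespace Cfsg.Agent.Omega.NO3S.MidB.No

open Subgroup Cfsg.Agent.Omega.NO3S.PT Cfsg.Agent.Omega.NoFF.Basic Cfsg.Agent.ZN
open Cfsg.Agent.Omega.NO3S.MidQ (Adj Com Cr UU ws_of kx_of isCj_iff adj_iff com_iff cr_iff UU_of isCj_symm isCj_trans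
  com_cj UU_cj le_UU normalizer_le_UU isPGroup_sSup surj_of_inj comm_inj)
open scoped Pointwise

variable {G : Type*} [Group G] {V Z X Y R L A B C A' B' C' R' : Subgroup G}

/-- `[W_C, W_R] ≤ A` -/
def Flat (V C A R : Subgroup G) : Prop := ∀ a ∈ ws V C, ∀ b ∈ ws V R, a * b * a⁻¹ * b⁻¹ ∈ A

/-- generated by the `W_C`, `C ~ A`, with `[W_C, W_R] ≤ A` -/
def UT (V Z R A : Subgroup G) : Subgroup G := sSup {W | ∃ C, Adj V Z C A ∧ Flat V C A R ∧ W = ws V C}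

theorem le_UT (hC : Adj V Z C A) (hf : Flat V C A R) : ws V C ≤ UT V Z R A := le_sSup ⟨C, hC, hf, rfl⟩

theorem UT_le_UU : UT V Z R A ≤ UU V Z A := by
  refine sSup_le ?_
  rintro _ ⟨C, hC, -, rfl⟩
  exact le_UU hC

theorem Flat.cj (hf : Flat V C A R) (g : G) : Flat V (PT.cj g C) (PT.cj g A) (PT.cj g R) := by
  intro a ha b hb
  rw [ws_cj, mem_cj] at ha hb
  have h1 := hf _ ha _ hb
  rw [mem_cj]
  have e : g⁻¹ * (a * b * a⁻¹ * b⁻¹) * g = g⁻¹ * a * g * (g⁻¹ * b * g) * (g⁻¹ * a * g)⁻¹ * (g⁻¹ * b * g)⁻¹ := by group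
  rwa [e]

theorem cj_UT_le (V Z R A : Subgroup G) (g : G) : PT.cj g (UT V Z R A) ≤ UT V Z (PT.cj g R) (PT.cj g A) := by
  rw [cj_le_iff]
  refine sSup_le ?_
  rintro _ ⟨C, hC, hf, rfl⟩
  rw [← cj_le_iff, ← ws_cj]
  exact le_UT (hC.cj g) (hf.cj g)

theorem UT_cj (V Z R A : Subgroup G) (g : G) : UT V Z (PT.cj g R) (PT.cj g A) = PT.cj g (UT V Z R A) := by
  refine le_antisymm ?_ (cj_UT_le V Z R A g)
  have h1 := cj_UT_le V Z (PT.cj g R) (PT.cj g A) g⁻¹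
  rwa [cj_cj, cj_cj, inv_mul_cancel, cj_one, cj_one, cj_le_iff, inv_inv] at h1

end Cfsg.Agent.Omega.NO3S.MidB.No

namespace Cfsg.Agent.Omega.NO3S.MidB.Mid

open Subgroup Cfsg.Agent.Omega.NO3S.PT Cfsg.Agent.Omega.NoFF.Basic Cfsg.Agent.ZN
open Cfsg.Agent.Omega.NO3S.MidB.No
open Cfsg.Agent.Omega.NO3S.MidQ (Adj Com Cr UU ws_of kx_of isCj_iff adj_iff com_iff cr_iff UU_of isCj_symm isCj_trans
  com_cj UU_cj le_UU normalizer_le_UU isPGroup_sSup surj_of_inj comm_inj)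
open scoped Pointwise

variable {G : Type*} [Group G] {V Z X Y R L A B C A' B' C' R' : Subgroup G}
variable [Finite G] {S : Sylow 2 G} {P : Subgroup G} (h : Mid S P V Z)
include h

/-- `[UT, W_R] ≤ A` -/
theorem ut_comm (hA : Adj V Z A R) {g w : G} (hg : g ∈ UT V Z R A) (hw : w ∈ ws V R) : g * w * g⁻¹ * w⁻¹ ∈ A := by
  have hcen : ∀ x ∈ A, ∀ u ∈ UU V Z A, u * x = x * u := fun x hx u hu =>
    (mem_centralizer_iff.1 (h.UU_le_cent_pt hA.left hu) x hx).symm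
  let E : Subgroup G :=
    { carrier := {g | g ∈ centralizer (A : Set G) ∧ g * w * g⁻¹ * w⁻¹ ∈ A}
      one_mem' := ⟨one_mem _, by simp⟩
      mul_mem' := by
        rintro a b ⟨ha, ha'⟩ ⟨hb, hb'⟩
        refine ⟨mul_mem ha hb, ?_⟩
        have e : a * b * w * (a * b)⁻¹ * w⁻¹ = a * (b * w * b⁻¹ * w⁻¹) * a⁻¹ * (a * w * a⁻¹ * w⁻¹) := by group
        rw [e, ← mem_centralizer_iff.1 ha _ hb', mul_inv_cancel_right]
        exact A.mul_mem hb' ha'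
      inv_mem' := by
        rintro a ⟨ha, ha'⟩
        refine ⟨inv_mem ha, ?_⟩
        have e : a⁻¹ * w * a⁻¹⁻¹ * w⁻¹ = a⁻¹ * (a * w * a⁻¹ * w⁻¹)⁻¹ * a := by group
        rw [e, mul_assoc, mem_centralizer_iff.1 ha _ (A.inv_mem ha'), inv_mul_cancel_left]
        exact A.inv_mem ha' }
  have hE : UT V Z R A ≤ E := by
    refine sSup_le ?_
    rintro _ ⟨C, hC, hf, rfl⟩ c hc
    exact ⟨h.UU_le_cent_pt hA.left (le_UU hC hc), hf c hc w hw⟩
  exact (hE hg).2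

/-- `w ∈ W_R`, `w ∉ C(W_C)`: `[W_C, w] = A` elementwise -/
theorem flat_val (hA : Adj V Z A R) (hC : Adj V Z C A) (hf : Flat V C A R) {w : G} (hw : w ∈ ws V R)
    (hmv : ∃ c ∈ ws V C, c * w ≠ w * c) {α : G} (hα : α ∈ A) : ∃ g ∈ ws V C, g * w * g⁻¹ * w⁻¹ = α := by
  -- `w` centralises `C`
  have hwC : ∀ c ∈ C, w * c = c * w := fun c hc =>
    (mem_centralizer_iff.1 (h.ws_le_cent hA.symm hC.symm hw) c hc).symm
  have hw2 : TwoEl w := h.twoEl_ws hA.right hw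
  -- a point `F ~ C` is moved by `w`
  obtain ⟨F, hF, φ₀, hφ₀, hne⟩ : ∃ F, Adj V Z F C ∧ ∃ φ ∈ F, w * φ ≠ φ * w := by
    by_contra hcon
    push Not at hcon
    have h1 : ws V C ≤ centralizer ({w} : Set G) := h.ws_le_of hC.left
      (fun c hc => mem_centralizer_singleton_iff.2 (hwC c hc).symm)
      (fun F hF φ hφ => mem_centralizer_singleton_iff.2 (hcon F hF φ hφ).symm)
    obtain ⟨c, hc, hne⟩ := hmv
    exact hne (mem_centralizer_singleton_iff.1 (h1 hc))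
  have hFC : F ≤ ws V C := h.adj_le_ws hF.symm
  have hinj : ∀ φ ∈ F, φ * w = w * φ → φ = 1 := by
    intro φ hφ e
    by_contra hφ1
    exact hne (h.t3 hF.symm hw2 hwC hφ hφ1 e.symm φ₀ hφ₀)
  obtain ⟨g, hg, e⟩ := surj_of_inj (A := F) (B := A) (by rw [h.card_pt hF.left, h.card_pt hA.left])
    (fun φ => φ * w * φ⁻¹ * w⁻¹) (fun φ hφ => hf φ (hFC hφ) w hw) (fun φ hφ φ' hφ' e =>
      inv_mul_eq_one.1 (hinj _ (mul_mem (inv_mem hφ) hφ') (comm_inj e))) α hα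
  exact ⟨g, hFC hg, e⟩

/-- if `UT V Z R A` moves `β ∈ W_R`, then `[UT, β] = A` elementwise -/
theorem ut_val (hA : Adj V Z A R) {β : G} (hβ : β ∈ ws V R) (hmv : ∃ g ∈ UT V Z R A, g * β ≠ β * g) {α : G}
    (hα : α ∈ A) : ∃ g ∈ UT V Z R A, g * β * g⁻¹ * β⁻¹ = α := by
  obtain ⟨C, hC, hf, hne⟩ : ∃ C, Adj V Z C A ∧ Flat V C A R ∧ ∃ c ∈ ws V C, c * β ≠ β * c := by
    by_contra hcon
    push Not at hcon
    obtain ⟨g, hg, hne⟩ := hmv
    have h1 : UT V Z R A ≤ centralizer ({β} : Set G) := by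
      refine sSup_le ?_
      rintro _ ⟨C, hC, hf, rfl⟩ c hc
      exact mem_centralizer_singleton_iff.2 (hcon C hC hf c hc)
    exact hne (mem_centralizer_singleton_iff.1 (h1 hg))
  obtain ⟨g, hg, e⟩ := h.flat_val hA hC hf hβ hne hα
  exact ⟨g, le_UT hC hf hg, e⟩

/-- a 2-element of `C(R)` fixing a line on `R` is trivial on it modulo `R` -/
theorem act_line (hR : IsCj Z R) (hL : IsCj V L) (hRL : R ≤ L) {x : G} (hx : TwoEl x)
    (hxR : x ∈ centralizer (R : Set G)) (hxL : PT.cj x L = L) : ∀ v ∈ L, x * v * x⁻¹ * v⁻¹ ∈ R := by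
  obtain ⟨T, Q, h'⟩ := h.flag hR hL hRL
  obtain ⟨m, hm, hmT⟩ := h'.pl.exists_le_conjB (H := normalizer (R : Set G) ⊓ normalizer (L : Set G))
    (le_inf h'.pl.S_le_N (h'.pl.SP.trans h'.pl.PN)) inf_le_left hx.isPGroup
    (zpowers_le.2 ⟨centralizer_le_normalizer _ hxR, cj_eq_iff.1 hxL⟩) (zpowers_le.2 hxR)
  intro v hv
  have h1 : x ∈ PT.cj m ((T : Subgroup G) ⊓ centralizer (R : Set G)) := hmT (mem_zpowers x)
  rw [mem_cj] at h1
  have h2 : m⁻¹ * v * m ∈ L := by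
    have h3 := (mem_normalizer_iff.1 (inv_mem hm.2) v).1 hv
    rwa [inv_inv] at h3
  have h3 := h'.pl.act _ h1 _ h2
  have h4 := (mem_normalizer_iff.1 hm.1 _).1 h3
  have e : m * (m⁻¹ * x * m * (m⁻¹ * v * m) * (m⁻¹ * x * m)⁻¹ * (m⁻¹ * v * m)⁻¹) * m⁻¹ = x * v * x⁻¹ * v⁻¹ := by
    group
  rwa [e] at h4

end Cfsg.Agent.Omega.NO3S.MidB.Mid

namespace Cfsg.Agent.Omega.NO3S.MidB.No

open Subgroup Cfsg.Agent.Omega.NO3S.PT Cfsg.Agent.Omega.NoFF.Basic Cfsg.Agent.ZN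
open Cfsg.Agent.Omega.NO3S.MidQ (Adj Com Cr UU)

variable {G : Type*} [Group G] {V Z X Y R L A B C A' B' C' R' : Subgroup G} [Finite G] {S : Sylow 2 G}
  {P : Subgroup G}

/-- `Mid` and a flat critical triple -/
structure TT (S : Sylow 2 G) (P V Z : Subgroup G) : Prop extends Mid S P V Z where
  ex : ∃ C A R, Cr V Z C A R ∧ Flat V C A R

namespace TT

variable (h : TT S P V Z)
include h

/-- for `R ~ A` there is a flat critical triple `(C, A, R)` -/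
theorem exists_flat (hA : Adj V Z A R) : ∃ C, Cr V Z C A R ∧ Flat V C A R := by
  obtain ⟨C, A₀, R₀, hc, hf⟩ := h.ex
  obtain ⟨g, hg1, hg2⟩ := h.exists_adj hc.r hA
  refine ⟨PT.cj g C, ?_, ?_⟩
  · have h1 := hc.cj g
    rwa [hg1, hg2] at h1
  · have h1 := hf.cj g
    rwa [hg1, hg2] at h1

end TT

end Cfsg.Agent.Omega.NO3S.MidB.No
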